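import Cfsg.Agent.Lib.CITExt.Sz.Natural
import Cfsg.Agent.Lib.CITExt.Module

/-!
A Suzuki group has neither a non-zero equivariant alternating map between fixed-point-free modules of exponent two nor
a fixed-point-free module of exponent four.
-/

set_option autoImplicit false
set_option linter.unusedSectionVars false
set_option linter.style.haveILetI false

namespace CfsgLib.CITExt.Sz

open CfsgLib.Suzuki
open scoped TensorProduct

universe v

variable {F : Type} [Field F] [Fintype F] {m : ℕ} (hF : Fintype.card F = 2 ^ (2 * m + 1))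
variable {V : Type v} [AddCommGroup V] [Module (ZMod 2) V] [Algebra (ZMod 2) F]

theorem exists_pre [Finite V] {G : Type*} [Monoid G] (ρ : G →* Module.End (ZMod 2) V) (hρ : Fpf ρ) (g : G) (hg : g ≠ 1)
    (ho : Odd (orderOf g)) : ∃ r : V →ₗ[ZMod 2] V,
      r.comp (ρ g - (LinearMap.id : V →ₗ[ZMod 2] V)) = (LinearMap.id : V →ₗ[ZMod 2] V) := by
  have hinj : Function.Injective (ρ g - (LinearMap.id : V →ₗ[ZMod 2] V)) := by
    rw [← LinearMap.ker_eq_bot, Submodule.eq_bot_iff]
    intro x hx
    exact hρ g hg ho x (sub_eq_zero.mp (LinearMap.mem_ker.mp hx))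
  exact LinearMap.exists_leftInverse_of_injective _ (LinearMap.ker_eq_bot.mpr hinj)

/-- The extension of scalars of a representation. -/
noncomputable def extRep (ρ : SZ F m →* Module.End (ZMod 2) V) : SZ F m →* Module.End F (F ⊗[ZMod 2] V) :=
  (Module.End.baseChangeHom (ZMod 2) F V).toRingHom.toMonoidHom.comp ρ

theorem extRep_tmul (ρ : SZ F m →* Module.End (ZMod 2) V) (g : SZ F m) (a : F) (x : V) :
    extRep ρ g (a ⊗ₜ x) = a ⊗ₜ ρ g x := rfl

theorem fpf_extRep [Finite V] {ρ : SZ F m →* Module.End (ZMod 2) V} (hρ : Fpf ρ) : Fpf (extRep ρ) := by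
  intro g hg ho x hx
  obtain ⟨r, hr⟩ := exists_pre ρ hρ g hg ho
  have h1 : (ρ g - LinearMap.id).baseChange F x = 0 := by
    rw [LinearMap.baseChange_sub, LinearMap.baseChange_id, LinearMap.sub_apply, LinearMap.id_apply, sub_eq_zero]
    exact hx
  have h2 := congrArg (fun f : V →ₗ[ZMod 2] V => f.baseChange F x) hr
  simp only [LinearMap.baseChange_comp, LinearMap.coe_comp, Function.comp_apply, h1, map_zero,
    LinearMap.baseChange_id, LinearMap.id_apply] at h2
  exact h2.symm

theorem one_tmul_ne {x : V} (hx : x ≠ 0) : (1 : F) ⊗ₜ[ZMod 2] x ≠ 0 := by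
  haveI : Fact (Nat.Prime 2) := ⟨Nat.prime_two⟩
  obtain ⟨f, hf⟩ := Module.Projective.exists_dual_ne_zero (ZMod 2) hx
  intro h
  have h1 : TensorProduct.rid (ZMod 2) F ((LinearMap.lTensor F f) ((1 : F) ⊗ₜ[ZMod 2] x)) = 0 := by
    rw [h, map_zero, map_zero]
  rw [LinearMap.lTensor_tmul, TensorProduct.rid_tmul, Algebra.smul_def, mul_one] at h1
  exact hf ((map_eq_zero _).mp h1)

omit [Algebra (ZMod 2) F] in
/-- The representation of exponent two as a linear one. -/
def linRep {G : Type*} [Group G] (φ : G →* AddMonoid.End V) : G →* Module.End (ZMod 2) V where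
  toFun g := AddMonoidHom.toZModLinearMap 2 (φ g)
  map_one' := LinearMap.ext fun x => DFunLike.congr_fun (map_one φ) x
  map_mul' g h := LinearMap.ext fun x => DFunLike.congr_fun (map_mul φ g h) x

omit [Algebra (ZMod 2) F] in
theorem linRep_apply {G : Type*} [Group G] (φ : G →* AddMonoid.End V) (g : G) (x : V) : linRep φ g x = φ g x := rfl

include hF

open scoped Classical in
/-- The element of the group ring does not kill a module of exponent two. -/
theorem linRep_sum_ne [Finite V] [Nontrivial V] (hm : 1 ≤ m) (idx : Fˣ → ℕ) (hidx : Function.Injective idx)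
    (ρ : SZ F m →* Module.End (ZMod 2) V) (hρ : Fpf ρ) :
    ∃ x, (∑ b : Fˣ, ∑ c : Fˣ, if idx b < idx c then ρ (zB hF ((b : F) + (c : F)) * hB hF (b * c)) else 0) x ≠ 0 := by
  classical
  by_contra hcon
  push Not at hcon
  haveI : Finite (F ⊗[ZMod 2] V) := Module.finite_of_finite F
  haveI : Nontrivial (F ⊗[ZMod 2] V) := by
    obtain ⟨x, hx⟩ := exists_ne (0 : V)
    exact ⟨⟨_, _, one_tmul_ne hx⟩⟩
  refine tSum_ne_zero hF hm idx hidx (extRep ρ) (fpf_extRep hρ) ?_
  have h0 : (∑ b : Fˣ, ∑ c : Fˣ, if idx b < idx c then ρ (zB hF ((b : F) + (c : F)) * hB hF (b * c)) else 0) = 0 :=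
    LinearMap.ext hcon
  have h := congrArg (Module.End.baseChangeHom (ZMod 2) F V) h0
  simp only [map_sum, map_zero, apply_ite (Module.End.baseChangeHom (ZMod 2) F V)] at h
  simp only [tSum]
  refine Eq.trans ?_ h
  refine Finset.sum_congr rfl fun b _ => Finset.sum_congr rfl fun c _ => ?_
  split_ifs <;> rfl

omit [Algebra (ZMod 2) F] [Module (ZMod 2) V] in
/-- Fixed-point-free modules of exponent dividing four have exponent two. -/
theorem noFour (hm : 1 ≤ m) : NoFour.{0, v} (SZ F m) := by
  intro A _ _ φ h4 hφ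
  classical
  haveI := charTwo hF
  letI : Algebra (ZMod 2) F := ZMod.algebra F 2
  set h : Fˣ → AddMonoid.End A := fun b => φ (hB hF b) with hh
  obtain ⟨c₀, hc₀⟩ : ∃ c : Fˣ, c ≠ 1 := by
    haveI : Nontrivial Fˣ := by
      rw [← Fintype.one_lt_card_iff_nontrivial, Fintype.card_units, hF]
      have : 2 ^ 3 ≤ 2 ^ (2 * m + 1) := Nat.pow_le_pow_right (by norm_num) (by omega)
      omega
    exact exists_ne 1
  have hsum : ∑ b : Fˣ, h b = 0 := by
    refine AddMonoidHom.ext fun a => ?_
    show (∑ b : Fˣ, h b) a = 0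
    refine hφ (hB hF c₀) (fun e => hc₀ (hB_injective hF (by rw [e, map_one]))) (hB_odd hF c₀) _ ?_
    show (φ (hB hF c₀) * ∑ b : Fˣ, h b) a = _
    rw [Finset.mul_sum]
    congr 1
    exact Fintype.sum_equiv (Equiv.mulLeft c₀) _ _ fun b => by simp [h, map_mul]
  have hX : ∑ b : Fˣ, φ (zB hF (b : F)) * h b = 0 := by
    calc ∑ b : Fˣ, φ (zB hF (b : F)) * h b = ∑ b : Fˣ, h b * φ (zB hF 1) :=
          Finset.sum_congr rfl fun b _ => by
            simp only [h]
            rw [← map_mul, ← map_mul, hB_zB, mul_one]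
      _ = 0 := by rw [← Finset.sum_mul, hsum, zero_mul]
  set T : Fˣ → Fˣ → AddMonoid.End A := fun b c => φ (zB hF ((b : F) + (c : F)) * hB hF (b * c)) with hT
  have hall : ∑ c : Fˣ, ∑ b : Fˣ, T b c = 0 := by
    calc ∑ c : Fˣ, ∑ b : Fˣ, T b c = ∑ c : Fˣ, φ (zB hF (c : F)) * (∑ b : Fˣ, φ (zB hF (b : F)) * h b) * h c := by
          refine Finset.sum_congr rfl fun c _ => ?_
          rw [Finset.mul_sum, Finset.sum_mul]
          refine Finset.sum_congr rfl fun b _ => ?_
          simp only [h, T]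
          rw [← map_mul, ← map_mul, ← map_mul, ← mul_assoc, mul_assoc _ (hB hF b), ← map_mul, zB, zB, uS_mul,
            th_zero, zero_mul, add_zero, add_zero, add_comm (c : F)]
      _ = 0 := by simp [hX]
  have hTT : ∀ b c, T b c = T c b := fun b c => by
    simp only [T]
    rw [add_comm (b : F), mul_comm b]
  have hdiag : ∑ b : Fˣ, T b b = 0 := by
    rw [← hsum]
    have hsq : Function.Bijective fun b : Fˣ => b * b := by
      refine Finite.injective_iff_bijective.mp fun a b hab => ?_
      have : ((a : F) * a) = (b : F) * b := congrArg Units.val hab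
      rw [← sq, ← sq] at this
      exact Units.ext (CharTwo.sq_injective this)
    refine Fintype.sum_equiv (Equiv.ofBijective _ hsq) _ _ fun b => ?_
    simp only [T, h, Equiv.ofBijective_apply]
    rw [CharTwo.add_self_eq_zero, zB, uS_zero, one_mul]
  let idx : Fˣ → ℕ := fun b => (Fintype.equivFin Fˣ b).val
  have hidx : Function.Injective idx := fun a b e => (Fintype.equivFin Fˣ).injective (Fin.ext e)
  set T₀ : AddMonoid.End A := ∑ b : Fˣ, ∑ c : Fˣ, if idx b < idx c then T b c else 0 with hT₀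
  have h2T : T₀ + T₀ = 0 := by
    have e : ∑ c : Fˣ, ∑ b : Fˣ, T b c = T₀ + T₀ + ∑ b : Fˣ, T b b := by
      have e1 : ∀ c b, T b c = (if idx b < idx c then T b c else 0) + (if idx c < idx b then T b c else 0) +
          (if b = c then T b c else 0) := by
        intro c b
        rcases lt_trichotomy (idx b) (idx c) with hlt | hlt | hlt
        · rw [if_pos hlt, if_neg hlt.asymm, if_neg fun e => hlt.ne (by rw [e]), add_zero, add_zero]
        · rw [hidx hlt, if_neg (lt_irrefl _), if_pos rfl, zero_add, zero_add]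
        · rw [if_pos hlt, if_neg hlt.asymm, if_neg fun e => hlt.ne (by rw [e]), add_zero, zero_add]
      rw [Finset.sum_congr rfl fun c _ => Finset.sum_congr rfl fun b _ => e1 c b]
      simp only [Finset.sum_add_distrib]
      congr 1
      · congr 1
        · rw [hT₀]; exact Finset.sum_comm
        · rw [hT₀]
          exact Finset.sum_congr rfl fun c _ => Finset.sum_congr rfl fun b _ => by
            split_ifs
            · exact hTT _ _
            · rfl
      · exact Finset.sum_congr rfl fun c _ => by simp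
    rw [hall, hdiag, add_zero] at e
    exact e.symm
  let M : AddSubgroup A := (nsmulAddMonoidHom (α := A) 2).range
  have hinv : ∀ g, ∀ x ∈ M, φ g x ∈ M := by
    rintro g _ ⟨y, rfl⟩
    exact ⟨φ g y, (map_nsmul (φ g) 2 y).symm⟩
  let ψ : SZ F m →* AddMonoid.End M :=
    { toFun := fun g => ((φ g).comp M.subtype).codRestrict M fun x => hinv g _ x.2
      map_one' := AddMonoidHom.ext fun x => Subtype.ext (DFunLike.congr_fun (map_one φ) x.1)
      map_mul' := fun g k => AddMonoidHom.ext fun x => Subtype.ext (DFunLike.congr_fun (map_mul φ g k) x.1) }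
  have hM2 : ∀ x : M, 2 • x = 0 := by
    rintro ⟨_, y, rfl⟩
    refine Subtype.ext ?_
    show 2 • (2 • y) = 0
    rw [smul_smul, show 2 * 2 = 4 from rfl, h4]
  letI : Module (ZMod 2) M := AddCommGroup.zmodModule hM2
  intro a
  by_contra ha
  haveI : Nontrivial M := ⟨⟨⟨2 • a, a, rfl⟩, 0, fun e => ha (congrArg Subtype.val e)⟩⟩
  obtain ⟨⟨_, y, rfl⟩, hy⟩ := linRep_sum_ne hF hm idx hidx (linRep ψ)
    (fun g hg ho x hx => Subtype.ext (hφ g hg ho _ (congrArg Subtype.val hx)))
  refine hy (Subtype.ext ?_)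
  have h0 : T₀ (2 • y) = 0 := by
    rw [map_nsmul, two_nsmul]
    exact DFunLike.congr_fun h2T y
  rw [ZeroMemClass.coe_zero, ← h0, hT₀]
  simp only [LinearMap.sum_apply, AddSubmonoidClass.coe_finsetSum]
  refine Eq.trans ?_ (AddMonoidHom.finsetSum_apply _ _ _).symm
  refine Finset.sum_congr rfl fun b _ => Eq.trans ?_ (AddMonoidHom.finsetSum_apply _ _ _).symm
  refine Finset.sum_congr rfl fun c _ => ?_
  split_ifs <;> rfl

omit [Algebra (ZMod 2) F] [Module (ZMod 2) V] in
/-- Equivariant alternating maps of fixed-point-free modules of exponent two vanish. -/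
theorem noPair (hm : 1 ≤ m) : NoPair.{0, v} (SZ F m) := by
  intro V W _ _ _ _ φ ψ hV hW hφ hψ β hβ _
  classical
  haveI := charTwo hF
  letI : Algebra (ZMod 2) F := ZMod.algebra F 2
  letI : Module (ZMod 2) V := AddCommGroup.zmodModule fun x => by rw [two_nsmul, hV]
  letI : Module (ZMod 2) W := AddCommGroup.zmodModule fun x => by rw [two_nsmul, hW]
  let β₂ : V →ₗ[ZMod 2] (V →ₗ[ZMod 2] W) := AddMonoidHom.toZModLinearMap 2
    (AddMonoidHom.mk' (fun x => AddMonoidHom.toZModLinearMap 2 (β x))
      fun a b => LinearMap.ext fun z => by simp)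
  let g₀ : V →ₗ[ZMod 2] (F ⊗[ZMod 2] V →ₗ[F] F ⊗[ZMod 2] W) :=
    (LinearMap.baseChangeHom (ZMod 2) F V W).comp β₂
  let βF : F ⊗[ZMod 2] V →ₗ[F] F ⊗[ZMod 2] V →ₗ[F] F ⊗[ZMod 2] W :=
    TensorProduct.AlgebraTensorModule.lift (LinearMap.toSpanSingleton F _ g₀)
  have hβF : ∀ a x b y, βF (a ⊗ₜ x) (b ⊗ₜ y) = a • (b ⊗ₜ β x y) := fun a x b y => rfl
  haveI : Finite (F ⊗[ZMod 2] V) := Module.finite_of_finite F
  haveI : Finite (F ⊗[ZMod 2] W) := Module.finite_of_finite F
  have h0 : βF = 0 := pair_zero hF hm (fpf_extRep (ρ := linRep φ) hφ) (fpf_extRep (ρ := linRep ψ) hψ)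
    (Nat.card (F ⊗[ZMod 2] V)) (extRep (linRep φ)) le_rfl (fpf_extRep (ρ := linRep φ) hφ) βF fun g x x' => by
      induction x using TensorProduct.induction_on with
      | zero => simp
      | add a b ha hb => simp only [map_add, LinearMap.add_apply, ha, hb]
      | tmul a x =>
        induction x' using TensorProduct.induction_on with
        | zero => simp
        | add a b ha hb => simp only [map_add, ha, hb]
        | tmul b y =>
          rw [extRep_tmul, extRep_tmul, hβF, hβF, map_smul, extRep_tmul]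
          simp only [linRep_apply, hβ]
  refine AddMonoidHom.ext fun x => AddMonoidHom.ext fun y => ?_
  by_contra hne
  have h := LinearMap.congr_fun (LinearMap.congr_fun h0 ((1 : F) ⊗ₜ x)) ((1 : F) ⊗ₜ y)
  rw [hβF, one_smul] at h
  exact one_tmul_ne hne h

end CfsgLib.CITExt.Sz
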