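import Cfsg.Agent.Lib.CITExt.Sz.Entries

/-!
# Extensions of 2-groups by Suzuki groups with fixed point free elements of odd prime order
-/

set_option autoImplicit false
set_option linter.unusedSectionVars false
set_option linter.style.haveILetI false

namespace CfsgLib.CITExtSz

open CfsgLib.Suzuki
open scoped Classical IsMulCommutative

variable {F : Type*} [Field F] [Fintype F] {m : ℕ}
variable {G : Type*} [Group G] [Finite G] {S : Type*} [Group S]

/-- A surjection whose kernel is a 2-group on which elements of odd prime order have no fixed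
points. -/
structure Hyp (θ : G →* S) : Prop where
  surj : Function.Surjective θ
  two : IsPGroup 2 θ.ker
  fpf : ∀ g : G, ∀ p : ℕ, p.Prime → p ≠ 2 → orderOf g = p →
    ∀ x ∈ θ.ker, g * x = x * g → x = 1

theorem exists_lift {θ : G →* S} (hs : Function.Surjective θ) (h2 : IsPGroup 2 θ.ker) {s : S}
    {p : ℕ} (hp : p.Prime) (hp2 : p ≠ 2) (hso : orderOf s = p) :
    ∃ g, θ g = s ∧ orderOf g = p := by
  haveI : Fact p.Prime := ⟨hp⟩
  obtain ⟨g₀, rfl⟩ := hs s
  have hk : g₀ ^ p ∈ θ.ker := by rw [MonoidHom.mem_ker, map_pow, ← hso, pow_orderOf_eq_one]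
  obtain ⟨k, hk'⟩ := h2 ⟨_, hk⟩
  have hcop : Nat.Coprime (2 ^ k) p :=
    Nat.Coprime.pow_left _ ((Nat.coprime_primes Nat.prime_two hp).2 hp2.symm)
  obtain ⟨c, -, hc⟩ := Nat.exists_mul_mod_eq_one_of_coprime hcop hp.one_lt
  refine ⟨g₀ ^ (2 ^ k * c), ?_, ?_⟩
  · rw [map_pow, pow_eq_mod_orderOf_aux θ g₀ hso hc]
  · refine orderOf_eq_prime ?_ ?_
    · rw [← pow_mul, show 2 ^ k * c * p = p * 2 ^ k * c by ring, pow_mul, pow_mul]
      have : (g₀ ^ p) ^ 2 ^ k = 1 := by
        simpa using congr_arg Subtype.val hk'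
      rw [this, one_pow]
    · intro h
      have := congr_arg θ h
      rw [map_pow, pow_eq_mod_orderOf_aux θ g₀ hso hc, map_one] at this
      rw [this, orderOf_one] at hso
      exact hp.ne_one hso.symm
where
  pow_eq_mod_orderOf_aux {G S : Type _} [Group G] [Group S] (θ : G →* S) (g₀ : G) {p k c : ℕ}
      (hso : orderOf (θ g₀) = p) (hc : 2 ^ k * c % p = 1) : θ g₀ ^ (2 ^ k * c) = θ g₀ := by
    rw [← pow_mod_orderOf, hso, hc, pow_one]

/-- In a quotient by a normal subgroup of the kernel the hypothesis persists. -/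
theorem Hyp.quotient {θ : G →* S} (h : Hyp θ) (M : Subgroup G) [M.Normal] (hM : M ≤ θ.ker) :
    Hyp (QuotientGroup.lift M θ hM) := by
  haveI : Fact (Nat.Prime 2) := ⟨Nat.prime_two⟩
  have hker : ∀ x : G, ((x : G ⧸ M) ∈ (QuotientGroup.lift M θ hM).ker ↔ x ∈ θ.ker) := fun x => by
    rw [MonoidHom.mem_ker, MonoidHom.mem_ker, QuotientGroup.lift_mk]
  constructor
  · intro s
    obtain ⟨g, rfl⟩ := h.surj s
    exact ⟨g, rfl⟩
  · rintro ⟨y, hy⟩
    obtain ⟨x, rfl⟩ := QuotientGroup.mk_surjective y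
    obtain ⟨k, hk⟩ := h.two ⟨x, (hker x).1 hy⟩
    refine ⟨k, Subtype.ext ?_⟩
    show (x : G ⧸ M) ^ 2 ^ k = 1
    rw [← QuotientGroup.mk_pow, show x ^ 2 ^ k = 1 by simpa using congr_arg Subtype.val hk]
    rfl
  · intro gb p hp hp2 ho xb hx hcomm
    haveI : Fact p.Prime := ⟨hp⟩
    obtain ⟨g, rfl, hg⟩ := exists_lift (θ := QuotientGroup.mk' M) (QuotientGroup.mk'_surjective M)
      (by rw [QuotientGroup.ker_mk']; exact h.two.to_le hM) hp hp2 ho
    obtain ⟨x, rfl⟩ := QuotientGroup.mk'_surjective M xb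
    have hgc : g * x * g⁻¹ * x⁻¹ ∈ M := by
      rw [← QuotientGroup.eq_one_iff]
      show QuotientGroup.mk' M (g * x * g⁻¹ * x⁻¹) = 1
      rw [map_mul, map_mul, map_mul, hcomm, map_inv, map_inv, mul_inv_cancel_right, mul_inv_cancel]
    -- conjugation by powers of `g` on the coset
    let T : Set G := {z | z * x⁻¹ ∈ M}
    have hT : ∀ u ∈ Subgroup.zpowers g, ∀ z ∈ T, u * z * u⁻¹ ∈ T := by
      intro u hu
      obtain ⟨n, rfl⟩ := Submonoid.mem_powers_iff _ _ |>.1
        ((isOfFinOrder_of_finite g).mem_powers_iff_mem_zpowers.2 hu)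
      induction n with
      | zero => intro z hz; simpa using hz
      | succ n ih =>
        intro z hz
        have hz' : g * z * g⁻¹ * x⁻¹ ∈ M := by
          have e : g * z * g⁻¹ * x⁻¹ = (g * (z * x⁻¹) * g⁻¹) * (g * x * g⁻¹ * x⁻¹) := by group
          rw [e]
          exact mul_mem (Subgroup.Normal.conj_mem inferInstance _ hz g) hgc
        have := ih (Subgroup.mem_zpowers_iff.2 ⟨n, zpow_natCast g n⟩) _ hz'
        simpa [pow_succ, mul_assoc] using this
    letI : MulAction (Subgroup.zpowers g) T :=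
      { smul := fun u z => ⟨(u : G) * z * (u : G)⁻¹, hT _ u.2 _ z.2⟩
        one_smul := fun z => Subtype.ext (show (1 : G) * (z : G) * (1 : G)⁻¹ = z by simp)
        mul_smul := fun u v z => Subtype.ext
          (show (u : G) * v * z * ((u : G) * v)⁻¹ = u * (v * z * (v : G)⁻¹) * (u : G)⁻¹ by group) }
    have hPG : IsPGroup p (Subgroup.zpowers g) :=
      IsPGroup.of_card (n := 1) (by rw [Nat.card_zpowers, hg, pow_one])
    have hcard : Nat.card T = Nat.card M := Nat.card_congr
      { toFun := fun z => ⟨(z : G) * x⁻¹, z.2⟩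
        invFun := fun n => ⟨(n : G) * x, by show (n : G) * x * x⁻¹ ∈ M; simp⟩
        left_inv := fun z => Subtype.ext (by simp)
        right_inv := fun n => Subtype.ext (by simp) }
    obtain ⟨j, hj⟩ := IsPGroup.iff_card.1 (h.two.to_le hM)
    obtain ⟨⟨z, hzT⟩, hz⟩ : (MulAction.fixedPoints (Subgroup.zpowers g) T).Nonempty := by
      refine hPG.nonempty_fixed_point_of_prime_not_dvd_card T ?_
      rw [hcard, hj]
      exact fun hd => hp2 ((Nat.prime_dvd_prime_iff_eq hp Nat.prime_two).1 (hp.dvd_of_dvd_pow hd))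
    have hzg : g * z * g⁻¹ = z :=
      congr_arg Subtype.val (hz ⟨g, Subgroup.mem_zpowers g⟩)
    have hzk : z ∈ θ.ker := by
      have hxk : x ∈ θ.ker := (hker x).1 hx
      have := mul_mem (hM hzT) hxk
      simpa using this
    have hz1 := h.fpf g p hp hp2 hg z hzk (by
      calc g * z = g * z * g⁻¹ * g := by simp
        _ = z * g := by rw [hzg])
    have hxM : x ∈ M := by
      have : z * x⁻¹ ∈ M := hzT
      rw [hz1, one_mul] at this
      exact inv_mem_iff.1 this
    exact (QuotientGroup.eq_one_iff x).2 hxM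

/-- A set section of a surjection. -/
noncomputable def sect {θ : G →* S} (h : Hyp θ) (s : S) : G := Function.surjInv h.surj s

theorem sect_spec {θ : G →* S} (h : Hyp θ) (s : S) : θ (sect h s) = s := Function.surjInv_eq h.surj s

/-- The action on a normal commutative subgroup centralised by the kernel. -/
noncomputable def act {θ : G →* S} (h : Hyp θ) (N : Subgroup G) [N.Normal] [IsMulCommutative N]
    (hc : ∀ u ∈ θ.ker, ∀ x ∈ N, u * x = x * u) : S →* AddMonoid.End (Additive N) where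
  toFun s := AddMonoidHom.mk' (fun x => Additive.ofMul
      ⟨sect h s * (Additive.toMul x).1 * (sect h s)⁻¹,
        Subgroup.Normal.conj_mem inferInstance _ (Additive.toMul x).2 _⟩)
    (fun x y => by
      refine Additive.toMul.injective (Subtype.ext ?_)
      show sect h s * ((Additive.toMul x).1 * (Additive.toMul y).1) * (sect h s)⁻¹ = _
      exact (conj_mul (a := (Additive.toMul x).1) (b := (sect h s)) (c := (Additive.toMul y).1)).symm)
  map_one' := by
    refine AddMonoidHom.ext fun x => Additive.toMul.injective (Subtype.ext ?_)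
    show sect h 1 * (Additive.toMul x).1 * (sect h 1)⁻¹ = (Additive.toMul x).1
    rw [hc _ (by rw [MonoidHom.mem_ker, sect_spec]) _ (Additive.toMul x).2, mul_inv_cancel_right]
  map_mul' s t := by
    refine AddMonoidHom.ext fun x => Additive.toMul.injective (Subtype.ext ?_)
    show sect h (s * t) * (Additive.toMul x).1 * (sect h (s * t))⁻¹ =
      sect h s * (sect h t * (Additive.toMul x).1 * (sect h t)⁻¹) * (sect h s)⁻¹
    have hk : (sect h s * sect h t)⁻¹ * sect h (s * t) ∈ θ.ker := by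
      simp [MonoidHom.mem_ker, sect_spec]
    have := hc _ hk _ (Additive.toMul x).2
    calc _ = sect h s * sect h t * (((sect h s * sect h t)⁻¹ * sect h (s * t)) *
          (Additive.toMul x).1) * (sect h (s * t))⁻¹ := by group
      _ = _ := by rw [this]; group

theorem act_apply {θ : G →* S} (h : Hyp θ) (N : Subgroup G) [N.Normal] [IsMulCommutative N]
    (hc : ∀ u ∈ θ.ker, ∀ x ∈ N, u * x = x * u) {g : G} {s : S} (hg : θ g = s) (x : Additive N) :
    ((Additive.toMul (α := N) (act h N hc s x)) : G) = g * (Additive.toMul x).1 * g⁻¹ := by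
  show sect h s * (Additive.toMul x).1 * (sect h s)⁻¹ = _
  have hk : g⁻¹ * sect h s ∈ θ.ker := by simp [MonoidHom.mem_ker, sect_spec, hg]
  have := hc _ hk _ (Additive.toMul x).2
  calc _ = g * ((g⁻¹ * sect h s) * (Additive.toMul x).1) * (sect h s)⁻¹ := by group
    _ = _ := by rw [this]; group

variable (hF : Fintype.card F = 2 ^ (2 * m + 1))
include hF

theorem act_fixed_eq_zero {θ : G →* ↥(Cfsg.Sz F m)} (h : Hyp θ) (N : Subgroup G) [N.Normal]
    [IsMulCommutative N] (hN : N ≤ θ.ker) (hc : ∀ u ∈ θ.ker, ∀ x ∈ N, u * x = x * u)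
    {s : ↥(Cfsg.Sz F m)} {p : ℕ} (hp : p.Prime) (hp2 : p ≠ 2) (hs : orderOf s = p) (x : Additive N)
    (hx : act h N hc s x = x) : x = 0 := by
  obtain ⟨g, hg, hgo⟩ := exists_lift h.surj h.two hp hp2 hs
  have e := act_apply h N hc hg x
  rw [hx] at e
  have := h.fpf g p hp hp2 hgo _ (hN (Additive.toMul x).2) (by
    nth_rewrite 2 [e]; group)
  exact Additive.toMul.injective (Subtype.ext this)

theorem act_five {θ : G →* ↥(Cfsg.Sz F m)} (h : Hyp θ) (N : Subgroup G) [N.Normal]
    [IsMulCommutative N] (hN : N ≤ θ.ker) (hc : ∀ u ∈ θ.ker, ∀ x ∈ N, u * x = x * u)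
    (x : Additive N) : ∑ k ∈ Finset.range 5, act h N hc (x5 hF ^ k) x = 0 := by
  refine act_fixed_eq_zero hF h N hN hc (by norm_num) (by norm_num) (x5_orderOf hF) _ ?_
  rw [map_sum]
  have : ∀ k, act h N hc (x5 hF) (act h N hc (x5 hF ^ k) x) = act h N hc (x5 hF ^ (k + 1)) x := by
    intro k; rw [pow_succ', map_mul (act h N hc)]; rfl
  simp only [this, Finset.sum_range_succ, Finset.sum_range_zero, zero_add, pow_zero]
  norm_num only
  rw [x5_pow_five hF]
  abel

theorem act_tor (hm : 1 ≤ m) {θ : G →* ↥(Cfsg.Sz F m)} (h : Hyp θ) (N : Subgroup G) [N.Normal]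
    [IsMulCommutative N] (hN : N ≤ θ.ker) (hc : ∀ u ∈ θ.ker, ∀ x ∈ N, u * x = x * u)
    (x : Additive N) : ∑ t : Fˣ, act h N hc (dS hF t) x = 0 := by
  have h1 : 1 < Fintype.card Fˣ := by
    rw [Fintype.card_units, hF]
    have : 2 ^ 3 ≤ 2 ^ (2 * m + 1) := Nat.pow_le_pow_right (by norm_num) (by omega)
    omega
  obtain ⟨p, hp, hpd⟩ := Nat.exists_prime_and_dvd h1.ne'
  haveI : Fact p.Prime := ⟨hp⟩
  obtain ⟨t0, ht0⟩ := exists_prime_orderOf_dvd_card (G := Fˣ) p hpd
  have hp2 : p ≠ 2 := by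
    rintro rfl
    rw [Fintype.card_units, hF] at hpd
    have h2 : 2 ∣ 2 ^ (2 * m + 1) := dvd_pow_self _ (by omega)
    have := Nat.one_le_two_pow (n := 2 * m + 1)
    omega
  refine act_fixed_eq_zero hF h N hN hc hp hp2 (s := dS hF t0) ?_ _ ?_
  · exact ((orderOf_injective (MonoidHom.mk' (dS hF) (fun a b => (dS_mul hF a b).symm))
      (fun a b hab => dS_inj hF hab) t0).trans ht0)
  · rw [map_sum, ← Equiv.sum_comp (Equiv.mulLeft t0) (fun t => act h N hc (dS hF t) x)]
    refine Finset.sum_congr rfl fun t _ => ?_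
    rw [Equiv.coe_mulLeft, ← dS_mul, map_mul (act h N hc)]
    rfl

end CfsgLib.CITExtSz
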