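import Cfsg.Agent.Lib.CITExt.Sz.Rep

/-!
# Equivariant bilinear maps between fixed point free Suzuki modules vanish
-/

set_option autoImplicit false
set_option linter.unusedSectionVars false

namespace CfsgLib.CITExtSz

open CfsgLib.Suzuki Matrix
open scoped Classical

variable {F : Type*} [Field F] [Fintype F] {m : ℕ}
variable {V W Y : Type*} [AddCommGroup V] [Module F V] [AddCommGroup W] [Module F W]
  [AddCommGroup Y] [Module F Y]

/-- A simple representation. -/
def Simp (ρ : Rep F m V) : Prop := ∀ S : Submodule F V, Inv ρ S → S ≠ ⊥ → S = ⊤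

/-- An equivariant bilinear map. -/
def Equivar (ρ : Rep F m V) (σ : Rep F m W) (τ : Rep F m Y) (B : V →ₗ[F] W →ₗ[F] Y) : Prop :=
  ∀ g a b, B (ρ g a) (σ g b) = τ g (B a b)

/-- The action on linear maps. -/
noncomputable def homRep (σ : Rep F m W) (τ : Rep F m Y) : Rep F m (W →ₗ[F] Y) where
  toFun g :=
    { toFun := fun f => (τ g).comp (f.comp (σ g⁻¹))
      map_add' := fun f f' => by ext; simp
      map_smul' := fun a f => by ext; simp }
  map_one' := by ext f x; simp
  map_mul' g h := by ext f x; simp [rep_mul]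

theorem Equivar.flip {ρ : Rep F m V} {σ : Rep F m W} {τ : Rep F m Y} {B : V →ₗ[F] W →ₗ[F] Y}
    (h : Equivar ρ σ τ B) : Equivar σ ρ τ B.flip := fun g a b => h g b a

theorem Equivar.map_rep {ρ : Rep F m V} {σ : Rep F m W} {τ : Rep F m Y} {B : V →ₗ[F] W →ₗ[F] Y}
    (h : Equivar ρ σ τ B) (g : ↥(Cfsg.Sz F m)) (a : V) : homRep σ τ g (B a) = B (ρ g a) := by
  refine LinearMap.ext fun x => ?_
  show τ g (B a (σ g⁻¹ x)) = B (ρ g a) x
  rw [← h, rep_cancel_inv]

theorem exists_simple [FiniteDimensional F V] (ρ : Rep F m V) (S₀ : Submodule F V) (h₀ : Inv ρ S₀)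
    (hne : S₀ ≠ ⊥) :
    ∃ (S : Submodule F V) (hS : Inv ρ S), S ≠ ⊥ ∧ S ≤ S₀ ∧ Simp (subRep ρ S hS) := by
  haveI : Finite V := Module.finite_of_finite F
  haveI : Finite (Submodule F V) := Finite.of_injective _ SetLike.coe_injective
  obtain ⟨S, hS⟩ := (Set.toFinite {S : Submodule F V | Inv ρ S ∧ S ≠ ⊥ ∧ S ≤ S₀}).exists_minimal
    ⟨S₀, h₀, hne, le_rfl⟩
  refine ⟨S, hS.1.1, hS.1.2.1, hS.1.2.2, fun T hT hTne => ?_⟩
  have hmap : T.map S.subtype ≤ S := Submodule.map_subtype_le S T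
  have hge : S ≤ T.map S.subtype := hS.2 ⟨?_, ?_, hmap.trans hS.1.2.2⟩ hmap
  · rw [eq_top_iff]
    intro x _
    obtain ⟨y, hy, hyx⟩ := Submodule.mem_map.1 (hge x.2)
    rwa [← Subtype.ext hyx]
  · rintro g _ ⟨y, hy, rfl⟩
    exact ⟨subRep ρ S hS.1.1 g y, hT g y hy, rfl⟩
  · intro h
    refine hTne ((Submodule.eq_bot_iff T).2 fun x hx => ?_)
    have hx' : S.subtype x ∈ T.map S.subtype := Submodule.mem_map_of_mem hx
    rw [h, Submodule.mem_bot] at hx'
    exact Subtype.ext hx'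

variable (hF : Fintype.card F = 2 ^ (2 * m + 1)) (hm : 1 ≤ m)
include hF hm

theorem high_pow [FiniteDimensional F V] {ρ : Rep F m V} (hρ : Fpf hF ρ) {e : ℕ}
    (he : e < Fintype.card F - 1) {v : V} (hv : IsHigh hF ρ e v) (hv0 : v ≠ 0) :
    ∃ (i : Fin (2 * m + 1)) (η : Module.Dual F V), e = 2 ^ (i : ℕ) ∧ η (ρ (wS hF) v) ≠ 0 ∧
      ∀ g, η (ρ g v) = η (ρ (wS hF) v) * mat g 3 0 ^ 2 ^ (i : ℕ) := by
  obtain ⟨η, -, -, hη, -, -⟩ := exists_top hF ρ hv0
  obtain ⟨i, hi, h1, h2⟩ := coeff_formula hF hm hρ he hv hη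
  exact ⟨i, η, hi, h1, h2⟩

/-- A functional on an orbit span whose weight is a power of two. -/
theorem exists_top_pow [FiniteDimensional F V] {ρ : Rep F m V} (hρ : Fpf hF ρ) {v : V} (hv : v ≠ 0) :
    ∃ (η : Module.Dual F V) (l : Fin (2 * m + 1)), IsTop hF ρ v η ∧
      ∀ t, ∀ x ∈ orbSpan ρ v, η (ρ (dS hF t) x) = (dl m t⁻¹ : F) ^ 2 ^ (l : ℕ) * η x := by
  obtain ⟨η, e, he, hη, htor, φ, hφ0, hφ⟩ := exists_top hF ρ hv
  obtain ⟨l, -, rfl, -, -⟩ := high_pow hF hm (hρ.sub _ (orbSpan_inv ρ v)).dual he hφ hφ0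
  exact ⟨η, l, hη, htor⟩

/-- The orbit of a high vector in a simple module behaves like a twisted natural module. -/
theorem exists_frame [FiniteDimensional F V] {ρ : Rep F m V} (hρ : Fpf hF ρ) (hs : Simp ρ)
    (hne : ∃ x : V, x ≠ 0) :
    ∃ (i : Fin (2 * m + 1)) (v : V) (e : Fin 4 → V),
      IsHigh hF ρ (2 ^ (i : ℕ)) v ∧ orbSpan ρ v = ⊤ ∧
      (∀ g, ρ g v = ∑ k, mat g k 0 ^ 2 ^ (i : ℕ) • e k) ∧
      ∀ k, e k ∈ Submodule.span F (Set.range fun p => ρ (pc hF p) v) := by
  haveI := charTwo hF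
  obtain ⟨x, hx⟩ := hne
  obtain ⟨v, -, hv0, e, he, hv⟩ := exists_high hF ρ ⊤ (fun _ _ _ => Submodule.mem_top)
    (fun h => hx (by simpa [h] using (Submodule.mem_top : x ∈ (⊤ : Submodule F V))))
  obtain ⟨i, η, rfl, hβ, hc⟩ := high_pow hF hm hρ he hv hv0
  have hspan : orbSpan ρ v = ⊤ := hs _ (orbSpan_inv ρ v) fun h =>
    hv0 (by simpa [h] using self_mem_orbSpan ρ v)
  have hsep : ∀ y : V, (∀ g, η (ρ g y) = 0) → y = 0 := by
    let K : Submodule F V := ⨅ g, LinearMap.ker (η.comp (ρ g))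
    have hK : Inv ρ K := by
      intro g y hy
      simp only [K, Submodule.mem_iInf, LinearMap.mem_ker, LinearMap.comp_apply] at hy ⊢
      intro h; rw [← rep_mul]; exact hy (h * g)
    intro y hy
    by_contra hy0
    have hyK : y ∈ K := by simpa [K, Submodule.mem_iInf] using hy
    have hKt := hs K hK fun h => hy0 (by simpa [h] using hyK)
    have hvK : v ∈ K := hKt ▸ Submodule.mem_top
    simp only [K, Submodule.mem_iInf, LinearMap.mem_ker, LinearMap.comp_apply] at hvK
    exact hβ (hvK _)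
  -- coefficients expressing the standard basis
  let L : (F × F → F) →ₗ[F] (Fin 4 → F) :=
    { toFun := fun c l => ∑ p, c p * col m p l ^ 2 ^ (i : ℕ)
      map_add' := fun c c' => by funext l; simp [add_mul, Finset.sum_add_distrib]
      map_smul' := fun a c => by funext l; simp [Finset.mul_sum, mul_assoc] }
  have hL : LinearMap.range L = ⊤ := by
    by_contra hL
    obtain ⟨φ, hφ0, hφ⟩ := Submodule.exists_le_ker_of_lt_top _ (lt_top_iff_ne_top.2 hL)
    refine hφ0 ?_
    have hC := single_eq_zero hF i (fun k => φ (Pi.single k 1)) fun p => by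
      have h0 := LinearMap.mem_ker.1 (hφ ⟨Pi.single p 1, rfl⟩)
      have e0 : L (Pi.single p 1) = fun l => col m p l ^ 2 ^ (i : ℕ) := by
        funext l; simp [L, Pi.single_apply]
      rw [e0, pi_eq_sum_univ' (fun l => col m p l ^ 2 ^ (i : ℕ)), map_sum] at h0
      simpa [mul_comm] using h0
    exact (Pi.basisFun F (Fin 4)).ext fun k => by simpa using congr_fun hC k
  choose c hcc using fun k : Fin 4 =>
    (LinearMap.range_eq_top.1 hL) (Pi.single k 1 : Fin 4 → F)
  refine ⟨i, v, fun k => ∑ p, c k p • ρ (pc hF p) v, hv, hspan, fun g => ?_, fun k =>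
    Submodule.sum_mem _ fun p _ => Submodule.smul_mem _ _ (Submodule.subset_span ⟨p, rfl⟩)⟩
  refine sub_eq_zero.1 (hsep _ fun h => ?_)
  have hkey : ∀ k, ∑ p, c k p * mat (h * pc hF p) 3 0 ^ 2 ^ (i : ℕ) = mat h 3 k ^ 2 ^ (i : ℕ) := by
    intro k
    simp only [mat_mul, Matrix.mul_apply, sum_pow_char_pow, mul_pow, pc_col hF, Finset.mul_sum]
    rw [Finset.sum_comm]
    calc _ = ∑ l, mat h 3 l ^ 2 ^ (i : ℕ) * L (c k) l := by
          refine Finset.sum_congr rfl fun l _ => ?_
          simp only [L, LinearMap.coe_mk, AddHom.coe_mk, Finset.mul_sum]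
          exact Finset.sum_congr rfl fun p _ => by ring
      _ = _ := by simp [hcc k, Pi.single_apply]
  have hcomp : ∀ a, η (ρ h (ρ a v)) = η (ρ (wS hF) v) * mat (h * a) 3 0 ^ 2 ^ (i : ℕ) := fun a => by
    rw [← rep_mul, hc]
  simp only [map_sub, map_sum, map_smul, hcomp, smul_eq_mul]
  rw [sub_eq_zero, mat_mul h g, Matrix.mul_apply, sum_pow_char_pow, Finset.mul_sum]
  refine Finset.sum_congr rfl fun k _ => ?_
  rw [mul_pow, ← hkey k, Finset.sum_mul, Finset.mul_sum, Finset.mul_sum]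
  exact Finset.sum_congr rfl fun p _ => by ring

omit hm in
theorem sum_two_pow_ne {i j l : ℕ} (hij : i ≠ j) : 2 ^ i + 2 ^ j ≠ 2 ^ l := by
  intro h
  rcases Nat.lt_or_gt_of_ne hij with hlt | hlt
  · have h1 := Nat.pow_lt_pow_right (by norm_num : 1 < 2) hlt
    have h2 : 2 ^ j < 2 ^ l := by have := Nat.two_pow_pos i; omega
    have h3 := Nat.pow_le_pow_right (by norm_num : 0 < 2)
      (Nat.succ_le_of_lt ((Nat.pow_lt_pow_iff_right (by norm_num)).1 h2))
    rw [pow_succ] at h3; omega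
  · have h1 := Nat.pow_lt_pow_right (by norm_num : 1 < 2) hlt
    have h2 : 2 ^ i < 2 ^ l := by have := Nat.two_pow_pos j; omega
    have h3 := Nat.pow_le_pow_right (by norm_num : 0 < 2)
      (Nat.succ_le_of_lt ((Nat.pow_lt_pow_iff_right (by norm_num)).1 h2))
    rw [pow_succ] at h3; omega

/-- Powers of `dl` separate exponents below `q - 1`. -/
theorem dl_pow_inj {a b : ℕ} (ha : a < Fintype.card F - 1) (hb : b < Fintype.card F - 1)
    (h : ∀ t : Fˣ, (dl m t : F) ^ a = (dl m t : F) ^ b) : a = b := by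
  obtain ⟨g, hg⟩ := IsCyclic.exists_generator (α := Fˣ)
  obtain ⟨t, rfl⟩ := (dl_bijective hF).2 g
  have ho : orderOf (dl m t) = Fintype.card F - 1 := by
    rw [orderOf_eq_card_of_forall_mem_zpowers hg, Nat.card_eq_fintype_card, Fintype.card_units]
  exact pow_injOn_Iio_orderOf (x := dl m t) (by rw [Set.mem_Iio, ho]; exact ha) (by rw [Set.mem_Iio, ho]; exact hb)
    (Units.ext (by simpa using h t))

theorem tor_low {ρ : Rep F m V} {e : ℕ} {v : V} (hv : IsHigh hF ρ e v) (t : Fˣ) :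
    ρ (dS hF t) (ρ (wS hF) v) = ((dl m t⁻¹ : F) ^ e) • ρ (wS hF) v := by
  rw [← rep_mul, show dS hF t * wS hF = wS hF * dS hF t⁻¹ by
    rw [← wS_dS, ← mul_assoc, ← mul_assoc, wS_mul_self, one_mul], rep_mul, hv.tor, map_smul]

/-- **Bilinear maps between simple fixed point free modules vanish.** -/
theorem bilin_simple [FiniteDimensional F V] [FiniteDimensional F W] [FiniteDimensional F Y]
    {ρ : Rep F m V} {σ : Rep F m W} {τ : Rep F m Y} (hρ : Fpf hF ρ) (hσ : Fpf hF σ)
    (hτ : Fpf hF τ) (hsρ : Simp ρ) (hsσ : Simp σ) {B : V →ₗ[F] W →ₗ[F] Y}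
    (hB : Equivar ρ σ τ B) : B = 0 := by
  haveI := charTwo hF
  rcases em (∃ x : V, x ≠ 0) with hV | hV
  swap
  · push Not at hV; exact LinearMap.ext fun x => by simp [hV x]
  rcases em (∃ x : W, x ≠ 0) with hW | hW
  swap
  · push Not at hW; exact LinearMap.ext fun x => LinearMap.ext fun y => by simp [hW y]
  obtain ⟨i, v, e, hv, hVs, hfr, hev⟩ := exists_frame hF hm hρ hsρ hV
  obtain ⟨j, v', e', hv', hWs, hfr', hev'⟩ := exists_frame hF hm hσ hsσ hW
  -- it is enough that `B v` vanishes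
  suffices hBv : B v = 0 by
    refine LinearMap.ext_on (s := Set.range fun g => ρ g v) hVs ?_
    rintro _ ⟨g, rfl⟩
    rw [← hB.map_rep, hBv, map_zero, LinearMap.zero_apply]
  have hWle : ⊤ ≤ Submodule.span F (Set.range fun p => σ (pc hF p) v') := by
    rw [← hWs, orbSpan, Submodule.span_le]
    rintro _ ⟨g, rfl⟩
    show σ g v' ∈ Submodule.span F (Set.range fun p => σ (pc hF p) v')
    rw [hfr' g]
    exact Submodule.sum_mem _ fun k _ => Submodule.smul_mem _ _ (hev' k)
  have hdd : ∀ (t : Fˣ) (n : ℕ), (dl m t : F) ^ n * (dl m t⁻¹ : F) ^ n = 1 := by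
    intro t n
    rw [← mul_pow, ← Units.val_mul, ← dl_mul, mul_inv_cancel, dl_one, Units.val_one, one_pow]
  by_cases hij : i = j
  · subst hij
    have hz : B v (σ (wS hF) v') = 0 := hτ.eq_zero_of_fixed fun t => by
      rw [← hB, hv.tor, tor_low hF hm hv', map_smul, map_smul, LinearMap.smul_apply, smul_smul,
        mul_comm, hdd, one_smul]
    refine LinearMap.ext_on (top_le_iff.1 hWle) ?_
    rintro _ ⟨p, rfl⟩
    show B v (σ (pc hF p) v') = 0
    rw [pc, rep_mul, ← hv.fix p.1 p.2, hB, hz, map_zero]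
  · set y := B (ρ (wS hF) v) (σ (wS hF) v') with hy
    set y₀ := B v v' with hy₀
    have hyy : τ (wS hF) y₀ = y := by rw [hy, hB]
    have hcolp : ∀ g, B (ρ g v) (σ g v') =
        ∑ k, ∑ l, (mat g k 0 ^ 2 ^ (i : ℕ) * mat g l 0 ^ 2 ^ (j : ℕ)) • B (e k) (e' l) := by
      intro g
      rw [hfr, hfr']
      simp only [map_sum, map_smul, LinearMap.sum_apply, LinearMap.smul_apply, Finset.smul_sum,
        smul_smul]
      rw [Finset.sum_comm]
      exact Finset.sum_congr rfl fun k _ => Finset.sum_congr rfl fun l _ => by rw [mul_comm]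
    have hpy : ∀ p : F × F, B (ρ (pc hF p) v) (σ (pc hF p) v') = τ (uS hF p.1 p.2) y := by
      intro p
      rw [pc, rep_mul, rep_mul, hB]
    have hy0 : y = 0 := by
      by_contra hne
      obtain ⟨η, l, hη, htor⟩ := exists_top_pow hF hm hτ hne
      have hηy : η y = 0 := by
        by_contra h0
        have hlt : 2 ^ (i : ℕ) + 2 ^ (j : ℕ) < Fintype.card F - 1 := by
          have hne' : (i : ℕ) ≠ j := fun h => hij (Fin.ext h)
          have h3 : 2 ^ (2 * m - 1) ≥ 2 := by
            calc 2 = 2 ^ 1 := rfl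
              _ ≤ _ := Nat.pow_le_pow_right (by norm_num) (by omega)
          have h4 : 2 ^ (2 * m) = 2 * 2 ^ (2 * m - 1) := by
            rw [← pow_succ']; congr 1; omega
          have hb : ∀ a : Fin (2 * m + 1), 2 ^ (a : ℕ) ≤ 2 ^ (2 * m) := fun a =>
            Nat.pow_le_pow_right (by norm_num) (by omega)
          have hs : ∀ a b : ℕ, a < b → b ≤ 2 * m → 2 ^ a + 2 ^ b ≤ 2 ^ (2 * m - 1) + 2 ^ (2 * m) :=
            fun a b hab hb => Nat.add_le_add (Nat.pow_le_pow_right (by norm_num) (by omega))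
              (Nat.pow_le_pow_right (by norm_num) hb)
          rw [hF, pow_succ]
          rcases Nat.lt_or_gt_of_ne hne' with h | h
          · have := hs _ _ h (by omega); omega
          · have := hs _ _ h (by omega); omega
        refine sum_two_pow_ne hF (fun h => hij (Fin.ext h)) (dl_pow_inj hF hm hlt ?_ fun t => ?_ :
          2 ^ (i : ℕ) + 2 ^ (j : ℕ) = 2 ^ (l : ℕ))
        · have := sum_two_pow_ne (F := F) (m := m) hF (l := 2 * m + 1) (i := (l : ℕ)) (j := 0)
          have h4 : 4 ≤ 2 ^ (2 * m) := by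
            calc 4 = 2 ^ 2 := rfl
              _ ≤ _ := Nat.pow_le_pow_right (by norm_num) (by omega)
          have := Nat.pow_le_pow_right (by norm_num : 0 < 2) (show (l : ℕ) ≤ 2 * m by omega)
          rw [hF, pow_succ]; omega
        · have e1 := htor t⁻¹ y (self_mem_orbSpan τ y)
          rw [hy, ← hB, tor_low hF hm hv, tor_low hF hm hv'] at e1
          simp only [map_smul, LinearMap.smul_apply, smul_eq_mul, ← hy, inv_inv] at e1
          rw [← mul_assoc, ← pow_add] at e1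
          rw [add_comm] at e1
          first
            | exact mul_right_cancel₀ h0 e1
            | (rw [add_comm]; exact mul_right_cancel₀ h0 e1)
      have hC := pair_eq_zero hF hij (fun k l => η (B (e k) (e' l))) fun p => by
        have h1 := congr_arg η (hcolp (pc hF p))
        rw [hpy, hη.fix _ _ _ (self_mem_orbSpan τ y), hηy] at h1
        simp only [map_sum, map_smul, smul_eq_mul, pc_col hF] at h1
        rw [h1]
        exact Finset.sum_congr rfl fun k _ => Finset.sum_congr rfl fun l _ => mul_comm _ _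
      obtain ⟨g, hg⟩ := hη.ne
      refine hg ?_
      rw [← hyy, ← rep_mul, hy₀, ← hB, hcolp, map_sum]
      refine Finset.sum_eq_zero fun k _ => ?_
      rw [map_sum]
      refine Finset.sum_eq_zero fun l _ => ?_
      rw [map_smul, congr_fun (congr_fun hC k) l, Pi.zero_apply, Pi.zero_apply, smul_zero]
    -- now every value on pairs of basis vectors vanishes
    have hall : ∀ k l, B (e k) (e' l) = 0 := by
      intro k l
      refine (Module.forall_dual_apply_eq_zero_iff F _).1 fun ψ => ?_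
      refine congr_fun (congr_fun (pair_eq_zero hF hij (fun k l => ψ (B (e k) (e' l))) fun p => ?_) k) l
      have h1 := congr_arg ψ (hcolp (pc hF p))
      rw [hpy, hy0, map_zero, map_zero] at h1
      simp only [map_sum, map_smul, smul_eq_mul, pc_col hF] at h1
      rw [h1]
      exact Finset.sum_congr rfl fun k _ => Finset.sum_congr rfl fun l _ => mul_comm _ _
    refine LinearMap.ext_on (top_le_iff.1 hWle) ?_
    rintro _ ⟨p, rfl⟩
    show B v (σ (pc hF p) v') = 0
    have h1 := hfr 1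
    rw [map_one, Module.End.one_apply] at h1
    rw [h1, hfr' (pc hF p)]
    simp [hall]

/-- One reduction step: replace the left factor by a simple module. -/
theorem reduce_left [FiniteDimensional F V] [FiniteDimensional F W] [FiniteDimensional F Y]
    {ρ : Rep F m V} {σ : Rep F m W} {τ : Rep F m Y} (hρ : Fpf hF ρ) {B : V →ₗ[F] W →ₗ[F] Y}
    (hB : Equivar ρ σ τ B) (hne : B ≠ 0) :
    ∃ (S : Submodule F (W →ₗ[F] Y)) (hS : Inv (homRep σ τ) S),
      Fpf hF (subRep _ S hS) ∧ Simp (subRep _ S hS) ∧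
      Equivar (subRep _ S hS) σ τ S.subtype ∧ S.subtype ≠ 0 := by
  have hr : Inv (homRep σ τ) (LinearMap.range B) := by
    rintro g _ ⟨a, rfl⟩
    exact ⟨ρ g a, (hB.map_rep g a).symm⟩
  obtain ⟨S, hS, hS0, hle, hs⟩ := exists_simple (homRep σ τ) (LinearMap.range B) hr
    (fun h => hne (LinearMap.range_eq_bot.1 h))
  refine ⟨S, hS, ?_, hs, ?_, ?_⟩
  · constructor
    · refine LinearMap.ext fun f => Subtype.ext ?_
      obtain ⟨a, ha⟩ := hle f.2
      rw [LinearMap.sum_apply, Submodule.coe_sum]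
      simp only [subRep_apply, ← ha, hB.map_rep]
      rw [← map_sum, ← LinearMap.sum_apply, hρ.tor]
      simp
    · refine LinearMap.ext fun f => Subtype.ext ?_
      obtain ⟨a, ha⟩ := hle f.2
      rw [LinearMap.sum_apply, Submodule.coe_sum]
      simp only [subRep_apply, ← ha, hB.map_rep]
      rw [← map_sum, ← LinearMap.sum_apply, hρ.five]
      simp
  · intro g f b
    show τ g ((f : W →ₗ[F] Y) (σ g⁻¹ (σ g b))) = τ g ((f : W →ₗ[F] Y) b)
    rw [rep_inv_cancel]
  · intro h
    refine hS0 (Submodule.eq_bot_iff S |>.2 fun f hf => ?_)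
    exact LinearMap.congr_fun h ⟨f, hf⟩

/-- **Equivariant bilinear maps between fixed point free modules vanish.** -/
theorem bilin_zero [FiniteDimensional F V] [FiniteDimensional F W] [FiniteDimensional F Y]
    {ρ : Rep F m V} {σ : Rep F m W} {τ : Rep F m Y} (hρ : Fpf hF ρ) (hσ : Fpf hF σ)
    (hτ : Fpf hF τ) {B : V →ₗ[F] W →ₗ[F] Y} (hB : Equivar ρ σ τ B) : B = 0 := by
  by_contra hne
  obtain ⟨S, hS, hfS, hsS, hBS, hne1⟩ := reduce_left hF hm hρ hB hne
  obtain ⟨R, hR, hfR, hsR, hBR, hne2⟩ := reduce_left hF hm hσ hBS.flip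
    (fun h => hne1 (by rw [← LinearMap.flip_flip S.subtype, h]; rfl))
  exact hne2 (bilin_simple hF hm hfR hfS hτ hsR hsS hBR)

end CfsgLib.CITExtSz
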