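import Cfsg.Agent.Lib.CITExt.Sz.Tensor
import Cfsg.Agent.Lib.Suzuki.Fpf

/-!
An irreducible module of a Suzuki group in characteristic two on which the elements of odd order act without fixed
points is a twist of the natural module.
-/

set_option autoImplicit false
set_option linter.unusedSectionVars false
set_option linter.style.haveILetI false

namespace CfsgLib.CITExt.Sz

open Matrix CfsgLib.Suzuki

universe v w

variable {F : Type} [Field F] [Fintype F] {m : ℕ} (hF : Fintype.card F = 2 ^ (2 * m + 1))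
variable {V : Type v} [AddCommGroup V] [Module F V]

/-- Non-trivial elements of odd order have no non-zero fixed vector. -/
def Fpf {K : Type*} [Semiring K] {G : Type*} [Monoid G] {M : Type*} [AddCommMonoid M] [Module K M]
    (ρ : G →* Module.End K M) : Prop :=
  ∀ g, g ≠ 1 → Odd (orderOf g) → ∀ x, ρ g x = x → x = 0

/-- No invariant subspace other than the two trivial ones. -/
def Irr {K : Type*} [Semiring K] {G : Type*} [Monoid G] {M : Type*} [AddCommMonoid M] [Module K M]
    (ρ : G →* Module.End K M) : Prop :=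
  Nontrivial M ∧ ∀ N : Submodule K M, (∀ g, ∀ x ∈ N, ρ g x ∈ N) → N = ⊥ ∨ N = ⊤

section Torus

/-- The square of the multiplier of the torus. -/
noncomputable def phi : Fˣ →* Fˣ where
  toFun t := Units.mk0 (th m (t : F) * (t : F) ^ 2)
    (mul_ne_zero (fun h => t.ne_zero (th_eq_zero_iff.mp h)) (pow_ne_zero _ t.ne_zero))
  map_one' := Units.ext (by simp)
  map_mul' t s := Units.ext (by simp [th_mul, mul_pow]; ring)

include hF in
theorem phi_bijective : Function.Bijective (phi (F := F) (m := m)) := by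
  refine Finite.injective_iff_bijective.mp ((injective_iff_map_eq_one _).mpr fun t ht => Units.ext ?_)
  exact eq_one_of_th_sq hF (congrArg Units.val ht)

/-- The torus, parametrised by its action on the centre of the unipotent group. -/
noncomputable def hB : Fˣ →* SZ F m :=
  (dHomS hF).comp (MulEquiv.ofBijective (phi (F := F) (m := m)) (phi_bijective hF)).symm.toMonoidHom

/-- The parameter. -/
noncomputable def root (b : Fˣ) : Fˣ := (MulEquiv.ofBijective (phi (F := F) (m := m)) (phi_bijective hF)).symm b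

theorem hB_eq (b : Fˣ) : hB hF b = dS hF (root hF b) := rfl

theorem root_spec (b : Fˣ) : th m (root hF b : F) * (root hF b : F) ^ 2 = (b : F) :=
  congrArg Units.val ((MulEquiv.ofBijective (phi (F := F) (m := m)) (phi_bijective hF)).apply_symm_apply b)

theorem dS_eq_hB (t : Fˣ) : dS hF t = hB hF (phi (m := m) t) := by
  rw [hB_eq]
  exact congrArg (dS hF) ((MulEquiv.ofBijective (phi (F := F) (m := m)) (phi_bijective hF)).symm_apply_apply t).symm

/-- The central elements of the unipotent group. -/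
abbrev zB (s : F) : SZ F m := uS hF 0 s

theorem hB_zB (b : Fˣ) (s : F) : hB hF b * zB hF s = zB hF ((b : F) * s) * hB hF b := by
  rw [hB_eq, zB, dS_mul_uS, mul_zero, root_spec]

theorem hB_uS (b : Fˣ) (x y : F) : ∃ x' y', hB hF b * uS hF x y = uS hF x' y' * hB hF b :=
  ⟨_, _, dS_mul_uS hF _ _ _⟩

theorem wS_hB (b : Fˣ) : wS hF * hB hF b = hB hF b⁻¹ * wS hF := by
  have h := wS_dS hF (root hF b)
  have h1 : dS hF (root hF b)⁻¹ = hB hF b⁻¹ := by rw [← dS_inv, ← hB_eq, map_inv]
  rw [h1] at h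
  rw [hB_eq, ← h, mul_assoc, mul_assoc, wS_mul_self, mul_one]

theorem hB_injective : Function.Injective (hB hF) := fun a b h =>
  (MulEquiv.ofBijective (phi (F := F) (m := m)) (phi_bijective hF)).symm.injective (dS_inj hF h)

theorem odd_card_units : Odd (2 ^ (2 * m + 1) - 1) :=
  Nat.Even.sub_odd Nat.one_le_two_pow (Nat.even_pow.mpr ⟨even_two, by omega⟩) odd_one

theorem hB_odd (b : Fˣ) : Odd (orderOf (hB hF b)) := by
  classical
  refine (odd_card_units (m := m)).of_dvd_nat ((orderOf_map_dvd (hB hF) b).trans ?_)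
  rw [← hF, ← Fintype.card_units]
  exact orderOf_dvd_card

theorem root_top (b : Fˣ) : th m (root hF b : F) * (root hF b : F) = (b : F) ^ 2 ^ m := by
  conv_rhs => rw [← root_spec hF b, mul_pow, th, ← pow_mul, ← pow_add, show m + 1 + m = 2 * m + 1 by omega, ← hF,
    FiniteField.pow_card, ← pow_mul, mul_comm 2 (2 ^ m), ← pow_succ]
  rw [th, mul_comm]

theorem root_val (b : Fˣ) : (root hF b : F) = (b : F) / (b : F) ^ 2 ^ m := by
  rw [eq_div_iff (pow_ne_zero _ b.ne_zero), ← root_top hF b]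
  conv_rhs => rw [← root_spec hF b]
  ring

theorem twist_top {ι : Type} (e : ι → ℕ) (i : ι) (x : F) :
    twist hF e i (x ^ 2 ^ m) = x ^ 2 ^ e i := by
  rw [twist, frob_apply, ← pow_mul, ← pow_add, show m + (e i + (m + 1)) = (2 * m + 1) + e i by omega, pow_add,
    pow_mul, ← hF, FiniteField.pow_card]

theorem tRep_hB_top {ι : Type} [Fintype ι] [DecidableEq ι] (e : ι → ℕ) (b : Fˣ) :
    tRep hF e (hB hF b) top = ((b : F) ^ ∑ i, 2 ^ e i) • top := by
  rw [hB_eq, top, tRep_dS_single, ← Finset.prod_pow_eq_pow_sum]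
  congr 1
  exact Finset.prod_congr rfl fun i _ => by simp only [Matrix.cons_val_zero, root_top hF]; exact twist_top hF e i _

theorem wS_top {ι : Type} [Fintype ι] [DecidableEq ι] (e : ι → ℕ) : tRep hF e (wS hF) top = bot := by
  rw [top, tRep_wS_single]
  rfl

end Torus

section Aug

/-- The span of the differences under the unipotent group. -/
def aug (ρ : SZ F m →* Module.End F V) : Submodule F V :=
  Submodule.span F {y | ∃ a b x, y = ρ (uS hF a b) x - x}

variable (ρ : SZ F m →* Module.End F V)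

theorem sub_mem_aug (a b : F) (x : V) : ρ (uS hF a b) x - x ∈ aug hF ρ := Submodule.subset_span ⟨a, b, x, rfl⟩

theorem ρ_mul (g h : SZ F m) (x : V) : ρ (g * h) x = ρ g (ρ h x) := by
  rw [map_mul]; rfl

theorem ρ_inv (g : SZ F m) (x : V) : ρ g⁻¹ (ρ g x) = x := by
  rw [← ρ_mul, inv_mul_cancel, map_one]; rfl

theorem aug_invariant (b : Fˣ) {y : V} (hy : y ∈ aug hF ρ) : ρ (hB hF b) y ∈ aug hF ρ := by
  refine Submodule.span_induction ?_ (by simp) (fun x y _ _ hx hy => by rw [map_add]; exact add_mem hx hy)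
    (fun c x _ hx => by rw [map_smul]; exact Submodule.smul_mem _ c hx) hy
  rintro _ ⟨a, c, x, rfl⟩
  obtain ⟨a', c', h⟩ := hB_uS hF b a c
  rw [map_sub, ← ρ_mul, h, ρ_mul]
  exact sub_mem_aug hF ρ _ _ _

theorem aug_invariant_U {y : V} (hy : y ∈ aug hF ρ) (a b : F) : ρ (uS hF a b) y ∈ aug hF ρ := by
  have := add_mem (sub_mem_aug hF ρ a b y) hy
  rwa [sub_add_cancel] at this

/-- A subspace invariant under the unipotent group is not spanned by its differences. -/
theorem eq_bot_of_le_aug [FiniteDimensional F V] (X : Submodule F V) (hX : ∀ a b, ∀ x ∈ X, ρ (uS hF a b) x ∈ X)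
    (h : X ≤ Submodule.span F {y | ∃ a b, ∃ x ∈ X, y = ρ (uS hF a b) x - x}) : X = ⊥ := by
  by_contra hne
  haveI := charTwo hF
  have hU : ∀ u : ↥(U hF), ∀ x ∈ X, ρ (u : SZ F m) x ∈ X := fun u x hx => by
    obtain ⟨a, b, hab⟩ := (mem_U hF).mp u.2
    rw [hab]; exact hX a b x hx
  let σ : ↥(U hF) →* Module.End F X :=
    { toFun := fun u => (ρ (u : SZ F m)).restrict (hU u)
      map_one' := LinearMap.ext fun x => Subtype.ext (by simp)
      map_mul' := fun u v => LinearMap.ext fun x => Subtype.ext (by simp) }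
  let τ : ↥(U hF) →* Module.End F (Module.Dual F X) :=
    { toFun := fun u => (σ u⁻¹).dualMap
      map_one' := LinearMap.ext fun l => LinearMap.ext fun x => by simp
      map_mul' := fun u v => LinearMap.ext fun l => LinearMap.ext fun x => by simp }
  haveI : Nontrivial X := Submodule.nontrivial_iff_ne_bot.mpr hne
  haveI : Finite (Module.Dual F X) := Module.finite_of_finite F
  obtain ⟨l, hl0, hl⟩ := exists_fixed (U_isPGroup hF) τ
  have hfix : ∀ a b, ∀ x : X, l ⟨ρ (uS hF a b) x, hX a b x x.2⟩ = l x := by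
    intro a b x
    have h1 := LinearMap.congr_fun (hl ⟨uS hF a b, (mem_U hF).mpr ⟨a, b, rfl⟩⟩)
      ⟨ρ (uS hF a b) x, hX a b x x.2⟩
    rw [← h1]
    show l (σ _ _) = l x
    congr 1
    exact Subtype.ext (ρ_inv ρ _ _)
  refine hl0 (LinearMap.ext fun x => ?_)
  have hle : Submodule.span F {y | ∃ a b, ∃ x ∈ X, y = ρ (uS hF a b) x - x} ≤ (LinearMap.ker l).map X.subtype := by
    rw [Submodule.span_le]
    rintro _ ⟨a, b, y, hy, rfl⟩
    refine ⟨⟨ρ (uS hF a b) y, hX a b y hy⟩ - ⟨y, hy⟩, ?_, rfl⟩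
    rw [SetLike.mem_coe, LinearMap.mem_ker, map_sub, hfix a b ⟨y, hy⟩, sub_self]
  obtain ⟨z, hz, e⟩ := hle (h x.2)
  rw [← Subtype.ext e]
  exact hz

end Aug

variable (ρ : SZ F m →* Module.End F V)

/-- The span of the translates of a vector. -/
def uSpan (x : V) : Submodule F V := Submodule.span F {y | ∃ a b, y = ρ (uS hF a b) x}

theorem mem_uSpan (x : V) (a b : F) : ρ (uS hF a b) x ∈ uSpan hF ρ x := Submodule.subset_span ⟨a, b, rfl⟩

theorem uSpan_invariant (x : V) (a b : F) {y : V} (hy : y ∈ uSpan hF ρ x) : ρ (uS hF a b) y ∈ uSpan hF ρ x := by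
  refine Submodule.span_induction ?_ (by simp) (fun x y _ _ hx hy => by rw [map_add]; exact add_mem hx hy)
    (fun c x _ hx => by rw [map_smul]; exact Submodule.smul_mem _ c hx) hy
  rintro _ ⟨a', b', rfl⟩
  rw [← ρ_mul, uS_mul]
  exact mem_uSpan hF ρ x _ _

/-- A highest vector. -/
structure Highest (x : V) (e : ℕ) : Prop where
  ne : x ≠ 0
  fix : ∀ a b, ρ (uS hF a b) x = x
  wt : ∀ b : Fˣ, ρ (hB hF b) x = ((b : F) ^ e) • x

variable {hF ρ} in
theorem Highest.low {x : V} {e : ℕ} (h : Highest hF ρ x e) (b : Fˣ) :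
    ρ (hB hF b) (ρ (wS hF) x) = (((b⁻¹ : Fˣ) : F) ^ e) • ρ (wS hF) x := by
  have e1 : hB hF b * wS hF = wS hF * hB hF b⁻¹ := by rw [wS_hB, inv_inv]
  rw [← ρ_mul, e1, ρ_mul, h.wt, map_smul]

variable {hF ρ} in
theorem Highest.orbit_le (hm : 1 ≤ m) {x : V} {e : ℕ} (h : Highest hF ρ x e) (g : SZ F m) :
    ρ g x ∈ Submodule.span F {x} ⊔ uSpan hF ρ (ρ (wS hF) x) := by
  rcases exists_closure_form hF hm g with ⟨a, b, t, rfl⟩ | ⟨a, b, c, d, t, rfl⟩
  · refine Submodule.mem_sup_left ?_
    rw [ρ_mul, dS_eq_hB, h.wt, map_smul, h.fix]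
    exact Submodule.smul_mem _ _ (Submodule.mem_span_singleton_self x)
  · refine Submodule.mem_sup_right ?_
    rw [ρ_mul, ρ_mul _ (uS hF c d), ρ_mul, dS_eq_hB, h.wt, map_smul, map_smul, map_smul, h.fix]
    exact Submodule.smul_mem _ _ (mem_uSpan hF ρ _ a b)

variable {hF ρ} in
theorem Highest.low_not_mem [FiniteDimensional F V] (hm : 1 ≤ m) (hirr : Irr ρ) {x : V} {e : ℕ}
    (h : Highest hF ρ x e) : ρ (wS hF) x ∉ aug hF ρ := by
  intro hmem
  set X := uSpan hF ρ (ρ (wS hF) x)
  let O : Submodule F V := Submodule.span F (Set.range fun g => ρ g x)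
  have hO : O = ⊤ := by
    refine (hirr.2 O fun g y hy => ?_).resolve_left fun e' => h.ne ?_
    · refine Submodule.span_induction ?_ (by simp) (fun x y _ _ hx hy => by rw [map_add]; exact add_mem hx hy)
        (fun c x _ hx => by rw [map_smul]; exact Submodule.smul_mem _ c hx) hy
      rintro _ ⟨g', rfl⟩
      exact Submodule.subset_span ⟨g * g', ρ_mul ρ g g' x⟩
    · have : x ∈ O := Submodule.subset_span ⟨1, by simp⟩
      rwa [e', Submodule.mem_bot] at this
  have htop : ∀ y : V, y ∈ Submodule.span F {x} ⊔ X := fun y => by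
    have hy : y ∈ O := hO ▸ Submodule.mem_top
    exact Submodule.span_le.mpr (by rintro _ ⟨g, rfl⟩; exact h.orbit_le hm g) hy
  have hXaug : X ≤ aug hF ρ := by
    rw [show X = uSpan hF ρ (ρ (wS hF) x) from rfl, uSpan, Submodule.span_le]
    rintro _ ⟨a, b, rfl⟩
    exact aug_invariant_U hF ρ hmem a b
  have hX0 : X = ⊥ := by
    refine eq_bot_of_le_aug hF ρ X (fun a b y hy => uSpan_invariant hF ρ _ a b hy) (hXaug.trans ?_)
    rw [aug, Submodule.span_le]
    rintro _ ⟨a, b, y, rfl⟩
    obtain ⟨y1, hy1, y2, hy2, rfl⟩ := Submodule.mem_sup.mp (htop y)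
    obtain ⟨k, rfl⟩ := Submodule.mem_span_singleton.mp hy1
    refine Submodule.subset_span ⟨a, b, y2, hy2, ?_⟩
    rw [map_add, map_smul, h.fix]
    abel
  have hwx : ρ (wS hF) x ∈ X := by
    have := mem_uSpan hF ρ (ρ (wS hF) x) 0 0
    rwa [uS_zero, map_one] at this
  rw [hX0, Submodule.mem_bot] at hwx
  refine h.ne ?_
  rw [← ρ_inv ρ (wS hF) x, hwx, map_zero]

/-- The existence of a highest vector. -/
theorem exists_highest [Finite V] [Nontrivial V] (hm : 1 ≤ m) (hρ : Fpf ρ) :
    ∃ (x : V) (e : ℕ), 0 < e ∧ e < 2 ^ (2 * m + 1) - 1 ∧ Highest hF ρ x e := by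
  classical
  haveI := charTwo hF
  obtain ⟨x, hx0, hx⟩ := exists_fixed (U_isPGroup hF) (ρ.comp (U hF).subtype)
  have hfix : ∀ a b, ρ (uS hF a b) x = x := fun a b => hx ⟨_, (mem_U hF).mpr ⟨a, b, rfl⟩⟩
  set N := 2 ^ (2 * m + 1) - 1
  have hN : Fintype.card Fˣ = N := by rw [Fintype.card_units, hF]
  let y : ℕ → V := fun e => ∑ b : Fˣ, (((b⁻¹ : Fˣ) : F) ^ e) • ρ (hB hF b) x
  have hsum : ∑ e ∈ Finset.range N, y e = x := by
    simp only [y]
    rw [Finset.sum_comm, Finset.sum_eq_single (1 : Fˣ)]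
    · rw [map_one, inv_one]
      simp only [Units.val_one, one_pow, one_smul]
      rw [Finset.sum_const, Finset.card_range, map_one, Module.End.one_apply]
      obtain ⟨k, hk⟩ := odd_card_units (m := m)
      rw [show N = 2 * k + 1 from hk, add_smul, one_smul, mul_smul, two_smul, ← two_smul F,
        show (2 : F) = 0 from CharTwo.two_eq_zero, zero_smul, zero_add]
    · intro b _ hb
      rw [← Finset.sum_smul, geom_sum_eq, ← hN]
      · rw [← Units.val_pow_eq_pow_val, pow_card_eq_one, Units.val_one, sub_self, zero_div, zero_smul]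
      · exact fun h => hb (inv_eq_one.mp (Units.ext h))
    · exact fun h => absurd (Finset.mem_univ _) h
  have hwt : ∀ (e : ℕ) (c : Fˣ), ρ (hB hF c) (y e) = ((c : F) ^ e) • y e := by
    intro e c
    simp only [y, map_sum, map_smul, Finset.smul_sum, smul_smul, ← ρ_mul, ← map_mul]
    refine Fintype.sum_equiv (Equiv.mulLeft c) _ _ fun b => ?_
    rw [Equiv.coe_mulLeft, ← mul_pow]
    congr 2
    rw [_root_.mul_inv_rev, Units.val_mul, Units.val_inv_eq_inv_val, Units.val_inv_eq_inv_val]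
    field_simp
  have hyfix : ∀ (e : ℕ) (a b : F), ρ (uS hF a b) (y e) = y e := by
    intro e a b
    simp only [y, map_sum, map_smul]
    refine Finset.sum_congr rfl fun c _ => ?_
    obtain ⟨a', b', h⟩ := hB_uS hF c⁻¹ a b
    congr 1
    have : uS hF a b * hB hF c = hB hF c * uS hF a' b' := by
      rw [map_inv, inv_mul_eq_iff_eq_mul, ← mul_assoc] at h
      rw [h, inv_mul_cancel_right]
    rw [← ρ_mul, this, ρ_mul, hfix]
  obtain ⟨e, he, hye⟩ : ∃ e ∈ Finset.range N, y e ≠ 0 := by
    by_contra h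
    push Not at h
    exact hx0 (hsum.symm.trans (Finset.sum_eq_zero h))
  refine ⟨y e, e, Nat.pos_of_ne_zero fun e0 => ?_, Finset.mem_range.mp he, hye, hyfix e, hwt e⟩
  haveI : Nontrivial Fˣ := by
    rw [← Fintype.one_lt_card_iff_nontrivial, hN]
    have : 2 ^ 3 ≤ 2 ^ (2 * m + 1) := Nat.pow_le_pow_right (by norm_num) (by omega)
    omega
  obtain ⟨c, hc⟩ := exists_ne (1 : Fˣ)
  refine hye (hρ (hB hF c) (fun h => hc (hB_injective hF (by rw [h, map_one]))) (hB_odd hF c) _ ?_)
  rw [hwt, e0, pow_zero, one_smul]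

section Five

/-- An element of order five with entries in the prime field. -/
noncomputable def five : SZ F m := uS hF 0 1 * wS hF * (uS hF 0 1 * wS hF)

/-- The same over the prime field. -/
def fiveMat : Matrix (Fin 4) (Fin 4) (ZMod 2) := !![1, 1, 1, 1; 1, 0, 0, 1; 1, 0, 1, 0; 1, 1, 0, 1]

theorem mat_five [CharP F 2] : mat (five hF) = fiveMat.map (ZMod.castHom (dvd_refl 2) F) := by
  have h2 : (1 : F) + 1 = 0 := CharTwo.add_self_eq_zero 1
  show mU m (0 : F) 1 * mW * (mU m (0 : F) 1 * mW) = _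
  have hU : mU m (0 : F) 1 = !![1, 0, 1, 1; 0, 1, 0, 1; 0, 0, 1, 0; 0, 0, 0, 1] := by
    ext i j; fin_cases i <;> fin_cases j <;> simp [mU, fp]
  rw [hU]
  ext i j
  fin_cases i <;> fin_cases j <;>
    simp [mW, fiveMat, Matrix.mul_apply, Fin.sum_univ_four, h2]

theorem mat_five_pow [CharP F 2] (k : ℕ) :
    mat (five hF ^ k) = (fiveMat ^ k).map (ZMod.castHom (dvd_refl 2) F) := by
  rw [show mat (five hF ^ k) = mat (five hF) ^ k from mat_pow _ _, mat_five hF]
  exact ((ZMod.castHom (dvd_refl 2) F).mapMatrix.map_pow fiveMat k).symm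

theorem five_pow : five hF ^ 5 = 1 := by
  haveI := charTwo hF
  refine mat_injective ?_
  show mat (five hF ^ 5) = mat (1 : SZ F m)
  rw [mat_five_pow hF, show fiveMat ^ 5 = 1 by decide]
  exact Matrix.map_one _ (map_zero _) (map_one _)

theorem five_ne : five hF ≠ 1 := by
  haveI := charTwo hF
  intro h
  have h1 := congrFun (congrFun ((mat_five hF).symm.trans (congrArg mat h)) 0) 1
  change fiveMat.map (ZMod.castHom (dvd_refl 2) F) 0 1 = (1 : Matrix (Fin 4) (Fin 4) F) 0 1 at h1
  simp [fiveMat] at h1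

theorem five_order : orderOf (five hF) = 5 := by
  haveI : Fact (Nat.Prime 5) := ⟨by norm_num⟩
  exact orderOf_eq_prime (five_pow hF) (five_ne hF)

/-- Products of at least two twists have vectors fixed by the element of order five. -/
theorem not_fpf_tRep {ι : Type} [Fintype ι] [DecidableEq ι] (e : ι → ℕ) (hι : 2 ≤ Fintype.card ι) :
    ¬ Fpf (tRep hF e) := by
  haveI := charTwo hF
  intro hfpf
  set y : (ι → Fin 4) → F := ∑ k ∈ Finset.range 5, tRep hF e (five hF ^ k) top
  have hy : tRep hF e (five hF) y = y := by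
    simp only [y, map_sum, ← ρ_mul, ← pow_succ']
    have h := (Finset.sum_range_succ' (fun k => tRep hF e (five hF ^ k) top) 5).symm.trans
      (Finset.sum_range_succ (fun k => tRep hF e (five hF ^ k) top) 5)
    rw [five_pow, pow_zero] at h
    exact add_right_cancel h
  have h0 := hfpf (five hF) (five_ne hF) (by rw [five_order]; decide) y hy
  obtain ⟨i₀, i₁, hi⟩ := Fintype.one_lt_card_iff.mp hι
  let f : ι → Fin 4 := fun i => if i = i₀ then 0 else 3
  have hc := congrFun h0 f
  simp only [y, Finset.sum_apply, tRep_apply, top, Matrix.mulVec_single_one, Matrix.col_apply] at hc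
  have hid : ∀ a : ZMod 2, ∀ n : ℕ, 0 < n → a ^ n = a := fun a n hn => by
    fin_cases a
    · exact zero_pow hn.ne'
    · exact one_pow n
  have hentry : ∀ k : ℕ, tens (twist hF e) (mat (five hF ^ k)) f (fun _ => 0) =
      ZMod.castHom (dvd_refl 2) F ((fiveMat ^ k) 0 0 * (fiveMat ^ k) 3 0) := by
    intro k
    rw [tens_apply, mat_five_pow hF]
    simp only [Matrix.map_apply]
    have hcast : ∀ i, (twist hF e i).comp (ZMod.castHom (dvd_refl 2) F) = ZMod.castHom (dvd_refl 2) F :=
      fun i => Subsingleton.elim _ _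
    rw [Finset.prod_congr rfl fun i _ => show twist hF e i _ = ZMod.castHom (dvd_refl 2) F ((fiveMat ^ k) (f i) 0) from
      RingHom.congr_fun (hcast i) _, ← map_prod]
    congr 1
    rw [← Finset.mul_prod_erase Finset.univ _ (Finset.mem_univ i₀)]
    congr 1
    · simp [f]
    · rw [Finset.prod_congr rfl fun i hi' => show (fiveMat ^ k) (f i) 0 = (fiveMat ^ k) 3 0 by
        simp [f, Finset.ne_of_mem_erase hi'], Finset.prod_const]
      exact hid _ _ (by rw [Finset.card_erase_of_mem (Finset.mem_univ _), Finset.card_univ]; omega)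
  simp only [hentry, ← map_sum] at hc
  rw [show ∑ k ∈ Finset.range 5, (fiveMat ^ k) 0 0 * (fiveMat ^ k) 3 0 = 1 by decide, map_one] at hc
  exact one_ne_zero hc

end Five

/-- Irreducible modules are twists of the natural one. -/
theorem classify [Finite V] (hm : 1 ≤ m) (hρ : Fpf ρ) (hirr : Irr ρ) :
    ∃ (j : Fin (2 * m + 1)) (φ : ((Unit → Fin 4) → F) ≃ₗ[F] V),
      ∀ g x, φ (tRep hF (fun _ : Unit => j.val) g x) = ρ g (φ x) := by
  classical
  haveI := hirr.1
  obtain ⟨v, E, hE0, hE, hv⟩ := exists_highest hF ρ hm hρ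
  -- digits
  have hbit : ∀ i ∈ E.bitIndices.toFinset, i < 2 * m + 1 := by
    intro i hi
    have h1 : 2 ^ i ≤ E := (Finset.single_le_sum (fun j _ => Nat.zero_le (2 ^ j)) hi).trans
      (Finset.sum_toFinset_bitIndices_two_pow E).le
    exact (Nat.pow_lt_pow_iff_right (by norm_num : 1 < 2)).mp (lt_of_le_of_lt h1 (lt_of_lt_of_le hE (Nat.sub_le _ _)))
  obtain ⟨ι, iι, dι, e, he, hEsum⟩ : ∃ (ι : Type) (_ : Fintype ι) (_ : DecidableEq ι)
      (e : ι → Fin (2 * m + 1)), Function.Injective e ∧ ∑ i, 2 ^ (e i).val = E :=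
    ⟨↥(E.bitIndices.toFinset), inferInstance, inferInstance, fun i => ⟨i.1, hbit i.1 i.2⟩,
      fun a b h => Subtype.ext (congrArg Fin.val h :), by
      show ∑ i : ↥(E.bitIndices.toFinset), 2 ^ i.1 = E
      rw [Finset.sum_coe_sort E.bitIndices.toFinset fun i => 2 ^ i]
      exact Finset.sum_toFinset_bitIndices_two_pow E⟩
  have hne : Nonempty ι := by
    by_contra h
    rw [not_nonempty_iff] at h
    rw [← hEsum, Finset.univ_eq_empty, Finset.sum_empty] at hE0
    omega
  set σ := tRep hF (fun i => (e i).val) with hσ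
  have htopwt : ∀ b : Fˣ, σ (hB hF b) top = ((b : F) ^ E) • top := fun b => by rw [hσ, tRep_hB_top, hEsum]
  have hz : ((fun _ => 3) : ι → Fin 4) ≠ fun _ => 0 := fun h => absurd (congrFun h hne.some) (by decide)
  have htop : Highest hF σ top E :=
    ⟨fun h => by simpa [top] using congrFun h fun _ => 0, tRep_uS_top hF _, htopwt⟩
  let O : Submodule F (V × ((ι → Fin 4) → F)) :=
    Submodule.span F (Set.range fun g => (ρ g v, σ g top))
  have hOinv : ∀ g, ∀ p ∈ O, (ρ g p.1, σ g p.2) ∈ O := by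
    intro g p hp
    refine Submodule.span_induction (p := fun p _ => (ρ g p.1, σ g p.2) ∈ O) ?_
      (by simp only [Prod.fst_zero, Prod.snd_zero, map_zero]; exact zero_mem O)
      (fun x y _ _ hx hy => ?_) (fun c x _ hx => ?_) hp
    · rintro _ ⟨g', rfl⟩
      exact Submodule.subset_span ⟨g * g', by simp only [ρ_mul]⟩
    · simp only [Prod.fst_add, Prod.snd_add, map_add]
      exact add_mem hx hy
    · simp only [Prod.smul_fst, Prod.smul_snd, map_smul]
      exact Submodule.smul_mem _ c hx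
  let P : Submodule F (V × ((ι → Fin 4) → F)) := (aug hF ρ).prod (aug hF σ)
  let q : V × ((ι → Fin 4) → F) := (ρ (wS hF) v, σ (wS hF) top)
  have hdec : ∀ p ∈ O, p ∈ Submodule.span F {(v, top)} ⊔ (Submodule.span F {q} ⊔ P) := by
    intro p hp
    refine Submodule.span_le.mpr ?_ hp
    rintro _ ⟨g, rfl⟩
    rcases exists_closure_form hF hm g with ⟨a, b, t, rfl⟩ | ⟨a, b, c, d, t, rfl⟩
    · refine Submodule.mem_sup_left (Submodule.mem_span_singleton.mpr ⟨((phi (m := m) t : Fˣ) : F) ^ E, ?_⟩)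
      simp only [ρ_mul, dS_eq_hB, hv.wt, htop.wt, map_smul, hv.fix, htop.fix, Prod.smul_mk]
    · refine Submodule.mem_sup_right ?_
      have : (ρ (uS hF a b * wS hF * (uS hF c d * dS hF t)) v, σ (uS hF a b * wS hF * (uS hF c d * dS hF t)) top) =
          (((phi (m := m) t : Fˣ) : F) ^ E) • (q + (ρ (uS hF a b) q.1 - q.1, σ (uS hF a b) q.2 - q.2)) := by
        simp only [ρ_mul, dS_eq_hB, hv.wt, htop.wt, map_smul, hv.fix, htop.fix, q, Prod.mk_add_mk, Prod.smul_mk,
          add_sub_cancel]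
      show (ρ _ v, σ _ top) ∈ _
      rw [this]
      exact Submodule.smul_mem _ _ (Submodule.add_mem_sup (Submodule.mem_span_singleton_self q)
        ⟨sub_mem_aug hF ρ _ _ _, sub_mem_aug hF σ _ _ _⟩)
  -- the pairing with the highest vector
  let θ : ((ι → Fin 4) → F) →ₗ[F] F :=
    { toFun := fun y => form hF (fun i => (e i).val) top y
      map_add' := fun x y => by simp [form, Matrix.mulVec_add]
      map_smul' := fun c x => by simp [form, Matrix.mulVec_smul] }
  have hθaug : aug hF σ ≤ LinearMap.ker θ := by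
    rw [aug, Submodule.span_le]
    rintro _ ⟨a, b, x, rfl⟩
    rw [SetLike.mem_coe, LinearMap.mem_ker, map_sub, sub_eq_zero]
    show form hF _ top (σ (uS hF a b) x) = form hF _ top x
    conv_lhs => rw [← tRep_uS_top hF (fun i => (e i).val) a b]
    exact form_invariant hF hm _ _ _ _
  have hθtop : θ top = 0 := by
    show form hF _ top (Pi.single _ 1) = 0
    rw [form_single, top]
    exact Pi.single_eq_of_ne hz 1
  have hθbot : θ bot = 1 := by
    show form hF _ top bot = 1
    rw [form_bot, top, Pi.single_eq_same]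
  let N : Submodule F V := O.comap (LinearMap.inl F V _)
  have hN : N = ⊥ := by
    refine (hirr.2 N fun g x hx => ?_).resolve_right fun hN => ?_
    · have := hOinv g _ hx
      show (ρ g x, (0 : (ι → Fin 4) → F)) ∈ O
      rwa [LinearMap.inl_apply, map_zero] at this
    · have hmem : ((ρ (wS hF) v, 0) : V × ((ι → Fin 4) → F)) ∈ O := by
        have : ρ (wS hF) v ∈ N := hN ▸ Submodule.mem_top
        exact this
      obtain ⟨p1, hp1, p23, hp23, e1⟩ := Submodule.mem_sup.mp (hdec _ hmem)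
      obtain ⟨p2, hp2, p3, hp3, rfl⟩ := Submodule.mem_sup.mp hp23
      obtain ⟨α, rfl⟩ := Submodule.mem_span_singleton.mp hp1
      obtain ⟨β, rfl⟩ := Submodule.mem_span_singleton.mp hp2
      have e2 : α • top + (β • σ (wS hF) top + p3.2) = 0 := congrArg Prod.snd e1
      have hβ : β = 0 := by
        have h := congrArg θ e2
        rw [map_add, map_add, map_smul, map_smul, LinearMap.mem_ker.mp (hθaug hp3.2), hσ, wS_top, hθtop, hθbot,
          smul_zero, zero_add, add_zero, map_zero, smul_eq_mul, mul_one] at h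
        exact h
      have e3 : α • v + (β • ρ (wS hF) v + p3.1) = ρ (wS hF) v := congrArg Prod.fst e1
      rw [hβ, zero_smul, zero_add] at e3
      obtain ⟨c, hc⟩ : ∃ c : Fˣ, c ^ (2 * E) ≠ 1 := by
        obtain ⟨c, hc⟩ := IsCyclic.exists_ofOrder_eq_natCard (α := Fˣ)
        refine ⟨c, fun h => ?_⟩
        have h' := orderOf_dvd_of_pow_eq_one h
        rw [hc, Nat.card_eq_fintype_card, Fintype.card_units, hF] at h'
        have := Nat.le_of_dvd hE0 (((Nat.coprime_two_right.mpr odd_card_units).dvd_of_dvd_mul_left) h')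
        omega
      have h1 : ρ (hB hF c) p3.1 ∈ aug hF ρ := aug_invariant hF ρ c hp3.1
      have h2 : p3.1 = ρ (wS hF) v - α • v := eq_sub_of_add_eq' e3
      have hp : p3.1 ∈ aug hF ρ := hp3.1
      rw [h2, map_sub, map_smul, hv.low, hv.wt] at h1
      rw [h2] at hp
      have h3 := sub_mem h1 (Submodule.smul_mem _ ((c : F) ^ E) hp)
      rw [smul_sub, smul_comm α, sub_sub_sub_cancel_right, ← sub_smul] at h3
      refine hv.low_not_mem hm hirr ((Submodule.smul_mem_iff _ fun h => hc (Units.ext ?_)).mp h3)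
      rw [sub_eq_zero, Units.val_inv_eq_inv_val, inv_pow, ← mul_eq_one_iff_inv_eq₀ (pow_ne_zero _ c.ne_zero)] at h
      rw [Units.val_pow_eq_pow_val, two_mul, pow_add]
      exact h
  -- the graph
  have hsurj : ∀ y, ∃ x, (x, y) ∈ O := by
    intro y
    haveI : Fintype ↥(U hF) := Fintype.ofFinite _
    obtain ⟨c, hc⟩ := exists_comb hF e he y
    refine ⟨∑ p : ↥(U hF), c p • ρ ((p : SZ F m) * wS hF) v, ?_⟩
    have : (∑ p : ↥(U hF), c p • ρ ((p : SZ F m) * wS hF) v, y) =
        ∑ p : ↥(U hF), c p • ((ρ ((p : SZ F m) * wS hF) v, σ ((p : SZ F m) * wS hF) top) :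
          V × ((ι → Fin 4) → F)) := by
      rw [← hc]
      refine Prod.ext ?_ ?_
      · simp [Prod.fst_sum]
      · simp [Prod.snd_sum, hσ, wS_top]
    rw [this]
    exact Submodule.sum_mem _ fun p _ => Submodule.smul_mem _ _ (Submodule.subset_span ⟨_, rfl⟩)
  have huniq : ∀ {x x' : V} {y : (ι → Fin 4) → F}, (x, y) ∈ O → (x', y) ∈ O → x = x' := by
    intro x x' y h h'
    have : x - x' ∈ N := by
      show ((x - x', 0) : V × ((ι → Fin 4) → F)) ∈ O
      have := sub_mem h h'
      rwa [Prod.mk_sub_mk, sub_self] at this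
    rwa [hN, Submodule.mem_bot, sub_eq_zero] at this
  choose φ0 hφ0 using hsurj
  let φ : ((ι → Fin 4) → F) →ₗ[F] V :=
    { toFun := φ0
      map_add' := fun a b => huniq (hφ0 _) (O.add_mem (hφ0 a) (hφ0 b))
      map_smul' := fun c a => huniq (hφ0 _) (O.smul_mem c (hφ0 a)) }
  have heq : ∀ g x, φ (σ g x) = ρ g (φ x) := fun g x => huniq (hφ0 _) (hOinv g _ (hφ0 x))
  have hφtop : φ top = v := huniq (hφ0 _) (Submodule.subset_span ⟨1, by simp⟩)
  have hker : LinearMap.ker φ = ⊥ := by
    by_contra hk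
    haveI := charTwo hF
    haveI : Nontrivial (LinearMap.ker φ) := Submodule.nontrivial_iff_ne_bot.mpr hk
    have hkinv : ∀ u : ↥(U hF), ∀ x ∈ LinearMap.ker φ, σ (u : SZ F m) x ∈ LinearMap.ker φ := fun u x hx => by
      rw [LinearMap.mem_ker] at hx ⊢
      rw [heq, hx, map_zero]
    let τ : ↥(U hF) →* Module.End F (LinearMap.ker φ) :=
      { toFun := fun u => (σ (u : SZ F m)).restrict (hkinv u)
        map_one' := LinearMap.ext fun x => Subtype.ext (by simp)
        map_mul' := fun u v => LinearMap.ext fun x => Subtype.ext (by simp) }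
    obtain ⟨⟨x, hx⟩, hx0, hxf⟩ := exists_fixed (U_isPGroup hF) τ
    have hxe := fixed_eq_smul_top hF hm e he x fun a b =>
      congrArg Subtype.val (hxf ⟨uS hF a b, (mem_U hF).mpr ⟨a, b, rfl⟩⟩)
    rw [LinearMap.mem_ker, hxe, map_smul, hφtop, smul_eq_zero] at hx
    exact hx0 (Subtype.ext (hxe.trans (by rw [hx.resolve_right hv.ne, zero_smul]; rfl)))
  have hrange : LinearMap.range φ = ⊤ := by
    refine (hirr.2 _ ?_).resolve_left fun h => hv.ne ?_
    · rintro g _ ⟨y, rfl⟩
      exact ⟨σ g y, heq g y⟩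
    · have : φ top ∈ LinearMap.range φ := ⟨top, rfl⟩
      rwa [h, Submodule.mem_bot, hφtop] at this
  let Φ := LinearEquiv.ofBijective φ ⟨LinearMap.ker_eq_bot.mp hker, LinearMap.range_eq_top.mp hrange⟩
  have hcard : Fintype.card ι ≤ 1 := by
    by_contra h
    refine not_fpf_tRep hF (fun i => (e i).val) (not_le.mp h) fun g hg ho x hx => Φ.injective ?_
    rw [map_zero]
    refine hρ g hg ho _ ?_
    show ρ g (φ x) = φ x
    rw [← heq, hσ, hx]
  obtain ⟨i₀⟩ := hne
  haveI : Subsingleton ι := Fintype.card_le_one_iff_subsingleton.mp hcard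
  let ψ : Unit ≃ ι := ⟨fun _ => i₀, fun _ => (), fun _ => rfl, fun i => Subsingleton.elim _ _⟩
  let Ψ : (Unit → Fin 4) ≃ (ι → Fin 4) := Equiv.arrowCongr ψ (Equiv.refl _)
  refine ⟨e i₀, (LinearEquiv.funCongrLeft F F Ψ.symm).trans Φ, fun g x => ?_⟩
  show φ _ = ρ g (φ _)
  rw [← heq]
  congr 1
  funext f
  show (∑ y, tens (twist hF fun _ : Unit => (e i₀).val) (mat g) (Ψ.symm f) y * x y) =
    ∑ y, tens (twist hF fun i => (e i).val) (mat g) f y * x (Ψ.symm y)
  refine Fintype.sum_equiv Ψ _ _ fun y => ?_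
  show tens _ _ _ y * x y = tens _ _ f (Ψ y) * x (Ψ.symm (Ψ y))
  rw [Equiv.symm_apply_apply]
  congr 1
  rw [tens_apply, tens_apply]
  refine Fintype.prod_equiv ψ _ _ fun u => ?_
  simp [Ψ, ψ, twist]

end CfsgLib.CITExt.Sz
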