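import Cfsg.Agent.Lib.CITExt.Sz.Bilin
import Cfsg.Agent.Lib.CITExt.Sz.Action
import Mathlib.RingTheory.TensorProduct.Finite
import Mathlib.GroupTheory.Nilpotent

/-!
# A 2-group with fixed point free Suzuki action is commutative
-/

set_option autoImplicit false
set_option linter.unusedSectionVars false
set_option linter.style.haveILetI false

namespace CfsgLib.CITExtSz

open CfsgLib.Suzuki TensorProduct
open scoped Classical IsMulCommutative commutatorElement

variable {F : Type*} [Field F] [Fintype F] {m : ℕ}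

/-- Extension of scalars of an action on an elementary abelian 2-group. -/
noncomputable def bc [Algebra (ZMod 2) F] {V : Type*} [AddCommGroup V] [Module (ZMod 2) V]
    (π : ↥(Cfsg.Sz F m) →* AddMonoid.End V) : Rep F m (F ⊗[ZMod 2] V) where
  toFun s := LinearMap.baseChange F (AddMonoidHom.toZModLinearMap 2 (π s))
  map_one' := by
    refine TensorProduct.AlgebraTensorModule.ext fun a v => ?_
    simp; rfl
  map_mul' s t := by
    refine TensorProduct.AlgebraTensorModule.ext fun a v => ?_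
    simp [map_mul π s t]; rfl

theorem bc_tmul [Algebra (ZMod 2) F] {V : Type*} [AddCommGroup V] [Module (ZMod 2) V]
    (π : ↥(Cfsg.Sz F m) →* AddMonoid.End V) (s : ↥(Cfsg.Sz F m)) (a : F) (v : V) :
    bc π s (a ⊗ₜ v) = a ⊗ₜ π s v := by
  simp [bc]; rfl

variable (hF : Fintype.card F = 2 ^ (2 * m + 1)) (hm : 1 ≤ m)
include hF hm

theorem bc_fpf [Algebra (ZMod 2) F] {V : Type*} [AddCommGroup V] [Module (ZMod 2) V]
    (π : ↥(Cfsg.Sz F m) →* AddMonoid.End V) (htor : ∀ x, ∑ t : Fˣ, π (dS hF t) x = 0)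
    (hfive : ∀ x, ∑ k ∈ Finset.range 5, π (x5 hF ^ k) x = 0) : Fpf hF (bc π) := by
  constructor
  · refine TensorProduct.AlgebraTensorModule.ext fun a v => ?_
    simp only [LinearMap.sum_apply, bc_tmul]
    rw [← TensorProduct.tmul_sum, htor, TensorProduct.tmul_zero, LinearMap.zero_apply]
  · refine TensorProduct.AlgebraTensorModule.ext fun a v => ?_
    simp only [LinearMap.sum_apply, bc_tmul]
    rw [← TensorProduct.tmul_sum, hfive, TensorProduct.tmul_zero, LinearMap.zero_apply]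

/-- Equivariant biadditive maps between fixed point free elementary abelian groups vanish. -/
theorem biadd_zero {V W : Type*} [AddCommGroup V] [AddCommGroup W] [Finite V] [Finite W]
    (hV : ∀ x : V, 2 • x = 0) (hW : ∀ x : W, 2 • x = 0)
    (π : ↥(Cfsg.Sz F m) →* AddMonoid.End V) (τ : ↥(Cfsg.Sz F m) →* AddMonoid.End W)
    (ht : ∀ x, ∑ t : Fˣ, π (dS hF t) x = 0)
    (h5 : ∀ x, ∑ k ∈ Finset.range 5, π (x5 hF ^ k) x = 0)
    (ht' : ∀ x, ∑ t : Fˣ, τ (dS hF t) x = 0)
    (h5' : ∀ x, ∑ k ∈ Finset.range 5, τ (x5 hF ^ k) x = 0)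
    (b : V →+ V →+ W) (hb : ∀ s x y, b (π s x) (π s y) = τ s (b x y)) (x y : V) : b x y = 0 := by
  haveI := charTwo hF
  letI : Algebra (ZMod 2) F := ZMod.algebra F 2
  letI : Module (ZMod 2) V := AddCommGroup.zmodModule hV
  letI : Module (ZMod 2) W := AddCommGroup.zmodModule hW
  haveI : Module.Finite (ZMod 2) V := Module.Finite.of_finite
  haveI : Module.Finite (ZMod 2) W := Module.Finite.of_finite
  let g : V →ₗ[ZMod 2] ((F ⊗[ZMod 2] V) →ₗ[F] (F ⊗[ZMod 2] W)) :=
    AddMonoidHom.toZModLinearMap 2 (AddMonoidHom.mk'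
      (fun v => LinearMap.baseChange F (AddMonoidHom.toZModLinearMap 2 (b v)))
      (fun u v => by
        refine TensorProduct.AlgebraTensorModule.ext fun a w => ?_
        simp [TensorProduct.tmul_add]))
  let B := LinearMap.liftBaseChange F g
  have hB : ∀ (a c : F) (u v : V), B (a ⊗ₜ u) (c ⊗ₜ v) = (a * c) ⊗ₜ[ZMod 2] b u v := by
    intro a c u v
    simp [B, g, TensorProduct.smul_tmul']
  have hzero : B = 0 := by
    refine bilin_zero hF hm (bc_fpf hF hm π ht h5) (bc_fpf hF hm π ht h5)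
      (bc_fpf hF hm τ ht' h5') (B := B) fun s u v => ?_
    induction u using TensorProduct.induction_on with
    | zero => simp
    | add u u' hu hu' =>
      simp only [map_add, LinearMap.add_apply, hu, hu']
    | tmul a u =>
      induction v using TensorProduct.induction_on with
      | zero => simp
      | add v v' hv hv' => simp only [map_add, hv, hv']
      | tmul c v => rw [bc_tmul, bc_tmul, hB, hB, bc_tmul, hb]
  by_contra hne
  obtain ⟨φ, hφ⟩ := Module.Projective.exists_dual_ne_zero (ZMod 2) hne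
  have h1 := hB 1 1 x y
  rw [hzero] at h1
  have h2 := congr_arg ((TensorProduct.rid (ZMod 2) F).toLinearMap.comp (LinearMap.lTensor F φ)) h1
  simp at h2
  exact hφ ((algebraMap (ZMod 2) F).injective (by rw [map_zero, Algebra.algebraMap_eq_smul_one]; exact h2.symm))

omit hm hF in
theorem comm_central_aux {G : Type*} [Group G] {P : Subgroup G}
    (hc : ∀ x ∈ ⁅P, P⁆, ∀ u ∈ P, u * x = x * u) {x y z : G} (hx : x ∈ P) (hy : y ∈ P) (hz : z ∈ P) :
    ⁅x * y, z⁆ = ⁅x, z⁆ * ⁅y, z⁆ ∧ ⁅x, y * z⁆ = ⁅x, y⁆ * ⁅x, z⁆ := by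
  have h1 := hc _ (Subgroup.commutator_mem_commutator hy hz) x hx
  have h2 := hc _ (Subgroup.commutator_mem_commutator hx hz) y hy
  have h3 := hc _ (Subgroup.commutator_mem_commutator hy hz) ⁅x, z⁆
    (by rw [commutatorElement_def]; exact mul_mem (mul_mem (mul_mem hx hz) (inv_mem hx)) (inv_mem hz))
  constructor
  · calc ⁅x * y, z⁆ = x * ⁅y, z⁆ * x⁻¹ * ⁅x, z⁆ := by simp only [commutatorElement_def]; group
      _ = _ := by rw [h1, mul_inv_cancel_right, ← h3]
  · calc ⁅x, y * z⁆ = ⁅x, y⁆ * (y * ⁅x, z⁆ * y⁻¹) := by simp only [commutatorElement_def]; group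
      _ = _ := by rw [h2, mul_inv_cancel_right]

/-- The case of a central elementary abelian commutator group. -/
theorem commutator_bot {G : Type*} [Group G] [Finite G] {θ : G →* ↥(Cfsg.Sz F m)} (h : Hyp θ)
    (hc : ∀ x ∈ ⁅θ.ker, θ.ker⁆, ∀ u ∈ θ.ker, u * x = x * u)
    (h2 : ∀ x ∈ ⁅θ.ker, θ.ker⁆, x * x = 1) : ⁅θ.ker, θ.ker⁆ = ⊥ := by
  set P := θ.ker with hPdef
  set N := ⁅P, P⁆ with hNdef
  have hNP : N ≤ P := Subgroup.commutator_le_self P
  haveI : IsMulCommutative N := ⟨⟨fun a b => Subtype.ext (hc b.1 b.2 a.1 (hNP a.2))⟩⟩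
  let Zp : Subgroup G := P ⊓ Subgroup.centralizer (P : Set G)
  haveI : Zp.Normal := Subgroup.normal_inf_normal _ _
  have hZ : ∀ z ∈ Zp, ∀ u ∈ P, u * z = z * u := fun z hz u hu =>
    Subgroup.mem_centralizer_iff.1 hz.2 u hu
  have hsq : ∀ x ∈ P, x * x ∈ Zp := fun x hx => by
    refine ⟨mul_mem hx hx, Subgroup.mem_centralizer_iff.2 fun u hu => ?_⟩
    have e := (comm_central_aux hc hx hx hu).1
    rw [h2 _ (Subgroup.commutator_mem_commutator hx hu), commutatorElement_eq_one_iff_mul_comm] at e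
    exact e.symm
  let θ₂ := QuotientGroup.lift Zp θ inf_le_left
  have h' : Hyp θ₂ := h.quotient Zp inf_le_left
  have hker : ∀ v ∈ θ₂.ker, ∃ x ∈ P, (x : G ⧸ Zp) = v := by
    intro v hv
    obtain ⟨x, rfl⟩ := QuotientGroup.mk_surjective v
    exact ⟨x, by simpa [θ₂, hPdef] using hv, rfl⟩
  haveI hcomm2 : IsMulCommutative θ₂.ker := ⟨⟨fun a b => by
    obtain ⟨x, hx, ex⟩ := hker a.1 a.2
    obtain ⟨y, hy, ey⟩ := hker b.1 b.2
    refine Subtype.ext ?_
    show a.1 * b.1 = b.1 * a.1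
    rw [← ex, ← ey, ← QuotientGroup.mk_mul, ← QuotientGroup.mk_mul, QuotientGroup.eq]
    have hmem : (x * y)⁻¹ * (y * x) = ⁅y⁻¹, x⁻¹⁆ := by rw [commutatorElement_def]; group
    rw [hmem]
    have hN' := Subgroup.commutator_mem_commutator (inv_mem hy) (inv_mem hx)
    exact ⟨hNP hN', Subgroup.mem_centralizer_iff.2 fun u hu => hc _ hN' u hu⟩⟩⟩
  have hc2 : ∀ u ∈ θ₂.ker, ∀ x ∈ θ₂.ker, u * x = x * u := fun u hu x hx =>
    congr_arg Subtype.val (mul_comm' (⟨u, hu⟩ : θ₂.ker) ⟨x, hx⟩)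
  have hcN : ∀ u ∈ θ.ker, ∀ x ∈ N, u * x = x * u := fun u hu x hx => hc x hx u hu
  -- representatives
  choose r hrP hr using fun a : Additive θ₂.ker => hker (Additive.toMul a).1 (Additive.toMul a).2
  have hwd : ∀ {a : Additive θ₂.ker} {x : G}, x ∈ P → (x : G ⧸ Zp) = (Additive.toMul a).1 →
      ∀ {y : G}, y ∈ P → ⁅r a, y⁆ = ⁅x, y⁆ ∧ ⁅y, r a⁆ = ⁅y, x⁆ := by
    intro a x hx e y hy
    have hz : (r a)⁻¹ * x ∈ Zp := QuotientGroup.eq.1 ((hr a).trans e.symm)
    have e1 : x = r a * ((r a)⁻¹ * x) := by group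
    have h1 : ⁅(r a)⁻¹ * x, y⁆ = 1 :=
      commutatorElement_eq_one_iff_mul_comm.2 (hZ _ hz y hy).symm
    have h1' : ⁅y, (r a)⁻¹ * x⁆ = 1 := commutatorElement_eq_one_iff_mul_comm.2 (hZ _ hz y hy)
    constructor
    · conv_rhs => rw [e1]
      rw [(comm_central_aux hc (hrP a) hz.1 hy).1, h1, mul_one]
    · conv_rhs => rw [e1]
      rw [(comm_central_aux hc hy (hrP a) hz.1).2, h1', mul_one]
  let b : Additive θ₂.ker →+ Additive θ₂.ker →+ Additive N :=
    AddMonoidHom.mk' (fun a => AddMonoidHom.mk'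
      (fun c => Additive.ofMul (⟨⁅r a, r c⁆,
        Subgroup.commutator_mem_commutator (hrP a) (hrP c)⟩ : N))
      (fun c c' => by
        refine Additive.toMul.injective (Subtype.ext ?_)
        show ⁅r a, r (c + c')⁆ = ⁅r a, r c⁆ * ⁅r a, r c'⁆
        rw [(hwd (a := c + c') (mul_mem (hrP c) (hrP c'))
          (by rw [QuotientGroup.mk_mul, hr, hr]; rfl) (hrP a)).2,
          (comm_central_aux hc (hrP a) (hrP c) (hrP c')).2]))
      (fun a a' => by
        refine AddMonoidHom.ext fun c => Additive.toMul.injective (Subtype.ext ?_)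
        show ⁅r (a + a'), r c⁆ = ⁅r a, r c⁆ * ⁅r a', r c⁆
        rw [(hwd (a := a + a') (mul_mem (hrP a) (hrP a'))
          (by rw [QuotientGroup.mk_mul, hr, hr]; rfl) (hrP c)).1,
          (comm_central_aux hc (hrP a) (hrP a') (hrP c)).1])
  have hV2 : ∀ a : Additive θ₂.ker, 2 • a = 0 := fun a => by
    refine Additive.toMul.injective (Subtype.ext ?_)
    rw [two_nsmul]
    show (Additive.toMul a).1 * (Additive.toMul a).1 = 1
    rw [← hr a, ← QuotientGroup.mk_mul, QuotientGroup.eq_one_iff]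
    exact hsq _ (hrP a)
  have hW2 : ∀ a : Additive N, 2 • a = 0 := fun a => by
    refine Additive.toMul.injective (Subtype.ext ?_)
    rw [two_nsmul]
    exact h2 _ (Additive.toMul a).2
  have hzero := biadd_zero hF hm hV2 hW2 (act h' θ₂.ker hc2) (act h N hcN)
    (act_tor hF hm h' θ₂.ker le_rfl hc2) (act_five hF h' θ₂.ker le_rfl hc2)
    (act_tor hF hm h N hNP hcN) (act_five hF h N hNP hcN) b ?_
  · rw [eq_bot_iff, hNdef, Subgroup.commutator_le]
    intro x hx y hy
    rw [Subgroup.mem_bot]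
    let a : Additive θ₂.ker := Additive.ofMul ⟨(x : G ⧸ Zp), by simpa [θ₂, hPdef] using hx⟩
    let c : Additive θ₂.ker := Additive.ofMul ⟨(y : G ⧸ Zp), by simpa [θ₂, hPdef] using hy⟩
    have := congr_arg (fun z : Additive N => (Additive.toMul z).1) (hzero a c)
    change ⁅r a, r c⁆ = 1 at this
    rwa [(hwd (a := a) hx rfl (hrP c)).1, (hwd (a := c) hy rfl hx).2] at this
  · intro s a c
    refine Additive.toMul.injective (Subtype.ext ?_)
    obtain ⟨g, hg⟩ := h.surj s
    have e1 : ∀ a, ((g * r a * g⁻¹ : G) : G ⧸ Zp) =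
        (Additive.toMul (α := θ₂.ker) (act h' θ₂.ker hc2 s a)).1 := fun a => by
      rw [act_apply h' θ₂.ker hc2 (g := (g : G ⧸ Zp)) (by simpa [θ₂] using hg) a, ← hr a]
      rfl
    have hcon : ∀ a, g * r a * g⁻¹ ∈ P := fun a =>
      Subgroup.Normal.conj_mem (MonoidHom.normal_ker θ) _ (hrP a) g
    rw [act_apply h N hcN hg]
    show ⁅r (act h' θ₂.ker hc2 s a), r (act h' θ₂.ker hc2 s c)⁆ = g * ⁅r a, r c⁆ * g⁻¹
    rw [(hwd (hcon a) (e1 a) (hrP _)).1, (hwd (hcon c) (e1 c) (hcon a)).2]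
    simp only [commutatorElement_def]; group

/-- **A 2-group with fixed point free Suzuki action is commutative.** -/
theorem ker_comm {G : Type*} [Group G] [Finite G] {θ : G →* ↥(Cfsg.Sz F m)} (h : Hyp θ) :
    ⁅θ.ker, θ.ker⁆ = ⊥ := by
  haveI : Fact (Nat.Prime 2) := ⟨Nat.prime_two⟩
  set P := θ.ker with hPdef
  set N := ⁅P, P⁆ with hNdef
  set L := ⁅N, P⁆ with hLdef
  haveI : L.Normal := Subgroup.commutator_normal _ _
  have hNP : N ≤ P := Subgroup.commutator_le_self P
  have hLN : L ≤ N := Subgroup.commutator_le_left N P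
  let Msq : Subgroup G := Subgroup.closure {x | ∃ y ∈ N, x = y * y}
  haveI : Msq.Normal := by
    refine ⟨fun x hx g => ?_⟩
    have hle : Msq ≤ Msq.comap (MulAut.conj g).toMonoidHom := by
      refine (Subgroup.closure_le _).2 ?_
      rintro _ ⟨y, hy, rfl⟩
      refine Subgroup.subset_closure ⟨g * y * g⁻¹, Subgroup.Normal.conj_mem inferInstance _ hy g, ?_⟩
      simp [mul_assoc]
    exact hle hx
  let M := L ⊔ Msq
  haveI : M.Normal := Subgroup.sup_normal L Msq
  have hMN : M ≤ N := sup_le hLN ((Subgroup.closure_le _).2 (by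
    rintro _ ⟨y, hy, rfl⟩; exact mul_mem hy hy))
  have hMP : M ≤ θ.ker := hMN.trans hNP
  -- in the quotient by `M` the commutator group is central and elementary abelian
  have h' := h.quotient M hMP
  set θ₁ := QuotientGroup.lift M θ hMP
  have hker : θ₁.ker = P.map (QuotientGroup.mk' M) := QuotientGroup.ker_lift _ _ _
  have hcom : ⁅θ₁.ker, θ₁.ker⁆ = N.map (QuotientGroup.mk' M) := by
    rw [hker, hNdef, Subgroup.map_commutator]
  have hN1 := commutator_bot hF hm h' ?_ ?_
  · -- so `N = M`, which forces `N = ⊥`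
    rw [hcom, Subgroup.map_eq_bot_iff, QuotientGroup.ker_mk'] at hN1
    have hstep : ∀ j : ℕ, ∀ x ∈ N, x ∈ L ⊔ Subgroup.closure {x | ∃ y ∈ N, x = y ^ 2 ^ j} := by
      have habel : ∀ a ∈ N, ∀ c ∈ N, (a : G ⧸ L) * c = c * a := fun a ha c hc' => by
        rw [← QuotientGroup.mk_mul, ← QuotientGroup.mk_mul, QuotientGroup.eq]
        have : (a * c)⁻¹ * (c * a) = ⁅c⁻¹, a⁻¹⁆ := by rw [commutatorElement_def]; group
        rw [this]
        exact Subgroup.commutator_mem_commutator (inv_mem hc') (hNP (inv_mem ha))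
      -- every element is a square modulo `L`
      have hsq : ∀ x ∈ N, ∃ y ∈ N, (x : G ⧸ L) = (y : G ⧸ L) ^ 2 := by
        intro x hx
        have hx' : x ∈ L ⊔ Msq := hN1 hx
        rw [Subgroup.mem_sup_of_normal_left] at hx'
        obtain ⟨l, hl, z, hz, rfl⟩ := hx'
        have key : ∃ y ∈ N, (z : G ⧸ L) = (y : G ⧸ L) ^ 2 := by
          clear hx
          induction hz using Subgroup.closure_induction with
          | mem z hz => obtain ⟨y, hy, rfl⟩ := hz; exact ⟨y, hy, by rw [QuotientGroup.mk_mul, sq]⟩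
          | one => exact ⟨1, one_mem _, by simp⟩
          | mul a c _ _ ha hc' =>
            obtain ⟨u, hu, eu⟩ := ha
            obtain ⟨v, hv, ev⟩ := hc'
            refine ⟨u * v, mul_mem hu hv, ?_⟩
            have hcv : Commute (u : G ⧸ L) (v : G ⧸ L) := habel u hu v hv
            rw [QuotientGroup.mk_mul, eu, ev, QuotientGroup.mk_mul, hcv.mul_pow]
          | inv a _ ha =>
            obtain ⟨u, hu, eu⟩ := ha
            exact ⟨u⁻¹, inv_mem hu, by rw [QuotientGroup.mk_inv, eu, QuotientGroup.mk_inv, inv_pow]⟩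
        obtain ⟨y, hy, ey⟩ := key
        exact ⟨y, hy, by rw [QuotientGroup.mk_mul, (QuotientGroup.eq_one_iff l).2 hl, one_mul, ey]⟩
      have hit : ∀ j : ℕ, ∀ x ∈ N, ∃ y ∈ N, (x : G ⧸ L) = (y : G ⧸ L) ^ 2 ^ j := by
        intro j
        induction j with
        | zero => intro x hx; exact ⟨x, hx, by simp⟩
        | succ j ih =>
          intro x hx
          obtain ⟨y, hy, ey⟩ := hsq x hx
          obtain ⟨z, hz, ez⟩ := ih y hy
          exact ⟨z, hz, by rw [ey, ez, ← pow_mul, ← pow_succ]⟩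
      intro j x hx
      obtain ⟨y, hy, ey⟩ := hit j x hx
      rw [← QuotientGroup.mk_pow, QuotientGroup.eq] at ey
      have e : x = y ^ 2 ^ j * (x⁻¹ * y ^ 2 ^ j)⁻¹ := by group
      rw [e]
      exact mul_mem (Subgroup.mem_sup_right (Subgroup.subset_closure ⟨y, hy, rfl⟩))
        (Subgroup.mem_sup_left (inv_mem ey))
    obtain ⟨k, hk⟩ := IsPGroup.iff_card.1 h.two
    have hNL : N ≤ L := fun x hx => by
      have hclos : Subgroup.closure {x | ∃ y ∈ N, x = y ^ 2 ^ k} = ⊥ := by
        rw [eq_bot_iff, Subgroup.closure_le]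
        rintro _ ⟨y, hy, rfl⟩
        have := pow_card_eq_one' (G := P) (x := ⟨y, hNP hy⟩)
        rw [hk] at this
        simpa using congr_arg Subtype.val this
      simpa [hclos] using hstep k x hx
    haveI : Group.IsNilpotent P := h.two.isNilpotent
    have hall : ∀ j, N ≤ ((Subgroup.lowerCentralSeries (⊤ : Subgroup P) j)).map P.subtype := by
      intro j
      induction j with
      | zero => rw [Subgroup.lowerCentralSeries_zero, ← MonoidHom.range_eq_map, Subgroup.range_subtype]; exact hNP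
      | succ j ih =>
        calc N ≤ ⁅N, P⁆ := hNL
          _ ≤ ⁅(Subgroup.lowerCentralSeries (⊤ : Subgroup P) j).map P.subtype, P⁆ :=
            Subgroup.commutator_mono ih le_rfl
          _ = _ := by
            rw [Subgroup.lowerCentralSeries_succ, Subgroup.map_commutator,
              ← MonoidHom.range_eq_map, Subgroup.range_subtype]
    obtain ⟨n, hn⟩ := Subgroup.nilpotent_iff_lowerCentralSeries.1 ‹Group.IsNilpotent P›
    have := hall n
    rw [hn, Subgroup.map_bot] at this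
    exact le_bot_iff.1 this
  · intro x hx u hu
    rw [hcom] at hx
    rw [hker] at hu
    obtain ⟨a, ha, rfl⟩ := hx
    obtain ⟨c, hc', rfl⟩ := hu
    rw [← commutatorElement_eq_one_iff_mul_comm, ← map_commutatorElement]
    refine (QuotientGroup.eq_one_iff _).2 (le_sup_left (a := L) ?_)
    rw [hLdef, Subgroup.commutator_comm]
    exact Subgroup.commutator_mem_commutator hc' ha
  · intro x hx
    rw [hcom] at hx
    obtain ⟨a, ha, rfl⟩ := hx
    rw [← map_mul]
    exact (QuotientGroup.eq_one_iff _).2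
      (le_sup_right (a := L) (Subgroup.subset_closure ⟨a, ha, rfl⟩))

end CfsgLib.CITExtSz
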