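import Cfsg.Agent.Lib.CITExt.Sz.Span

/-!
# Entries of elements of the Suzuki groups; an element of order 5
-/

set_option autoImplicit false
set_option linter.unusedSectionVars false

namespace CfsgLib.CITExtSz

open CfsgLib.Suzuki Matrix

variable {F : Type*} [Field F] [Fintype F] {m : ℕ}

/-- The matrix of an element. -/
def mat (g : ↥(Cfsg.Sz F m)) : Matrix (Fin 4) (Fin 4) F := g.1.1

theorem mat_mul (g h : ↥(Cfsg.Sz F m)) : mat (g * h) = mat g * mat h := by
  simp [mat]

theorem mat_one : mat (1 : ↥(Cfsg.Sz F m)) = 1 := rfl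

theorem mat_pow (g : ↥(Cfsg.Sz F m)) (k : ℕ) : mat (g ^ k) = mat g ^ k := by
  induction k with
  | zero => simp [mat_one]
  | succ k ih => rw [pow_succ, pow_succ, mat_mul, ih]

variable (hF : Fintype.card F = 2 ^ (2 * m + 1))
include hF

theorem mat_uS (a b : F) : mat (uS hF a b) = mU m a b := rfl

theorem mat_wS : mat (wS hF) = (mW : Matrix (Fin 4) (Fin 4) F) := rfl

theorem mat_dS (t : Fˣ) : mat (dS hF t) = mD m (t : F) := rfl

omit hF

/-- The eigenvalue of the torus on the first coordinate. -/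
def dl (m : ℕ) (t : Fˣ) : Fˣ :=
  ⟨th m (t : F) * t, (th m (t : F) * t)⁻¹,
    mul_inv_cancel₀ (mul_ne_zero (fun h => t.ne_zero (th_eq_zero_iff.mp h)) t.ne_zero),
    inv_mul_cancel₀ (mul_ne_zero (fun h => t.ne_zero (th_eq_zero_iff.mp h)) t.ne_zero)⟩

theorem dl_mul (s t : Fˣ) : dl m (s * t) = dl m s * dl m t := by
  refine Units.ext ?_
  show th m ((s : F) * t) * ((s : F) * t) = (th m (s : F) * s) * (th m (t : F) * t)
  rw [th_mul]; ring

/-- `dl` as a homomorphism. -/
def dlHom (m : ℕ) : Fˣ →* Fˣ := MonoidHom.mk' (dl m) dl_mul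

theorem dl_inv (t : Fˣ) : dl m t⁻¹ = (dl m t)⁻¹ := map_inv (dlHom m) t

theorem dl_one : dl m (1 : Fˣ) = 1 := map_one (dlHom m)

include hF

theorem dl_bijective : Function.Bijective (dl m : Fˣ → Fˣ) := by
  refine Finite.surjective_iff_bijective.mp fun b => ?_
  obtain ⟨t, ht⟩ := th_mul_surj hF b.ne_zero
  exact ⟨t, Units.ext ht⟩

/-- The shape `u w u' d` has `(3,0)` entry `dl t`. -/
theorem entry_big (a b c d : F) (t : Fˣ) :
    mat (uS hF a b * wS hF * (uS hF c d * dS hF t)) 3 0 = (dl m t : F) := by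
  rw [mat_mul _ (uS hF c d * _), mat_mul (uS hF c d), mat_dS, mD]
  simp [mat_mul, mat_uS, mat_wS, mU, mW, Matrix.mul_apply, Fin.sum_univ_four, dl,
    Matrix.diagonal, Matrix.vecHead, Matrix.vecTail]

/-- The shape `u d` has `(3,0)` entry `0`. -/
theorem entry_small (a b : F) (t : Fˣ) : mat (uS hF a b * dS hF t) 3 0 = 0 := by
  simp [mat_mul, mat_uS, mat_dS, mU, mD, Matrix.mul_apply, Fin.sum_univ_four, Matrix.diagonal]

/-- The representative attached to an affine point of the ovoid. -/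
def pc (p : F × F) : ↥(Cfsg.Sz F m) := uS hF p.1 p.2 * wS hF

/-- The representative with the given last row. -/
def pr (p : F × F) : ↥(Cfsg.Sz F m) := wS hF * uS hF p.1 (p.2 + th m p.1 * p.1)

theorem pc_col (p : F × F) (k : Fin 4) : mat (pc hF p) k 0 = col m p k := by
  fin_cases k <;>
    simp [pc, mat_mul, mat_uS, mat_wS, mU, mW, Matrix.mul_apply, Fin.sum_univ_four, col]

theorem pr_row (p : F × F) (k : Fin 4) : mat (pr hF p) 3 k = col m p k.rev := by
  haveI := charTwo hF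
  have h2 : ∀ x : F, x + x = 0 := fun x => CharTwo.add_self_eq_zero x
  fin_cases k
  · simp [pr, mat_mul, mat_uS, mat_wS, mU, mW, Matrix.mul_apply, Fin.sum_univ_four, col]
  · simp [pr, mat_mul, mat_uS, mat_wS, mU, mW, Matrix.mul_apply, Fin.sum_univ_four, col, Fin.rev]
  · simp [pr, mat_mul, mat_uS, mat_wS, mU, mW, Matrix.mul_apply, Fin.sum_univ_four, col, Fin.rev,
      add_assoc, h2]
  · simp only [pr, mat_mul, mat_uS, mat_wS, mU, mW, Matrix.mul_apply, Fin.sum_univ_four]
    simp [col, Fin.rev]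
    simp only [fp, th_add hF, th_mul, th_th hF]
    linear_combination (th m p.1 * p.1 ^ 2) * two_eq_zero hF

/-- An element of order 5. -/
def x5 : ↥(Cfsg.Sz F m) := uS hF 0 1 * wS hF

omit hF

/-- The matrix of `x5` over the prime field. -/
def M5 : Matrix (Fin 4) (Fin 4) (ZMod 2) := !![1, 1, 0, 1; 1, 0, 1, 0; 0, 1, 0, 0; 1, 0, 0, 0]

include hF

theorem mat_x5 (φ : ZMod 2 →+* F) (k : ℕ) : mat (x5 hF ^ k) = (M5 ^ k).map φ := by
  have h : mat (x5 hF) = M5.map φ := by
    ext i j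
    fin_cases i <;> fin_cases j <;>
      simp [x5, mat_mul, mat_uS, mat_wS, mU, mW, M5, fp, Matrix.mul_apply, Fin.sum_univ_four]
  rw [mat_pow, h]
  exact (map_pow φ.mapMatrix M5 k).symm

theorem x5_pow_five : x5 hF ^ 5 = (1 : ↥(Cfsg.Sz F m)) := by
  haveI := charTwo hF
  refine Subtype.ext (Subtype.ext ?_)
  show mat (x5 hF ^ 5) = mat (1 : ↥(Cfsg.Sz F m))
  have h5 : M5 ^ 5 = 1 := by decide
  rw [mat_x5 hF (ZMod.castHom (dvd_refl 2) F), h5, mat_one, Matrix.map_one _ (map_zero _) (map_one _)]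

theorem x5_entry {k : ℕ} (h1 : 1 ≤ k) (h4 : k ≤ 4) : mat (x5 hF ^ k) 3 0 = (1 : F) := by
  haveI := charTwo hF
  have : (M5 ^ k) 3 0 = 1 := by
    interval_cases k <;> decide
  rw [mat_x5 hF (ZMod.castHom (dvd_refl 2) F), Matrix.map_apply, this, map_one]

theorem x5_ne_one : x5 hF ≠ (1 : ↥(Cfsg.Sz F m)) := by
  intro h
  have := x5_entry hF le_rfl (by norm_num : 1 ≤ 4)
  rw [pow_one, h, mat_one] at this
  simp at this

theorem x5_orderOf : orderOf (x5 hF) = 5 := by
  haveI : Fact (Nat.Prime 5) := ⟨by norm_num⟩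
  exact orderOf_eq_prime (x5_pow_five hF) (x5_ne_one hF)

/-- A tensor product of at least two twisted natural modules is not fixed point free for `x5`. -/
theorem card_bits_le_one (φ : ZMod 2 →+* F) (I : Finset (Fin (2 * m + 1)))
    (h : ∀ p p' : F × F, ∑ k ∈ Finset.range 5,
      ∏ i ∈ I, mat (pr hF p * x5 hF ^ k * pc hF p') 3 0 ^ 2 ^ (i : ℕ) = 0) : I.card ≤ 1 := by
  classical
  haveI := charTwo hF
  by_contra hI
  obtain ⟨i0, hi0, i1, hi1, hne⟩ := Finset.one_lt_card.1 (by omega : 1 < I.card)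
  have hfix : ∀ (y : ZMod 2) (e : ℕ), (φ y) ^ 2 ^ e = φ y := by
    intro y e
    rw [← map_pow]; congr 1
    rcases (show y = 0 ∨ y = 1 by revert y; decide) with rfl | rfl <;> simp
  -- coefficient matrices
  let Q : ℕ → Fin (2 * m + 1) → Fin 4 × Fin 4 → F := fun k i jl =>
    if i ∈ I then φ ((M5 ^ k) jl.1.rev jl.2) else (if jl = (3, 3) then 1 else 0)
  have hexp : ∀ (k : ℕ) (p p' : F × F),
      ∏ i ∈ I, mat (pr hF p * x5 hF ^ k * pc hF p') 3 0 ^ 2 ^ (i : ℕ) =
        ∑ s : Fin (2 * m + 1) → Fin 4 × Fin 4,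
          (∏ i, Q k i (s i)) * (basisFn m (fun i => (s i).1) p * basisFn m (fun i => (s i).2) p') := by
    intro k p p'
    have e1 : mat (pr hF p * x5 hF ^ k * pc hF p') 3 0 =
        ∑ jl : Fin 4 × Fin 4, φ ((M5 ^ k) jl.1.rev jl.2) * (col m p jl.1 * col m p' jl.2) := by
      rw [Fintype.sum_prod_type, mat_mul, mat_mul, Matrix.mul_apply]
      simp only [Matrix.mul_apply, pc_col hF, pr_row hF, mat_x5 hF φ, Matrix.map_apply,
        Finset.sum_mul]
      rw [Finset.sum_comm]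
      refine Fintype.sum_equiv Fin.revPerm _ _ fun j => Finset.sum_congr rfl fun l _ => ?_
      simp only [Fin.revPerm_apply, Fin.rev_rev]
      ring
    have e2 : ∀ i : Fin (2 * m + 1),
        (if i ∈ I then mat (pr hF p * x5 hF ^ k * pc hF p') 3 0 ^ 2 ^ (i : ℕ) else 1) =
        ∑ jl : Fin 4 × Fin 4,
          Q k i jl * (col m p jl.1 ^ 2 ^ (i : ℕ) * col m p' jl.2 ^ 2 ^ (i : ℕ)) := by
      intro i
      by_cases hi : i ∈ I
      · simp only [hi, if_true, Q, e1, sum_pow_char_pow, mul_pow, hfix]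
      · simp [hi, Q, col]
    calc _ = ∏ i, (if i ∈ I then mat (pr hF p * x5 hF ^ k * pc hF p') 3 0 ^ 2 ^ (i : ℕ) else 1) := by
          rw [Finset.prod_ite_mem, Finset.univ_inter]
      _ = ∏ i, ∑ jl : Fin 4 × Fin 4,
          Q k i jl * (col m p jl.1 ^ 2 ^ (i : ℕ) * col m p' jl.2 ^ 2 ^ (i : ℕ)) :=
        Finset.prod_congr rfl fun i _ => e2 i
      _ = _ := by
        rw [Fintype.prod_sum]
        refine Finset.sum_congr rfl fun s _ => ?_
        rw [Finset.prod_mul_distrib, Finset.prod_mul_distrib, basisFn, basisFn]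
  have hzero : ∀ a b : Fin (2 * m + 1) → Fin 4,
      ∑ k ∈ Finset.range 5, ∏ i, Q k i (a i, b i) = 0 := by
    have hA : ∀ p', (fun a : Fin (2 * m + 1) → Fin 4 => ∑ b : Fin (2 * m + 1) → Fin 4, (∑ k ∈ Finset.range 5, ∏ i, Q k i (a i, b i)) *
        basisFn m b p') = 0 := by
      intro p'
      refine coeff_eq_zero hF _ fun p => ?_
      calc _ = ∑ k ∈ Finset.range 5, ∑ s : Fin (2 * m + 1) → Fin 4 × Fin 4,
          (∏ i, Q k i (s i)) *
            (basisFn m (fun i => (s i).1) p * basisFn m (fun i => (s i).2) p') := by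
            simp only [Finset.sum_mul, Finset.mul_sum]
            conv_rhs => rw [Finset.sum_comm]
            rw [← (Equiv.arrowProdEquivProdArrow (Fin (2 * m + 1)) (fun _ => Fin 4)
              (fun _ => Fin 4)).symm.sum_comp, Fintype.sum_prod_type]
            refine Finset.sum_congr rfl fun a _ => ?_
            refine Finset.sum_congr rfl fun b _ => Finset.sum_congr rfl fun k _ => ?_
            simp [Equiv.arrowProdEquivProdArrow]
            ring
        _ = 0 := by rw [← h p p']; exact Finset.sum_congr rfl fun k _ => (hexp k p p').symm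
    intro a b
    exact congr_fun (coeff_eq_zero hF (fun b => ∑ k ∈ Finset.range 5, ∏ i, Q k i (a i, b i))
      fun p' => congr_fun (hA p') a) b
  -- test entries
  let v : Fin (2 * m + 1) → Fin 4 × Fin 4 := fun i =>
    if i = i1 then (3, 1) else if i ∈ I then (3, 0) else (3, 3)
  let R : ℕ → F := fun k => ∏ i ∈ Finset.univ.erase i0, Q k i (v i)
  have key : ∀ j l : Fin 4, ∑ k ∈ Finset.range 5, φ ((M5 ^ k) j l) * R k = 0 := by
    intro j l
    rw [← hzero (fun i => if i = i0 then j.rev else (v i).1)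
      (fun i => if i = i0 then l else (v i).2)]
    refine Finset.sum_congr rfl fun k _ => ?_
    rw [← Finset.mul_prod_erase Finset.univ _ (Finset.mem_univ i0)]
    refine congr_arg₂ _ (by simp [Q, hi0]) (Finset.prod_congr rfl fun i hi => ?_)
    simp [Finset.ne_of_mem_erase hi]
  have c32 := key 3 2
  have c02 := key 0 2
  have c30 := key 3 0
  have c11 := key 1 1
  have eM : ∀ k : ℕ, k ≤ 4 → ((M5 ^ k) 3 2 = if k = 3 ∨ k = 4 then 1 else 0) ∧
      ((M5 ^ k) 0 2 = if k = 2 ∨ k = 3 then 1 else 0) ∧ ((M5 ^ k) 3 0 = if k = 0 then 0 else 1) ∧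
      ((M5 ^ k) 1 1 = if k = 0 ∨ k = 3 then 1 else 0) := by
    intro k hk
    interval_cases k <;> decide
  simp [Finset.sum_range_succ, eM 0, eM 1, eM 2, eM 3, eM 4] at c32 c02 c30 c11
  have hR : R 0 = R 1 := by
    linear_combination c11 - c30 + c02 - c32 + R 4 * two_eq_zero hF
  have hR1 : R 1 = 1 := by
    refine Finset.prod_eq_one fun i hi => ?_
    by_cases h1 : i = i1
    · simp [v, Q, h1, hi1, M5, Fin.rev]
    · by_cases h2 : i ∈ I
      · simp [v, Q, h1, h2, M5, Fin.rev]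
      · simp [v, Q, h1, h2]
  have hR0 : R 0 = 0 := by
    refine Finset.prod_eq_zero (Finset.mem_erase.2 ⟨hne.symm, Finset.mem_univ i1⟩) ?_
    simp [v, Q, hi1, Fin.rev]
  rw [hR0, hR1] at hR
  exact zero_ne_one hR

end CfsgLib.CITExtSz
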