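import Cfsg.Agent.Lib.CITExt.Sz.Witt
import Cfsg.Agent.Lib.CITExt.Sz.Bilin

/-!
# No fixed point free `Z/4`-module with nonzero doubling for the Suzuki groups
-/

set_option autoImplicit false
set_option linter.unusedSectionVars false
set_option linter.style.haveILetI false

namespace CfsgLib.CITExtSz

open CfsgLib.Suzuki Matrix
open scoped Classical

variable {F : Type*} [Field F] [Fintype F] {m : ℕ}
variable (hF : Fintype.card F = 2 ^ (2 * m + 1)) (hm : 1 ≤ m)
include hF hm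

/-- A fixed point free module has a low vector with a nonzero jump. -/
theorem exists_jump {V : Type*} [AddCommGroup V] [Module F V] [FiniteDimensional F V]
    {ρ : Rep F m V} (hρ : Fpf hF ρ) (hne : ∃ x : V, x ≠ 0) :
    ∃ (i : Fin (2 * m + 1)) (z : V),
      (∀ t, ρ (dS hF t) z = ((dl m t⁻¹ : F) ^ 2 ^ (i : ℕ)) • z) ∧
      ∑ b : F, ((th m b)⁻¹ ^ 2 ^ (i : ℕ)) • ρ (uS hF 0 b) z ≠ 0 := by
  haveI := charTwo hF
  obtain ⟨x, hx⟩ := hne
  obtain ⟨v, -, hv0, e, he, hv⟩ := exists_high hF ρ ⊤ (fun _ _ _ => Submodule.mem_top)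
    (fun h => hx (by simpa [h] using (Submodule.mem_top : x ∈ (⊤ : Submodule F V))))
  obtain ⟨i, η, rfl, hβ, hc⟩ := high_pow hF hm hρ he hv hv0
  refine ⟨i, ρ (wS hF) v, tor_low hF hm hv, fun h0 => hβ ?_⟩
  have h1 := congr_arg η (congr_arg (ρ (wS hF)) h0)
  rw [map_zero, map_zero] at h1
  simp only [map_sum, map_smul, smul_eq_mul] at h1
  have hent : ∀ b, mat (wS hF * uS hF 0 b * wS hF) 3 0 = th m b := fun b => by
    simp [mat_mul, mat_uS, mat_wS, mU, mW, fp, Matrix.mul_apply, Fin.sum_univ_four]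
  have hterm : ∀ b : F, (th m b)⁻¹ ^ 2 ^ (i : ℕ) * η (ρ (wS hF) (ρ (uS hF 0 b) (ρ (wS hF) v))) =
      if b = 0 then 0 else η (ρ (wS hF) v) := by
    intro b
    rw [← rep_mul, ← rep_mul, hc, ← mul_assoc, hent]
    split_ifs with hb
    · simp [hb]
    · rw [mul_right_comm, ← mul_pow, inv_mul_cancel₀ (fun h => hb (th_eq_zero_iff.1 h)), one_pow,
        one_mul]
  rw [Finset.sum_congr rfl fun b _ => hterm b, Finset.sum_ite, Finset.sum_const_zero, zero_add,
    Finset.sum_const, nsmul_eq_mul, Finset.filter_not, Finset.filter_eq' _ (0 : F),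
    if_pos (Finset.mem_univ _), Finset.card_sdiff_of_subset (by simp), Finset.card_univ,
    Finset.card_singleton, Nat.cast_sub Fintype.card_pos, Nat.cast_card_eq_zero, zero_sub,
    Nat.cast_one, neg_mul, one_mul, neg_eq_zero] at h1
  exact h1

omit hm in
/-- How the torus scales the exponent of the root group parameter. -/
theorem kappa_pow [CharP F 2] (t : Fˣ) (j : ℕ) :
    (th m (t : F) * (t : F) ^ 2) ^ 2 ^ (m + j) = (dl m t : F) ^ 2 ^ j := by
  have h : ((th m (t : F) * (t : F) ^ 2) ^ 2 ^ (m + j)) ^ 2 = ((dl m t : F) ^ 2 ^ j) ^ 2 := by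
    rw [← pow_mul, ← pow_succ, show m + j + 1 = (m + 1) + j by omega, pow_add, pow_mul]
    show (th m (th m (t : F) * (t : F) ^ 2)) ^ 2 ^ j = _
    rw [th_mul, th_th hF, th_pow, ← pow_mul _ (2 ^ j) 2, mul_comm (2 ^ j) 2, pow_mul]
    congr 1
    show _ = (th m (t : F) * t) ^ 2
    ring
  exact (PerfectRing.bijective_frobenius (R := F) (p := 2)).1 h

set_option maxHeartbeats 800000 in
/-- **A fixed point free `Z/4`-module of the Suzuki group is killed by 2.** -/
theorem two_smul_eq_zero {Q : Type*} [AddCommGroup Q] [Finite Q] (h4 : ∀ x : Q, 4 • x = 0)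
    (π : ↥(Cfsg.Sz F m) →* AddMonoid.End Q) (htor : ∀ x, ∑ t : Fˣ, π (dS hF t) x = 0)
    (hfive : ∀ x, ∑ k ∈ Finset.range 5, π (x5 hF ^ k) x = 0) (x : Q) : 2 • x = 0 := by
  haveI := charTwo hF
  let Q2 : AddSubgroup Q := (nsmulAddMonoidHom 2 : Q →+ Q).range
  have hQ2 : ∀ (g : ↥(Cfsg.Sz F m)), ∀ y ∈ Q2, π g y ∈ Q2 := by
    rintro g _ ⟨y, rfl⟩
    exact ⟨π g y, by simp [nsmulAddMonoidHom]⟩
  by_contra hx
  -- the dual of the doubles, over `F`
  let D := Q2 →+ F
  let ρ : Rep F m D :=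
    { toFun := fun g =>
        { toFun := fun d => AddMonoidHom.mk' (fun y => d ⟨π g⁻¹ y, hQ2 _ _ y.2⟩)
            (fun a b => by rw [← map_add]; congr 1; exact Subtype.ext (by simp))
          map_add' := fun d d' => by ext; rfl
          map_smul' := fun a d => by ext; rfl }
      map_one' := by ext d y; simp
      map_mul' := fun g h => by ext d y; simp [AddMonoid.End.coe_mul]; rfl }
  have hρ : ∀ g (d : D) (y : Q2), ρ g d y = d ⟨π g⁻¹ y, hQ2 _ _ y.2⟩ := fun _ _ _ => rfl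
  haveI : Finite D := Finite.of_injective _ DFunLike.coe_injective
  haveI : FiniteDimensional F D := Module.Finite.of_finite
  have hfpf : Fpf hF ρ := by
    constructor
    · ext d y
      rw [LinearMap.sum_apply, AddMonoidHom.finsetSum_apply]
      simp only [hρ]
      rw [← map_sum, LinearMap.zero_apply, AddMonoidHom.zero_apply, ← map_zero d]
      congr 1
      refine Subtype.ext ?_
      rw [AddSubgroup.val_finsetSum, AddSubgroup.coe_zero, ← htor y,
        ← Equiv.sum_comp (Equiv.inv Fˣ) (fun t => π (dS hF t) (y : Q))]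
      exact Finset.sum_congr rfl fun t _ => by simp [dS_inv]
    · ext d y
      rw [LinearMap.sum_apply, AddMonoidHom.finsetSum_apply]
      simp only [hρ]
      rw [← map_sum, LinearMap.zero_apply, AddMonoidHom.zero_apply, ← map_zero d]
      congr 1
      refine Subtype.ext ?_
      rw [AddSubgroup.val_finsetSum, AddSubgroup.coe_zero, ← hfive y]
      exact five_inv (x5 hF) (x5_pow_five hF) fun g => π g (y : Q)
  -- every functional on the doubles lifts
  have h4' : ∀ y : Q2, 2 • (y : Q) = 0 := by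
    rintro ⟨_, y, rfl⟩
    show 2 • (2 • y) = 0
    rw [smul_smul]; exact h4 y
  have hlift : ∀ d : D, ∃ θ : Q →+ W2 F, ∀ y : Q2, θ y = iot (d y) := fun d =>
    exists_extend_hom h4 Q2 (iot.comp d)
  have hne : ∃ d : D, d ≠ 0 := by
    set y : Q2 := ⟨2 • x, x, rfl⟩ with hy
    letI : Module (ZMod 2) Q2 := AddCommGroup.zmodModule fun z => Subtype.ext (h4' z)
    obtain ⟨φ, hφ⟩ := Module.Projective.exists_dual_ne_zero (ZMod 2)
      (show y ≠ 0 from fun h => hx (congr_arg Subtype.val h))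
    refine ⟨(ZMod.castHom (dvd_refl 2) F).toAddMonoidHom.comp φ.toAddMonoidHom, fun h => hφ ?_⟩
    exact (ZMod.castHom (dvd_refl 2) F).injective ((DFunLike.congr_fun h y).trans (map_zero _).symm)
  obtain ⟨i, z, hz, hjump⟩ := exists_jump hF hm hfpf hne
  set N := 2 ^ (i : ℕ) with hN
  obtain ⟨θ₀, hθ₀⟩ := hlift z
  -- the weight component of the lift
  let σ : ↥(Cfsg.Sz F m) → (Q →+ W2 F) → (Q →+ W2 F) := fun g θ => θ.comp (π g⁻¹)
  have hσ : ∀ g θ y, σ g θ y = θ (π g⁻¹ y) := fun _ _ _ => rfl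
  have hσmul : ∀ g h θ, σ (g * h) θ = σ g (σ h θ) := fun g h θ => by
    ext y; simp [hσ, AddMonoid.End.coe_mul]
  have hσsum : ∀ {ι : Type _} (s : Finset ι) g (c : ι → W2 F) (f : ι → (Q →+ W2 F)),
      σ g (∑ j ∈ s, c j • f j) = ∑ j ∈ s, c j • σ g (f j) := fun s g c f => by
    ext y; simp [hσ]
  let θ : Q →+ W2 F := ∑ t : Fˣ, tc ((dl m t : F) ^ N) • σ (dS hF t) θ₀
  have hθtor : ∀ s : Fˣ, σ (dS hF s) θ = tc ((dl m s⁻¹ : F) ^ N) • θ := by
    intro s
    rw [hσsum, Finset.smul_sum, ← Equiv.sum_comp (Equiv.mulLeft s)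
      (fun t => tc ((dl m s⁻¹ : F) ^ N) • tc ((dl m t : F) ^ N) • σ (dS hF t) θ₀)]
    refine Finset.sum_congr rfl fun t _ => ?_
    rw [Equiv.coe_mulLeft, ← hσmul, dS_mul, smul_smul, ← map_mul, ← mul_pow, ← Units.val_mul,
      ← dl_mul, inv_mul_cancel_left]
  have hσiot : ∀ g (φ : Q →+ W2 F) (d : D), (∀ y : Q2, φ y = iot (d y)) →
      ∀ y : Q2, σ g φ y = iot (ρ g d y) := fun g φ d h y => h ⟨π g⁻¹ y, hQ2 _ _ y.2⟩
  have hθ : ∀ y : Q2, θ y = iot (z y) := by
    intro y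
    rw [show θ y = ∑ t : Fˣ, tc ((dl m t : F) ^ N) * σ (dS hF t) θ₀ y from by simp [θ]]
    have e : ∀ t : Fˣ, tc ((dl m t : F) ^ N) * σ (dS hF t) θ₀ y = iot (z y) := fun t => by
      rw [hσiot _ _ _ hθ₀ y, hz, iot_mul, res_tc, AddMonoidHom.smul_apply, smul_eq_mul, ← mul_assoc,
        ← mul_pow, ← Units.val_mul, ← dl_mul, mul_inv_cancel, dl_one, Units.val_one, one_pow,
        one_mul]
    rw [Finset.sum_congr rfl fun t _ => e t, Finset.sum_const, ← map_nsmul, nsmul_eq_mul,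
      Finset.card_univ, Fintype.card_units, Nat.cast_sub Fintype.card_pos, Nat.cast_card_eq_zero,
      zero_sub, Nat.cast_one, neg_mul, one_mul, CharTwo.neg_eq]
  set h := 2 ^ (m + (i : ℕ)) with hh
  have hh0 : h ≠ 0 := by positivity
  let Φ : Q →+ W2 F := ∑ b : F, tc (b⁻¹ ^ h) • σ (uS hF 0 b) θ
  -- the half jump has weight zero
  have hΦfix : ∀ s : Fˣ, σ (dS hF s) Φ = Φ := by
    intro s
    have hk0 : th m (s : F) * (s : F) ^ 2 ≠ 0 :=
      mul_ne_zero (fun h => s.ne_zero (th_eq_zero_iff.mp h)) (pow_ne_zero _ s.ne_zero)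
    rw [hσsum]
    refine Eq.trans (Finset.sum_congr rfl fun b _ => ?_)
      (Equiv.sum_comp (Equiv.mulLeft₀ _ hk0) (fun b => tc (b⁻¹ ^ h) • σ (uS hF 0 b) θ))
    simp only [Equiv.mulLeft₀_apply]
    rw [← hσmul, dS_mul_uS, mul_zero, hσmul, hθtor]
    have e : σ (uS hF 0 (th m (s : F) * (s : F) ^ 2 * b)) (tc ((dl m s⁻¹ : F) ^ N) • θ) =
        tc ((dl m s⁻¹ : F) ^ N) • σ (uS hF 0 (th m (s : F) * (s : F) ^ 2 * b)) θ := by
      ext y; simp [hσ]
    rw [e, smul_smul, ← map_mul]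
    congr 2
    rw [_root_.mul_inv_rev, mul_pow, inv_pow (th m (s : F) * (s : F) ^ 2), hh, kappa_pow hF, ← hN,
      dl_inv, Units.val_inv_eq_inv_val, inv_pow, inv_pow]
  have hΦ0 : Φ = 0 := by
    have hsum : ∑ t : Fˣ, σ (dS hF t) Φ = 0 := by
      refine AddMonoidHom.ext fun y => ?_
      rw [AddMonoidHom.finsetSum_apply]
      simp only [hσ]
      rw [← map_sum, AddMonoidHom.zero_apply, ← map_zero Φ, ← htor y,
        ← Equiv.sum_comp (Equiv.inv Fˣ) (fun t => π (dS hF t) y)]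
      exact congr_arg Φ (Finset.sum_congr rfl fun t _ => by rw [Equiv.inv_apply, dS_inv])
    simp only [hΦfix, Finset.sum_const, ← Nat.cast_smul_eq_nsmul (W2 F)] at hsum
    refine (isUnit_of_res (w := ((Finset.univ : Finset Fˣ).card : W2 F)) ?_).smul_eq_zero.1 hsum
    rw [map_natCast, Finset.card_univ, Fintype.card_units, Nat.cast_sub Fintype.card_pos,
      Nat.cast_card_eq_zero, zero_sub]
    simp
  obtain ⟨c, hc0, hc1⟩ := exists_not_zero_one hF hm
  have hcpow : ∀ n : ℕ, c ^ 2 ^ n ≠ 1 := fun n e => hc1 (iterateFrobenius_inj F 2 n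
    (by simpa [iterateFrobenius_def] using e))
  -- apply the half jump twice
  have hdouble : ∑ d : F, (2 * tc (d⁻¹ ^ (2 * h))) • σ (uS hF 0 d) θ = 0 := by
    have e1 : ∑ b : F, tc (b⁻¹ ^ h) • σ (uS hF 0 b) Φ = 0 := by
      rw [hΦ0]; ext y; simp [hσ]
    have e2 : ∀ b : F, tc (b⁻¹ ^ h) • σ (uS hF 0 b) Φ =
        ∑ d : F, (tc (b⁻¹ ^ h) * tc ((b + d)⁻¹ ^ h)) • σ (uS hF 0 d) θ := by
      intro b
      rw [hσsum, Finset.smul_sum]
      refine Fintype.sum_equiv (Equiv.addLeft b) _ _ fun d => ?_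
      rw [Equiv.coe_addLeft, ← add_assoc b b d, CharTwo.add_self_eq_zero, zero_add, smul_smul,
        ← hσmul, uS_mul, add_zero, th_zero, zero_mul, add_zero]
    rw [Finset.sum_congr rfl fun b _ => e2 b, Finset.sum_comm] at e1
    simp only [← Finset.sum_smul] at e1
    rw [← neg_eq_zero, ← Finset.sum_neg_distrib, ← e1]
    refine Finset.sum_congr rfl fun d _ => ?_
    rw [← neg_smul]
    congr 1
    by_cases hd : d = 0
    · subst hd
      simp only [_root_.inv_zero, add_zero, zero_pow (Nat.mul_ne_zero two_ne_zero hh0), tc_zero, mul_zero,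
        neg_zero, ← map_mul, ← mul_pow]
      rw [← sum_tc_pow (F := F) (k := 2 * h) (Nat.mul_ne_zero two_ne_zero hh0) hc0
        (by rw [hh, ← pow_succ']; exact hcpow _),
        ← Equiv.sum_comp (Equiv.inv F) (fun b => tc (b ^ (2 * h)))]
      exact Finset.sum_congr rfl fun b _ => by rw [pow_mul, sq]; rfl
    · rw [← Equiv.sum_comp (Equiv.mulRight₀ d hd) (fun b => tc (b⁻¹ ^ h) * tc ((b + d)⁻¹ ^ h)),
        ← neg_mul, ← key_sum (m + (i : ℕ)) hc0 hc1, Finset.sum_mul]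
      refine Finset.sum_congr rfl fun w _ => ?_
      simp only [Equiv.mulRight₀_apply]
      rw [← map_mul, ← map_mul, ← hh]
      congr 1
      rw [show w * d + d = (w + 1) * d by ring]
      simp only [_root_.mul_inv_rev, mul_pow, pow_mul', sq]
      ring
  -- compare with the jump
  refine hjump (AddMonoidHom.ext fun y => iot_inj ?_)
  rw [AddMonoidHom.finsetSum_apply, map_sum]
  obtain ⟨x', hx'⟩ := y.2
  have e3 := DFunLike.congr_fun hdouble x'
  rw [AddMonoidHom.finsetSum_apply, AddMonoidHom.zero_apply] at e3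
  rw [← e3]
  refine Finset.sum_congr rfl fun d _ => ?_
  have hyx : (y : Q) = 2 • x' := hx'.symm
  have e4 : th m d = d ^ 2 ^ (m + 1) := rfl
  have hexp : (th m d)⁻¹ ^ N = d⁻¹ ^ (2 * h) := by
    rw [e4, ← inv_pow, ← pow_mul, hN, hh, ← pow_add, ← pow_succ']
    congr 2
    omega
  have e5 : σ (uS hF 0 d) θ (y : Q) = iot (ρ (uS hF 0 d) z y) := hσiot _ _ _ hθ y
  rw [hyx, map_nsmul, nsmul_eq_mul, Nat.cast_ofNat] at e5
  rw [AddMonoidHom.smul_apply, AddMonoidHom.smul_apply, smul_eq_mul, smul_eq_mul, hexp,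
    mul_assoc, mul_left_comm, e5, iot_mul, res_tc]

end CfsgLib.CITExtSz
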