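import Cfsg.Agent.Lib.CITExt.Sz.Commutative
import Cfsg.Agent.Lib.CITExt.Sz.Exponent

/-!
# Martineau's theorem: fixed point free Suzuki actions on 2-groups

If `G/P ≅ Sz(q)`, `P` is a 2-group and every element of odd prime order acts without fixed points
on `P`, then `P` is elementary abelian.
-/

set_option autoImplicit false
set_option linter.unusedSectionVars false
set_option linter.style.haveILetI false

namespace CfsgLib.CITExtSz

open CfsgLib.Suzuki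
open scoped Classical IsMulCommutative commutatorElement

variable {F : Type*} [Field F] [Fintype F] {m : ℕ}
variable (hF : Fintype.card F = 2 ^ (2 * m + 1)) (hm : 1 ≤ m)
include hF hm

/-- The kernel has exponent 2. -/
theorem ker_sq {G : Type*} [Group G] [Finite G] {θ : G →* ↥(Cfsg.Sz F m)} (h : Hyp θ)
    (hc : ∀ x ∈ θ.ker, ∀ y ∈ θ.ker, x * y = y * x) : ∀ x ∈ θ.ker, x * x = 1 := by
  set P := θ.ker with hPdef
  haveI hP : IsMulCommutative P := ⟨⟨fun a b => Subtype.ext (hc _ a.2 _ b.2)⟩⟩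
  let M : Subgroup G := (powMonoidHom 4 : P →* P).range.map P.subtype
  have hMP : M ≤ θ.ker := Subgroup.map_subtype_le _
  have hmem : ∀ x, x ∈ M ↔ ∃ y ∈ P, y ^ 4 = x := fun x => by
    constructor
    · rintro ⟨_, ⟨y, rfl⟩, rfl⟩
      exact ⟨y, y.2, rfl⟩
    · rintro ⟨y, hy, rfl⟩
      exact ⟨⟨y, hy⟩ ^ 4, ⟨⟨y, hy⟩, rfl⟩, rfl⟩
  haveI : M.Normal := ⟨fun x hx g => by
    obtain ⟨y, hy, rfl⟩ := (hmem x).1 hx
    exact (hmem _).2 ⟨g * y * g⁻¹, Subgroup.Normal.conj_mem (MonoidHom.normal_ker θ) _ hy g, conj_pow⟩⟩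
  have h' := h.quotient M hMP
  set θ₁ := QuotientGroup.lift M θ hMP
  have hker : θ₁.ker = P.map (QuotientGroup.mk' M) := QuotientGroup.ker_lift _ _ _
  haveI : IsMulCommutative θ₁.ker := by
    refine ⟨⟨fun a b => ?_⟩⟩
    obtain ⟨x, hx, ex⟩ := hker.le a.2
    obtain ⟨y, hy, ey⟩ := hker.le b.2
    refine Subtype.ext ?_
    show (a : G ⧸ M) * b = b * a
    rw [← ex, ← ey, ← map_mul, ← map_mul, hc _ hx _ hy]
  have hc1 : ∀ u ∈ θ₁.ker, ∀ x ∈ θ₁.ker, u * x = x * u := fun u hu x hx =>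
    congr_arg Subtype.val (mul_comm' (⟨u, hu⟩ : θ₁.ker) ⟨x, hx⟩)
  have h4 : ∀ a : Additive θ₁.ker, 4 • a = 0 := fun a => by
    obtain ⟨x, hx, ex⟩ := hker.le (Additive.toMul a).2
    refine Additive.toMul.injective (Subtype.ext ?_)
    show (Additive.toMul a).1 ^ 4 = 1
    rw [← ex, ← map_pow]
    exact (QuotientGroup.eq_one_iff _).2 ((hmem _).2 ⟨x, hx, rfl⟩)
  have htwo := two_smul_eq_zero hF hm h4 (act h' θ₁.ker hc1) (act_tor hF hm h' θ₁.ker le_rfl hc1)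
    (act_five hF h' θ₁.ker le_rfl hc1)
  have hsq : ∀ x ∈ P, ∃ y ∈ P, y ^ 4 = x ^ 2 := fun x hx => by
    have hx' : (QuotientGroup.mk' M x) ∈ θ₁.ker := hker.ge (Subgroup.mem_map_of_mem _ hx)
    have := congr_arg (fun z : Additive θ₁.ker => (Additive.toMul z).1)
      (htwo (Additive.ofMul ⟨_, hx'⟩))
    change (QuotientGroup.mk' M x) ^ 2 = 1 at this
    rw [← map_pow] at this
    exact (hmem _).1 ((QuotientGroup.eq_one_iff _).1 this)
  have hit : ∀ j : ℕ, ∀ x ∈ P, ∃ y ∈ P, (y ^ 2) ^ 2 ^ j = x ^ 2 := by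
    intro j
    induction j with
    | zero => exact fun x hx => ⟨x, hx, by simp⟩
    | succ j ih =>
      intro x hx
      obtain ⟨y, hy, ey⟩ := ih x hx
      obtain ⟨z, hz, ez⟩ := hsq y hy
      exact ⟨z, hz, by rw [← ey, ← ez, ← pow_mul, ← pow_mul, pow_succ]; ring_nf⟩
  haveI : Fact (Nat.Prime 2) := ⟨Nat.prime_two⟩
  obtain ⟨k, hk⟩ := IsPGroup.iff_card.1 h.two
  intro x hx
  obtain ⟨y, hy, ey⟩ := hit k x hx
  have h1 : y ^ Nat.card P = 1 := by
    exact congr_arg Subtype.val (pow_card_eq_one' (G := P) (x := ⟨y, hy⟩))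
  rw [hk] at h1
  rw [← sq, ← ey, ← pow_mul, mul_comm, pow_mul, h1, one_pow]

/-- **Martineau's theorem.** -/
theorem elementary {G : Type*} [Group G] [Finite G] (θ : G →* ↥(Cfsg.Sz F m)) (h : Hyp θ) :
    (∀ x ∈ θ.ker, ∀ y ∈ θ.ker, x * y = y * x) ∧ ∀ x ∈ θ.ker, x * x = 1 := by
  have hc : ∀ x ∈ θ.ker, ∀ y ∈ θ.ker, x * y = y * x := fun x hx y hy => by
    rw [← commutatorElement_eq_one_iff_mul_comm, ← Subgroup.mem_bot, ← ker_comm hF hm h]
    exact Subgroup.commutator_mem_commutator hx hy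
  exact ⟨hc, ker_sq hF hm h hc⟩

omit hF hm

/-- **Martineau's theorem** for an isomorphism `G/P ≅ Sz(q)`. -/
theorem elementary_of_equiv (hF : Fintype.card F = 2 ^ (2 * m + 1)) (hm : 1 ≤ m) {G : Type*}
    [Group G] [Finite G] (P : Subgroup G) [P.Normal] (hP : IsPGroup 2 P)
    (e : G ⧸ P ≃* ↥(Cfsg.Sz F m))
    (hfpf : ∀ g : G, Odd (orderOf g) → g ≠ 1 → ∀ x ∈ P, g * x = x * g → x = 1) :
    (∀ x ∈ P, ∀ y ∈ P, x * y = y * x) ∧ ∀ x ∈ P, x * x = 1 := by
  let θ : G →* ↥(Cfsg.Sz F m) := e.toMonoidHom.comp (QuotientGroup.mk' P)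
  have hk : θ.ker = P := by
    rw [MonoidHom.ker_comp_of_injective _ _ e.injective, QuotientGroup.ker_mk']
  have h : Hyp θ := by
    refine ⟨e.surjective.comp (QuotientGroup.mk'_surjective P), hk.symm ▸ hP, ?_⟩
    intro g p hp hp2 ho x hx
    refine hfpf g ?_ ?_ x (hk ▸ hx)
    · rw [ho]; exact hp.odd_of_ne_two hp2
    · intro h1; rw [h1, orderOf_one] at ho; exact hp.ne_one ho.symm
  have := elementary hF hm θ h
  rwa [hk] at this

end CfsgLib.CITExtSz
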