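import Cfsg.Agent.Lib.CITExt.Sz.Classify

/-!
Equivariant bilinear maps of fixed-point-free modules of a Suzuki group vanish, and a certain element of the group
ring is not zero on such a module.
-/

set_option autoImplicit false
set_option linter.unusedSectionVars false
set_option linter.style.haveILetI false

namespace CfsgLib.CITExt.Sz

open Matrix CfsgLib.Suzuki

universe v v' w

variable {F : Type} [Field F] [Fintype F] {m : ℕ} (hF : Fintype.card F = 2 ^ (2 * m + 1))
variable {V : Type v} [AddCommGroup V] [Module F V]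
variable {V' : Type v'} [AddCommGroup V'] [Module F V']
variable {W : Type w} [AddCommGroup W] [Module F W]

/-- The exponent of a twist. -/
noncomputable def pw (x : F) (j : ZMod (2 * m + 1)) : F := x ^ 2 ^ j.val

/-- The shift. -/
abbrev sh (m : ℕ) : ZMod (2 * m + 1) := ((m + 1 : ℕ) : ZMod (2 * m + 1))

/-- The weights of a twist of the natural module. -/
noncomputable def wts (j : ZMod (2 * m + 1)) (b : Fˣ) : Fin 4 → F :=
  ![pw (b : F) j, pw (b : F) (j + sh m) / pw (b : F) j, pw (b : F) j / pw (b : F) (j + sh m),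
    (pw (b : F) j)⁻¹]

/-- A basis of a twist of the natural module, with the properties used. -/
structure Nat4 (hF : Fintype.card F = 2 ^ (2 * m + 1)) (ρ : SZ F m →* Module.End F V) (j : ZMod (2 * m + 1)) (y : Fin 4 → V) : Prop where
  fix0 : ∀ a b, ρ (uS hF a b) (y 0) = y 0
  fix1 : ∀ a b, ∃ k : F, ρ (uS hF a b) (y 1) = y 1 + k • y 0
  fix2 : ∀ a b, ∃ k l : F, ρ (uS hF a b) (y 2) = y 2 + k • y 1 + l • y 0
  fix3 : ∀ a b, ∃ k l o : F, ρ (uS hF a b) (y 3) = y 3 + k • y 2 + l • y 1 + o • y 0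
  wt : ∀ b c, ρ (hB hF b) (y c) = wts j b c • y c
  weyl : ρ (wS hF) (y 0) = y 3
  fixed : ∀ x, (∀ a b, ρ (uS hF a b) x = x) → ∃ k : F, x = k • y 0
  gen : uSpan hF ρ (y 3) = ⊤
  z3 : ∀ s, ∃ k : F, ρ (zB hF s) (y 3) = y 3 + k • y 1 + pw s (j + 1) • y 0
  coord : ∃ π : V →ₗ[F] F, π (y 0) = 1 ∧ π (y 1) = 0 ∧ π (y 3) = 0

include hF in
theorem pow_mod_pw (x : F) (k : ℕ) : x ^ 2 ^ k = pw (m := m) x (k : ZMod (2 * m + 1)) :=
  pow_pow_mod hF x k

/-- Irreducible modules have such a basis. -/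
theorem exists_nat4 [Finite V] (hm : 1 ≤ m) (ρ : SZ F m →* Module.End F V) (hρ : Fpf ρ) (hirr : Irr ρ) :
    ∃ j y, Nat4 hF ρ j y := by
  classical
  obtain ⟨j, φ, hφ⟩ := classify hF ρ hm hρ hirr
  set σ := tRep hF (fun _ : Unit => j.val) with hσ
  let E : Fin 4 → ((Unit → Fin 4) → F) := fun c => Pi.single (fun _ => c) 1
  have hdec : ∀ x : (Unit → Fin 4) → F,
      x = x (fun _ => 0) • E 0 + x (fun _ => 1) • E 1 + x (fun _ => 2) • E 2 + x (fun _ => 3) • E 3 := by
    intro x
    funext f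
    obtain ⟨c, rfl⟩ : ∃ c, f = fun _ => c := ⟨f (), funext fun _ => rfl⟩
    fin_cases c <;>
      simp [E, funext_iff]
  have hent : ∀ a b (c r : Fin 4), σ (uS hF a b) (E c) (fun _ => r) = frob hF (j.val + (m + 1)) (mU m a b r c) := by
    intro a b c r
    simp only [E, hσ, tRep_apply, Matrix.mulVec_single_one, Matrix.col_apply, tens_apply]
    simp only [Fintype.prod_unique, twist]
    rfl
  have htw : ∀ x : F, frob hF (j.val + (m + 1)) x = pw x ((j.val : ZMod (2 * m + 1)) + sh m) := fun x => by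
    rw [frob_apply, pow_mod_pw hF, Nat.cast_add]
  refine ⟨(j.val : ZMod (2 * m + 1)), fun c => φ (E c), ⟨fun a b => ?_, fun a b => ?_, fun a b => ?_, fun a b => ?_,
    fun b c => ?_, ?_, fun x hx => ?_, ?_, fun s => ?_, ?_⟩⟩
  · rw [← hφ]
    exact congrArg φ (tRep_uS_top hF _ a b)
  · rw [← hφ, hdec (σ (uS hF a b) (E 1))]
    simp only [hent, mU, Matrix.of_apply, Matrix.cons_val', Matrix.cons_val_zero, Matrix.cons_val_one,
      Matrix.cons_val, map_one, map_zero, one_smul, zero_smul, add_zero, map_add, map_smul]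
    exact ⟨_, by abel⟩
  · rw [← hφ, hdec (σ (uS hF a b) (E 2))]
    simp only [hent, mU, Matrix.of_apply, Matrix.cons_val', Matrix.cons_val_zero, Matrix.cons_val_one,
      Matrix.cons_val, map_one, map_zero, one_smul, zero_smul, add_zero, map_add, map_smul]
    exact ⟨frob hF (j.val + (m + 1)) (th m a), (frob hF (j.val + (m + 1)) b + frob hF (j.val + (m + 1)) (th m a * a)),
      by abel⟩
  · rw [← hφ, hdec (σ (uS hF a b) (E 3))]
    simp only [hent, mU, Matrix.of_apply, Matrix.cons_val', Matrix.cons_val_zero, Matrix.cons_val_one,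
      Matrix.cons_val, map_one, map_zero, one_smul, zero_smul, add_zero, map_add, map_smul]
    exact ⟨frob hF (j.val + (m + 1)) a, frob hF (j.val + (m + 1)) b, frob hF (j.val + (m + 1)) (fp m a b), by abel⟩
  · rw [← hφ, hB_eq, tRep_dS_single, map_smul]
    congr 1
    simp only [Fintype.prod_unique, twist]
    have h0 : frob hF (j.val + (m + 1)) ((b : F) ^ 2 ^ m) = pw (b : F) (j.val : ZMod (2 * m + 1)) := by
      rw [← pow_mod_pw hF, ← twist_top hF (fun _ : Unit => j.val) () (b : F)]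
      rfl
    fin_cases c
    · show frob hF _ (th m (root hF b : F) * root hF b) = pw (b : F) _
      rw [root_top hF, h0]
    · show frob hF _ (root hF b : F) = pw (b : F) _ / pw (b : F) _
      rw [root_val hF, map_div₀, h0, htw]
    · show frob hF _ (root hF b : F)⁻¹ = pw (b : F) _ / pw (b : F) _
      rw [root_val hF, inv_div, map_div₀, h0, htw]
    · show frob hF _ (th m (root hF b : F) * root hF b)⁻¹ = (pw (b : F) _)⁻¹
      rw [map_inv₀, root_top hF, h0]
  · rw [← hφ]
    exact congrArg φ (tRep_wS_single hF _ _)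
  · refine ⟨φ.symm x (fun _ => 0), ?_⟩
    have h := fixed_eq_smul_top hF hm (fun _ : Unit => j) (fun _ _ _ => rfl) (φ.symm x) fun a b =>
      φ.injective (by rw [hφ, φ.apply_symm_apply, hx])
    conv_lhs => rw [← φ.apply_symm_apply x, h]
    rw [map_smul]
    rfl
  · rw [Submodule.eq_top_iff']
    intro x
    haveI : Fintype ↥(U hF) := Fintype.ofFinite _
    obtain ⟨c, hc⟩ := exists_comb hF (fun _ : Unit => j) (fun _ _ _ => rfl) (φ.symm x)
    rw [← φ.apply_symm_apply x, ← hc, map_sum]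
    refine Submodule.sum_mem _ fun p _ => ?_
    obtain ⟨a, b, hab⟩ := (mem_U hF).mp p.2
    rw [map_smul, hφ, hab]
    exact Submodule.smul_mem _ _ (mem_uSpan hF ρ _ a b)
  · refine ⟨frob hF (j.val + (m + 1)) s, ?_⟩
    rw [← hφ, hdec (σ (zB hF s) (E 3))]
    simp only [zB, hent, mU, fp, Matrix.of_apply, Matrix.cons_val', Matrix.cons_val_zero, Matrix.cons_val_one,
      Matrix.cons_val, map_one, map_zero, one_smul, zero_smul, add_zero, map_add, map_smul, mul_zero, zero_mul,
      zero_add, th_zero]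
    have : frob hF (j.val + (m + 1)) (th m s) = pw s ((j.val : ZMod (2 * m + 1)) + 1) := by
      rw [th, frob_apply, ← pow_mul, ← pow_add, show m + 1 + (j.val + (m + 1)) = (2 * m + 1) + (j.val + 1) by omega,
        pow_add, pow_mul, ← hF, FiniteField.pow_card, pow_mod_pw hF, Nat.cast_add, Nat.cast_one]
    rw [this]
    abel
  · refine ⟨(LinearMap.proj (fun _ => (0 : Fin 4))).comp φ.symm.toLinearMap, ?_, ?_, ?_⟩ <;>
      simp [E, funext_iff]

section Exponents

include hF

theorem pow_inj {A B : ℕ} (hA : A < 2 ^ (2 * m + 1) - 1) (hB : B < 2 ^ (2 * m + 1) - 1)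
    (h : ∀ x : Fˣ, (x : F) ^ A = (x : F) ^ B) : A = B := by
  classical
  obtain ⟨c, hc⟩ := IsCyclic.exists_ofOrder_eq_natCard (α := Fˣ)
  rw [Nat.card_eq_fintype_card, Fintype.card_units, hF] at hc
  have h1 : c ^ A = c ^ B := Units.ext (by simpa using h c)
  rw [pow_inj_mod, hc, Nat.mod_eq_of_lt hA, Nat.mod_eq_of_lt hB] at h1
  exact h1

theorem expo_lt' (hm : 1 ≤ m) (u v : ZMod (2 * m + 1)) : expo u v < 2 ^ (2 * m + 1) - 1 := by
  have h8 : 2 ^ 3 ≤ 2 ^ (2 * m + 1) := Nat.pow_le_pow_right (by norm_num) (by omega)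
  have hb : ∀ a : ℕ, a < 2 * m + 1 → 2 * 2 ^ a ≤ 2 ^ (2 * m + 1) := fun a ha => by
    rw [← pow_succ']; exact Nat.pow_le_pow_right (by norm_num) ha
  unfold expo
  split_ifs with h
  · have := hb _ (ZMod.val_lt (u + 1))
    omega
  · have hne : u.val ≠ v.val := fun e => h (ZMod.val_injective _ e)
    have h1 := hb _ (ZMod.val_lt u)
    have h2 := hb _ (ZMod.val_lt v)
    rcases lt_or_gt_of_ne hne with h3 | h3
    · have h4 : 2 * 2 ^ u.val ≤ 2 ^ v.val := by rw [← pow_succ']; exact Nat.pow_le_pow_right (by norm_num) h3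
      omega
    · have h4 : 2 * 2 ^ v.val ≤ 2 ^ u.val := by rw [← pow_succ']; exact Nat.pow_le_pow_right (by norm_num) h3
      omega

theorem two_two (hm : 1 ≤ m) {a b c d : ZMod (2 * m + 1)}
    (h : ∀ x : Fˣ, pw (x : F) a * pw (x : F) b = pw (x : F) c * pw (x : F) d) :
    (a = c ∧ b = d) ∨ (a = d ∧ b = c) :=
  expo_inj (pow_inj hF (expo_lt' hF hm a b) (expo_lt' hF hm c d) fun x => by
    rw [← pow_expo hF, ← pow_expo hF]; exact h x)

theorem two_one (hm : 1 ≤ m) {a b c : ZMod (2 * m + 1)}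
    (h : ∀ x : Fˣ, pw (x : F) a * pw (x : F) b = pw (x : F) c) : a = b := by
  have h2 : ∀ x : F, pw x (c - 1) * pw x (c - 1) = pw x c := fun x => by
    rw [pw, pw, ← pow_add, ← two_mul, ← pow_succ', pow_pow_mod hF]
    congr 3
    push_cast
    rw [ZMod.natCast_zmod_val, sub_add_cancel]
  rcases two_two hF hm (fun x : Fˣ => (h x).trans (h2 x).symm) with ⟨h1, h3⟩ | ⟨h1, h3⟩ <;> exact h1.trans h3.symm

end Exponents

theorem pw_ne_zero (j : ZMod (2 * m + 1)) (b : Fˣ) : pw (b : F) j ≠ 0 := pow_ne_zero _ b.ne_zero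

theorem succ_ne (hm : 1 ≤ m) (l : ZMod (2 * m + 1)) : l + sh m ≠ l := by
  intro h
  have h' := add_eq_left.mp h
  rw [ZMod.natCast_eq_zero_iff] at h'
  have := Nat.le_of_dvd (by omega) h'
  omega

section Irreducible

variable {ρ : SZ F m →* Module.End F V} {ρ' : SZ F m →* Module.End F V'} {τ : SZ F m →* Module.End F W}
variable {i l k : ZMod (2 * m + 1)} {y : Fin 4 → V} {y' : Fin 4 → V'} {z : Fin 4 → W}

variable {hF}

theorem Nat4.top_zero (hy : Nat4 hF ρ i y) (f : V →ₗ[F] W) (hf : ∀ g x, f x = 0 → f (ρ g x) = 0) (h0 : f (y 0) = 0) :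
    f = 0 := by
  rw [← LinearMap.ker_eq_top, eq_top_iff, ← hy.gen, uSpan, Submodule.span_le]
  rintro _ ⟨a, b, rfl⟩
  rw [← hy.weyl, ← ρ_mul]
  exact hf _ _ h0

theorem half (hm : 1 ≤ m) (hy : Nat4 hF ρ i y) (hy' : Nat4 hF ρ' l y') (hz : Nat4 hF τ k z) (hτ : Fpf τ)
    (β : V →ₗ[F] V' →ₗ[F] W) (hβ : ∀ g x x', β (ρ g x) (ρ' g x') = τ g (β x x')) :
    (i = l → β = 0) ∧ (i ≠ l → β ≠ 0 → k = l) := by
  set f := β (y 0) with hf
  have hfU : ∀ a b x', f (ρ' (uS hF a b) x') = τ (uS hF a b) (f x') := fun a b x' => by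
    rw [hf, ← hβ, hy.fix0]
  have hfT : ∀ b c, τ (hB hF b) (f (y' c)) = (pw (b : F) i * wts l b c) • f (y' c) := fun b c => by
    rw [hf, ← hβ, hy.wt, hy'.wt, map_smul, map_smul, LinearMap.smul_apply, smul_smul, mul_comm]
    rfl
  have hzero : f = 0 → β = 0 := fun h => hy.top_zero β (fun g x hx => LinearMap.ext fun x' => by
    have hx' : ρ' g (ρ' g⁻¹ x') = x' := by rw [← ρ_mul, mul_inv_cancel, map_one]; rfl
    rw [← hx', hβ, hx]
    simp) h
  have hbot : f (y' 3) = 0 → f = 0 := fun h => by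
    rw [← LinearMap.ker_eq_top, eq_top_iff, ← hy'.gen, uSpan, Submodule.span_le]
    rintro _ ⟨a, b, rfl⟩
    rw [SetLike.mem_coe, LinearMap.mem_ker, hfU, h, map_zero]
  have key : ∀ c, f (y' c) ≠ 0 → (∀ a b, τ (uS hF a b) (f (y' c)) = f (y' c)) →
      ∀ b : Fˣ, pw (b : F) i * wts l b c = pw (b : F) k := by
    intro c hc hfix b
    obtain ⟨κ, hκ⟩ := hz.fixed _ hfix
    have h := hfT b c
    rw [hκ, map_smul, hz.wt, smul_smul, smul_smul] at h
    have hz0 : z 0 ≠ 0 := fun e => hc (by rw [hκ, e, smul_zero])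
    have hk : κ ≠ 0 := fun e => hc (by rw [hκ, e, zero_smul])
    have h' := smul_left_injective F hz0 h
    rw [mul_comm κ] at h'
    exact (mul_right_cancel₀ hk h').symm
  refine ⟨fun hil => hzero (hbot ?_), fun hil hne => ?_⟩
  · subst hil
    obtain ⟨b, hb⟩ : ∃ b : Fˣ, b ≠ 1 := by
      classical
      haveI : Nontrivial Fˣ := by
        rw [← Fintype.one_lt_card_iff_nontrivial, Fintype.card_units, hF]
        have : 2 ^ 3 ≤ 2 ^ (2 * m + 1) := Nat.pow_le_pow_right (by norm_num) (by omega)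
        omega
      exact exists_ne 1
    refine hτ (hB hF b) (fun h => hb (hB_injective hF (by rw [h, map_one]))) (hB_odd hF b) _ ?_
    rw [hfT]
    show (pw (b : F) i * (pw (b : F) i)⁻¹) • _ = _
    rw [mul_inv_cancel₀ (pw_ne_zero i b), one_smul]
  have hf0 : f ≠ 0 := fun h => hne (hzero h)
  have h0 : f (y' 0) = 0 := by
    by_contra hc
    exact hil (two_one hF hm (key 0 hc fun a b => by rw [← hfU, hy'.fix0]))
  have h1 : f (y' 1) = 0 := by
    by_contra hc
    have h := key 1 hc fun a b => by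
      obtain ⟨κ, hκ⟩ := hy'.fix1 a b
      rw [← hfU, hκ, map_add, map_smul, h0, smul_zero, add_zero]
    rcases two_two hF hm (a := i) (b := l + sh m) (c := k) (d := l) (fun x => by
      have := h x
      change pw (x : F) i * (pw (x : F) (l + sh m) / pw (x : F) l) = _ at this
      rw [← this, mul_assoc, div_mul_cancel₀ _ (pw_ne_zero l x)]) with ⟨-, h'⟩ | ⟨h', -⟩
    · exact succ_ne hm l h'
    · exact hil h'
  by_cases h2 : f (y' 2) = 0
  · have h3 : f (y' 3) ≠ 0 := fun h => hf0 (hbot h)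
    have h := key 3 h3 fun a b => by
      obtain ⟨κ, ν, o, hκ⟩ := hy'.fix3 a b
      rw [← hfU, hκ, map_add, map_add, map_add, map_smul, map_smul, map_smul, h0, h1, h2, smul_zero, smul_zero,
        smul_zero, add_zero, add_zero, add_zero]
    exact two_one hF hm (c := i) fun x => by
      have := h x
      change pw (x : F) i * (pw (x : F) l)⁻¹ = _ at this
      rw [← this, mul_assoc, inv_mul_cancel₀ (pw_ne_zero l x), mul_one]
  · have h := key 2 h2 fun a b => by
      obtain ⟨κ, ν, hκ⟩ := hy'.fix2 a b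
      rw [← hfU, hκ, map_add, map_add, map_smul, map_smul, h0, h1, smul_zero, smul_zero, add_zero, add_zero]
    rcases two_two hF hm (a := i) (b := l) (c := k) (d := l + sh m) (fun x => by
      have := h x
      change pw (x : F) i * (pw (x : F) l / pw (x : F) (l + sh m)) = _ at this
      rw [← this, mul_assoc, div_mul_cancel₀ _ (pw_ne_zero _ x)]) with ⟨-, h'⟩ | ⟨-, h'⟩
    · exact absurd h'.symm (succ_ne hm l)
    · exact h'.symm

end Irreducible

/-- The restriction to an invariant subspace. -/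
def subRep (ρ : SZ F m →* Module.End F V) (N : Submodule F V) (hN : ∀ g, ∀ x ∈ N, ρ g x ∈ N) :
    SZ F m →* Module.End F N where
  toFun g := (ρ g).restrict (hN g)
  map_one' := LinearMap.ext fun x => Subtype.ext (by simp)
  map_mul' g h := LinearMap.ext fun x => Subtype.ext (by simp)

/-- The action on the quotient by an invariant subspace. -/
def quotRep (ρ : SZ F m →* Module.End F V) (N : Submodule F V) (hN : ∀ g, ∀ x ∈ N, ρ g x ∈ N) :
    SZ F m →* Module.End F (V ⧸ N) where
  toFun g := N.mapQ N (ρ g) (fun x hx => hN g x hx)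
  map_one' := Submodule.linearMap_qext _ (LinearMap.ext fun x => by simp)
  map_mul' g h := Submodule.linearMap_qext _ (LinearMap.ext fun x => by simp)

theorem fpf_subRep {ρ : SZ F m →* Module.End F V} (hρ : Fpf ρ) (N : Submodule F V) (hN : ∀ g, ∀ x ∈ N, ρ g x ∈ N) :
    Fpf (subRep ρ N hN) := fun g hg ho x hx => Subtype.ext (hρ g hg ho _ (congrArg Subtype.val hx))

theorem fpf_quotRep [Finite V] {ρ : SZ F m →* Module.End F V} (hρ : Fpf ρ) (N : Submodule F V)
    (hN : ∀ g, ∀ x ∈ N, ρ g x ∈ N) : Fpf (quotRep ρ N hN) := by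
  intro g hg ho x hx
  induction x using Submodule.Quotient.induction_on with | _ x => ?_
  have h1 : ρ g x - x ∈ N := (Submodule.Quotient.eq N).mp hx
  let d : N →ₗ[F] N := (ρ g).restrict (hN g) - LinearMap.id
  have hd : Function.Injective d := by
    rw [← LinearMap.ker_eq_bot, Submodule.eq_bot_iff]
    intro a ha
    exact Subtype.ext (hρ g hg ho _ (sub_eq_zero.mp (congrArg Subtype.val (LinearMap.mem_ker.mp ha))))
  obtain ⟨n, hn⟩ := Finite.injective_iff_surjective.mp hd ⟨_, h1⟩
  have hn' : ρ g (n : V) - n = ρ g x - x := congrArg Subtype.val hn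
  have h2 := hρ g hg ho (x - n) (by rw [map_sub, sub_eq_sub_iff_sub_eq_sub]; exact hn'.symm)
  rw [sub_eq_zero] at h2
  exact (Submodule.Quotient.mk_eq_zero N).mpr (h2 ▸ n.2)

theorem exists_irr [Finite V] [Nontrivial V] (ρ : SZ F m →* Module.End F V) :
    ∃ (N : Submodule F V) (hN : ∀ g, ∀ x ∈ N, ρ g x ∈ N), Irr (subRep ρ N hN) := by
  haveI : FiniteDimensional F V := Module.Finite.of_finite
  obtain ⟨N, ⟨hN, hN0⟩, hmin⟩ := (wellFounded_lt (α := Submodule F V)).has_min
    {N | (∀ g, ∀ x ∈ N, ρ g x ∈ N) ∧ N ≠ ⊥} ⟨⊤, fun _ _ _ => Submodule.mem_top, top_ne_bot⟩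
  refine ⟨N, hN, Submodule.nontrivial_iff_ne_bot.mpr hN0, fun M hM => or_iff_not_imp_left.mpr fun hM0 => ?_⟩
  have hle : M.map N.subtype ≤ N := Submodule.map_subtype_le N M
  have heq : M.map N.subtype = N := by
    refine eq_of_le_of_not_lt hle fun hlt => hmin _ ⟨?_, ?_⟩ hlt
    · rintro g _ ⟨x, hx, rfl⟩
      exact ⟨_, hM g x hx, rfl⟩
    · exact fun h => hM0 (Submodule.map_injective_of_injective N.injective_subtype (by rw [h, Submodule.map_bot]))
  refine Submodule.map_injective_of_injective N.injective_subtype ?_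
  rw [heq, Submodule.map_subtype_top]

/-- Equivariance of a bilinear map. -/
def Equivariant (ρ : SZ F m →* Module.End F V) (ρ' : SZ F m →* Module.End F V') (τ : SZ F m →* Module.End F W)
    (β : V →ₗ[F] V' →ₗ[F] W) : Prop := ∀ g x x', β (ρ g x) (ρ' g x') = τ g (β x x')

include hF in
theorem pair_irr [Finite V] [Finite V'] (hm : 1 ≤ m) {ρ : SZ F m →* Module.End F V}
    {ρ' : SZ F m →* Module.End F V'} (hρ : Fpf ρ) (hρ' : Fpf ρ') (hi : Irr ρ) (hi' : Irr ρ') :
    ∀ (n : ℕ) {W : Type w} [AddCommGroup W] [Module F W] [Finite W] (τ : SZ F m →* Module.End F W), Nat.card W ≤ n →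
      Fpf τ → ∀ β : V →ₗ[F] V' →ₗ[F] W, Equivariant ρ ρ' τ β → β = 0 := by
  intro n
  induction n with
  | zero => intro W _ _ _ τ hn; exact absurd hn (by have := Nat.card_pos (α := W); omega)
  | succ n ih =>
    intro W _ _ _ τ hn hτ β hβ
    rcases subsingleton_or_nontrivial W with hW | hW
    · exact LinearMap.ext fun x => LinearMap.ext fun x' => Subsingleton.elim _ _
    obtain ⟨N, hN, hNirr⟩ := exists_irr τ
    haveI : Finite (W ⧸ N) := Finite.of_surjective _ N.mkQ_surjective
    have hlt : Nat.card (W ⧸ N) ≤ n := by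
      haveI := hNirr.1
      have h1 := Submodule.card_eq_card_quotient_mul_card N
      have h2 : 1 < Nat.card N := Finite.one_lt_card
      have h3 := Nat.card_pos (α := W ⧸ N)
      nlinarith
    have h0 := ih (quotRep τ N hN) hlt (fpf_quotRep hτ N hN) (β.compr₂ N.mkQ) fun g x x' => by
      show N.mkQ (β (ρ g x) (ρ' g x')) = _
      rw [hβ]
      rfl
    have hmem : ∀ x x', β x x' ∈ N := fun x x' =>
      (Submodule.Quotient.mk_eq_zero N).mp (LinearMap.congr_fun (LinearMap.congr_fun h0 x) x')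
    let β₀ : V →ₗ[F] V' →ₗ[F] N := LinearMap.mk₂ F (fun x x' => ⟨β x x', hmem x x'⟩)
      (fun _ _ _ => Subtype.ext (by simp)) (fun _ _ _ => Subtype.ext (by simp)) (fun _ _ _ => Subtype.ext (by simp))
      (fun _ _ _ => Subtype.ext (by simp))
    have hβ₀ : Equivariant ρ ρ' (subRep τ N hN) β₀ := fun g x x' => Subtype.ext (hβ g x x')
    suffices h : β₀ = 0 from LinearMap.ext fun x => LinearMap.ext fun x' =>
      congrArg Subtype.val (LinearMap.congr_fun (LinearMap.congr_fun h x) x')
    by_contra hne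
    obtain ⟨i, y, hy⟩ := exists_nat4 hF hm ρ hρ hi
    obtain ⟨l, y', hy'⟩ := exists_nat4 hF hm ρ' hρ' hi'
    obtain ⟨k, z, hz⟩ := exists_nat4 hF hm _ (fpf_subRep hτ N hN) hNirr
    obtain ⟨ha, hb⟩ := half hm hy hy' hz (fpf_subRep hτ N hN) β₀ hβ₀
    have hil : i ≠ l := fun e => hne (ha e)
    obtain ⟨-, hb'⟩ := half hm hy' hy hz (fpf_subRep hτ N hN) β₀.flip fun g x x' => hβ₀ g x' x
    have hflip : β₀.flip ≠ 0 := fun e => hne (LinearMap.ext fun x => LinearMap.ext fun x' =>
      LinearMap.congr_fun (LinearMap.congr_fun e x') x)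
    exact hil ((hb' (Ne.symm hil) hflip).symm.trans (hb hil hne))

include hF in
theorem pair_right [Finite V] [Finite W] (hm : 1 ≤ m) {ρ : SZ F m →* Module.End F V} {τ : SZ F m →* Module.End F W}
    (hρ : Fpf ρ) (hi : Irr ρ) (hτ : Fpf τ) :
    ∀ (n : ℕ) {V' : Type v'} [AddCommGroup V'] [Module F V'] [Finite V'] (ρ' : SZ F m →* Module.End F V'),
      Nat.card V' ≤ n → Fpf ρ' → ∀ β : V →ₗ[F] V' →ₗ[F] W, Equivariant ρ ρ' τ β → β = 0 := by
  intro n
  induction n with
  | zero => intro V' _ _ _ ρ' hn; exact absurd hn (by have := Nat.card_pos (α := V'); omega)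
  | succ n ih =>
    intro V' _ _ _ ρ' hn hρ' β hβ
    rcases subsingleton_or_nontrivial V' with hW | hW
    · exact LinearMap.ext fun x => LinearMap.ext fun x' => by rw [Subsingleton.elim x' 0, map_zero, map_zero]
    obtain ⟨N, hN, hNirr⟩ := exists_irr ρ'
    haveI : Finite (V' ⧸ N) := Finite.of_surjective _ N.mkQ_surjective
    have hlt : Nat.card (V' ⧸ N) ≤ n := by
      haveI := hNirr.1
      have h1 := Submodule.card_eq_card_quotient_mul_card N
      have h2 : 1 < Nat.card N := Finite.one_lt_card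
      have h3 := Nat.card_pos (α := V' ⧸ N)
      nlinarith
    have h0 := pair_irr hF hm hρ (fpf_subRep hρ' N hN) hi hNirr (Nat.card W) τ le_rfl hτ (β.compl₂ N.subtype)
      fun g x x' => hβ g x x'
    have hker : ∀ x, N ≤ LinearMap.ker (β x) := fun x y hy =>
      LinearMap.mem_ker.mpr (LinearMap.congr_fun (LinearMap.congr_fun h0 x) ⟨y, hy⟩)
    let β₁ : V →ₗ[F] (V' ⧸ N) →ₗ[F] W :=
      { toFun := fun x => N.liftQ (β x) (hker x)
        map_add' := fun a b => Submodule.linearMap_qext _ (LinearMap.ext fun y => by simp)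
        map_smul' := fun c a => Submodule.linearMap_qext _ (LinearMap.ext fun y => by simp) }
    have h1 := ih (quotRep ρ' N hN) hlt (fpf_quotRep hρ' N hN) β₁ fun g x x' => by
      induction x' using Submodule.Quotient.induction_on with | _ y => exact hβ g x y
    exact LinearMap.ext fun x => LinearMap.ext fun y => LinearMap.congr_fun (LinearMap.congr_fun h1 x) (N.mkQ y)

include hF in
/-- Equivariant bilinear maps of fixed-point-free modules vanish. -/
theorem pair_zero [Finite V'] [Finite W] (hm : 1 ≤ m) {ρ' : SZ F m →* Module.End F V'}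
    {τ : SZ F m →* Module.End F W} (hρ' : Fpf ρ') (hτ : Fpf τ) :
    ∀ (n : ℕ) {V : Type v} [AddCommGroup V] [Module F V] [Finite V] (ρ : SZ F m →* Module.End F V),
      Nat.card V ≤ n → Fpf ρ → ∀ β : V →ₗ[F] V' →ₗ[F] W, Equivariant ρ ρ' τ β → β = 0 := by
  intro n
  induction n with
  | zero => intro V _ _ _ ρ hn; exact absurd hn (by have := Nat.card_pos (α := V); omega)
  | succ n ih =>
    intro V _ _ _ ρ hn hρ β hβ
    rcases subsingleton_or_nontrivial V with hW | hW
    · exact LinearMap.ext fun x => by rw [Subsingleton.elim x 0, map_zero, map_zero]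
    obtain ⟨N, hN, hNirr⟩ := exists_irr ρ
    haveI : Finite (V ⧸ N) := Finite.of_surjective _ N.mkQ_surjective
    have hlt : Nat.card (V ⧸ N) ≤ n := by
      haveI := hNirr.1
      have h1 := Submodule.card_eq_card_quotient_mul_card N
      have h2 : 1 < Nat.card N := Finite.one_lt_card
      have h3 := Nat.card_pos (α := V ⧸ N)
      nlinarith
    have h0 := pair_right hF hm (fpf_subRep hρ N hN) hNirr hτ (Nat.card V') ρ' le_rfl hρ' (β.comp N.subtype)
      fun g x x' => hβ g x x'
    let β₁ : (V ⧸ N) →ₗ[F] V' →ₗ[F] W := N.liftQ β fun y hy =>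
      LinearMap.mem_ker.mpr (LinearMap.congr_fun h0 ⟨y, hy⟩)
    have h1 := ih (quotRep ρ N hN) hlt (fpf_quotRep hρ N hN) β₁ fun g x x' => by
      induction x using Submodule.Quotient.induction_on with | _ y => exact hβ g y x'
    exact LinearMap.ext fun y => LinearMap.congr_fun h1 (N.mkQ y)

open scoped Classical in
/-- The element of the group ring. -/
noncomputable def tSum (idx : Fˣ → ℕ) (ρ : SZ F m →* Module.End F V) : Module.End F V :=
  ∑ b : Fˣ, ∑ c : Fˣ, if idx b < idx c then ρ (zB hF ((b : F) + (c : F)) * hB hF (b * c)) else 0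

/-- The element is not zero on a fixed-point-free module. -/
theorem tSum_ne_zero [Finite V] [Nontrivial V] (hm : 1 ≤ m) (idx : Fˣ → ℕ) (hidx : Function.Injective idx)
    (ρ : SZ F m →* Module.End F V) (hρ : Fpf ρ) : tSum hF idx ρ ≠ 0 := by
  classical
  haveI := charTwo hF
  obtain ⟨N, hN, hNirr⟩ := exists_irr ρ
  obtain ⟨j, y, hy⟩ := exists_nat4 hF hm _ (fpf_subRep hρ N hN) hNirr
  intro h0
  obtain ⟨π, hπ0, hπ1, hπ3⟩ := hy.coord
  set ρN := subRep ρ N hN with hρN
  have hNsum : tSum hF idx ρN (y 3) = 0 := by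
    refine Subtype.ext ?_
    have h := LinearMap.congr_fun h0 (y 3 : V)
    simp only [tSum, LinearMap.sum_apply, LinearMap.zero_apply] at h
    simp only [tSum, LinearMap.sum_apply, AddSubmonoidClass.coe_finsetSum, ZeroMemClass.coe_zero]
    refine Eq.trans ?_ h
    refine Finset.sum_congr rfl fun b _ => Finset.sum_congr rfl fun c _ => ?_
    split_ifs
    · rfl
    · rfl
  have hterm : ∀ b c : Fˣ, π (ρN (zB hF ((b : F) + (c : F)) * hB hF (b * c)) (y 3)) =
      pw ((b : F) / c + (c : F) / b) j := by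
    intro b c
    rw [ρ_mul, hy.wt, map_smul]
    obtain ⟨κ, hκ⟩ := hy.z3 ((b : F) + c)
    rw [hκ, map_smul, map_add, map_add, map_smul, map_smul, hπ0, hπ1, hπ3, smul_zero, add_zero, zero_add,
      smul_eq_mul, smul_eq_mul, mul_one]
    show (pw ((b * c : Fˣ) : F) j)⁻¹ * _ = _
    have hsq : pw ((b : F) + c) (j + 1) = (pw ((b : F) + c) j) ^ 2 := by
      rw [pw, pw, ← pow_mul, ← pow_succ, pow_pow_mod hF _ (j.val + 1)]
      congr 3
      push_cast
      rw [ZMod.natCast_zmod_val]
    rw [hsq, pw, pw, pw, ← pow_mul, mul_comm (2 ^ j.val) 2, pow_mul, inv_mul_eq_div, ← div_pow]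
    congr 1
    rw [div_add_div _ _ c.ne_zero b.ne_zero, Units.val_mul, CharTwo.add_sq, mul_comm (c : F) (b : F), sq, sq]
  have h := congrArg π hNsum
  simp only [tSum, LinearMap.sum_apply, map_sum, map_zero] at h
  have hpw : ∀ x y : F, pw (x + y) j = pw x j + pw y j := fun x y => by
    haveI : ExpChar F 2 := ExpChar.prime Nat.prime_two
    exact add_pow_expChar_pow x y 2 j.val
  set φ : Fˣ → Fˣ → F := fun b c => pw ((b : F) / c) j
  have h' : ∑ b : Fˣ, ∑ c : Fˣ, (if idx b < idx c then φ b c + φ c b else 0) = 0 := by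
    refine Eq.trans ?_ h
    refine Finset.sum_congr rfl fun b _ => Finset.sum_congr rfl fun c _ => ?_
    split_ifs
    · rw [hterm, hpw]
    · simp
  have hsym : ∑ b : Fˣ, ∑ c : Fˣ, (if idx b < idx c then φ b c + φ c b else 0) =
      ∑ b : Fˣ, ∑ c : Fˣ, (if b = c then 0 else φ b c) := by
    calc _ = (∑ b : Fˣ, ∑ c : Fˣ, if idx b < idx c then φ b c else 0) +
          ∑ b : Fˣ, ∑ c : Fˣ, if idx b < idx c then φ c b else 0 := by
          simp only [← Finset.sum_add_distrib]
          exact Finset.sum_congr rfl fun b _ => Finset.sum_congr rfl fun c _ => by split_ifs <;> simp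
      _ = (∑ b : Fˣ, ∑ c : Fˣ, if idx b < idx c then φ b c else 0) +
          ∑ b : Fˣ, ∑ c : Fˣ, if idx c < idx b then φ b c else 0 := by
          congr 1
          exact Finset.sum_comm
      _ = _ := by
          simp only [← Finset.sum_add_distrib]
          refine Finset.sum_congr rfl fun b _ => Finset.sum_congr rfl fun c _ => ?_
          rcases lt_trichotomy (idx b) (idx c) with h | h | h
          · rw [if_pos h, if_neg h.asymm, add_zero, if_neg fun e => h.ne (by rw [e])]
          · rw [hidx h, if_neg (lt_irrefl _), if_pos rfl, add_zero]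
          · rw [if_pos h, if_neg h.asymm, zero_add, if_neg fun e => h.ne (by rw [e])]
  rw [hsym] at h'
  have hrow : ∀ b : Fˣ, ∑ c : Fˣ, (if b = c then 0 else φ b c) = 1 := by
    intro b
    have hall : ∑ c : Fˣ, φ b c = 0 := by
      have hc2 : 2 < Fintype.card F := by
        have : 2 ^ 3 ≤ 2 ^ (2 * m + 1) := Nat.pow_le_pow_right (by norm_num) (by omega)
        omega
      have hs : ∑ c : Fˣ, (c : F) = 0 := by
        have hu := FiniteField.sum_subgroup_units (K := F) (G := (⊤ : Subgroup Fˣ))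
        rw [if_neg] at hu
        · rw [← hu]
          exact (Equiv.sum_comp Subgroup.topEquiv.toEquiv (fun c : Fˣ => (c : F))).symm
        · intro e
          have h := congrArg (fun H : Subgroup Fˣ => Nat.card H) e
          simp [Nat.card_eq_fintype_card, Fintype.card_units] at h
          omega
      calc ∑ c : Fˣ, φ b c = ∑ c : Fˣ, pw ((b : F) * c) j :=
            Fintype.sum_equiv (Equiv.inv Fˣ) _ _ fun c => by
              simp [φ, div_eq_mul_inv]
        _ = pw ((b : F) * ∑ c : Fˣ, (c : F)) j := by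
            haveI : ExpChar F 2 := ExpChar.prime Nat.prime_two
            rw [Finset.mul_sum]
            exact (map_sum (iterateFrobenius F 2 j.val) _ _).symm
        _ = 0 := by rw [hs, mul_zero, pw, zero_pow (by positivity)]
    have : ∑ c : Fˣ, (if b = c then 0 else φ b c) = ∑ c : Fˣ, φ b c - φ b b := by
      have e1 : φ b b = ∑ c : Fˣ, (if b = c then φ b c else 0) := by
        rw [Finset.sum_ite_eq]; simp
      rw [eq_sub_iff_add_eq, e1, ← Finset.sum_add_distrib]
      exact Finset.sum_congr rfl fun c _ => by split_ifs <;> simp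
    rw [this, hall, zero_sub, CharTwo.neg_eq]
    simp [φ, pw]
  simp only [hrow, Finset.sum_const, Finset.card_univ, nsmul_one, Fintype.card_units, hF] at h'
  obtain ⟨k, hk⟩ := odd_card_units (m := m)
  rw [hk] at h'
  push_cast at h'
  rw [CharTwo.two_eq_zero, zero_mul, zero_add] at h'
  exact one_ne_zero h'

end CfsgLib.CITExt.Sz
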