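import Cfsg.Agent.Lib.CITExt.Sz.Entries
import Cfsg.Agent.Lib.Suzuki.Sylow

/-!
# Fixed point free modules for the Suzuki groups in characteristic 2

If the torus and the elements of order 5 act fixed point freely on a module over `F = GF(q)`, the
weight of a vector fixed by the root group is a power of two and its orbit behaves like the orbit of
the first basis vector in a Galois twist of the natural module.
-/

set_option autoImplicit false
set_option linter.unusedSectionVars false

namespace CfsgLib.CITExtSz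

open CfsgLib.Suzuki Matrix
open scoped Classical

variable {F : Type*} [Field F] [Fintype F] {m : ℕ}
variable {V W Y : Type*} [AddCommGroup V] [Module F V] [AddCommGroup W] [Module F W]
  [AddCommGroup Y] [Module F Y]

/-- The representations considered. -/
abbrev Rep (F : Type*) [Field F] [Fintype F] (m : ℕ) (V : Type*) [AddCommGroup V] [Module F V] :=
  ↥(Cfsg.Sz F m) →* Module.End F V

/-- An invariant submodule. -/
def Inv (ρ : Rep F m V) (S : Submodule F V) : Prop := ∀ g, ∀ v ∈ S, ρ g v ∈ S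

/-- The representation on an invariant submodule. -/
noncomputable def subRep (ρ : Rep F m V) (S : Submodule F V) (hS : Inv ρ S) : Rep F m S where
  toFun g := (ρ g).restrict (hS g)
  map_one' := by ext v; simp
  map_mul' g h := by ext v; simp

@[simp] theorem subRep_apply (ρ : Rep F m V) (S : Submodule F V) (hS : Inv ρ S)
    (g : ↥(Cfsg.Sz F m)) (v : S) : (subRep ρ S hS g v : V) = ρ g (v : V) := rfl

/-- The dual representation. -/
noncomputable def dualRep (ρ : Rep F m V) : Rep F m (Module.Dual F V) where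
  toFun g := (ρ g⁻¹).dualMap
  map_one' := by ext φ v; simp
  map_mul' g h := by ext φ v; simp [LinearMap.dualMap_apply]

@[simp] theorem dualRep_apply (ρ : Rep F m V) (g : ↥(Cfsg.Sz F m)) (φ : Module.Dual F V) (v : V) :
    dualRep ρ g φ v = φ (ρ g⁻¹ v) := rfl

theorem rep_mul (ρ : Rep F m V) (g h : ↥(Cfsg.Sz F m)) (v : V) : ρ (g * h) v = ρ g (ρ h v) := by
  rw [map_mul]; rfl

theorem rep_inv_cancel (ρ : Rep F m V) (g : ↥(Cfsg.Sz F m)) (v : V) : ρ g⁻¹ (ρ g v) = v := by
  rw [← rep_mul, inv_mul_cancel, map_one]; rfl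

theorem rep_cancel_inv (ρ : Rep F m V) (g : ↥(Cfsg.Sz F m)) (v : V) : ρ g (ρ g⁻¹ v) = v := by
  rw [← rep_mul, mul_inv_cancel, map_one]; rfl

/-- The span of an orbit. -/
noncomputable def orbSpan (ρ : Rep F m V) (v : V) : Submodule F V :=
  Submodule.span F (Set.range fun g => ρ g v)

theorem orbSpan_inv (ρ : Rep F m V) (v : V) : Inv ρ (orbSpan ρ v) := by
  intro g x hx
  induction hx using Submodule.span_induction with
  | mem x h =>
    obtain ⟨h, rfl⟩ := h
    rw [← rep_mul]
    exact Submodule.subset_span ⟨g * h, rfl⟩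
  | zero => simp
  | add x y _ _ hx hy => rw [map_add]; exact add_mem hx hy
  | smul a x _ hx => rw [map_smul]; exact Submodule.smul_mem _ _ hx

theorem self_mem_orbSpan (ρ : Rep F m V) (v : V) : v ∈ orbSpan ρ v :=
  Submodule.subset_span ⟨1, by simp⟩

theorem five_inv {M : Type*} [AddCommMonoid M] (x : ↥(Cfsg.Sz F m)) (hx : x ^ 5 = 1)
    (f : ↥(Cfsg.Sz F m) → M) :
    ∑ k ∈ Finset.range 5, f (x ^ k)⁻¹ = ∑ k ∈ Finset.range 5, f (x ^ k) := by
  have e : ∀ a b : ℕ, a + b = 5 → (x ^ a)⁻¹ = x ^ b := fun a b h =>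
    inv_eq_of_mul_eq_one_right (by rw [← pow_add, h, hx])
  simp only [Finset.sum_range_succ, Finset.sum_range_zero, zero_add, e 1 4 rfl, e 2 3 rfl,
    e 3 2 rfl, e 4 1 rfl, pow_zero, inv_one]
  abel

variable (hF : Fintype.card F = 2 ^ (2 * m + 1))
include hF

/-- The torus and `x5` act without fixed points. -/
structure Fpf (ρ : Rep F m V) : Prop where
  tor : ∑ t : Fˣ, ρ (dS hF t) = 0
  five : ∑ k ∈ Finset.range 5, ρ (x5 hF ^ k) = 0

variable {hF}

theorem Fpf.sub {ρ : Rep F m V} (h : Fpf hF ρ) (S : Submodule F V) (hS : Inv ρ S) :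
    Fpf hF (subRep ρ S hS) := by
  constructor
  · ext v; simpa [-map_pow] using LinearMap.congr_fun h.tor (v : V)
  · ext v; simpa [-map_pow] using LinearMap.congr_fun h.five (v : V)

theorem Fpf.dual {ρ : Rep F m V} (h : Fpf hF ρ) : Fpf hF (dualRep ρ) := by
  constructor
  · ext φ v
    have := congr_arg φ (LinearMap.congr_fun h.tor v)
    rw [LinearMap.sum_apply, map_sum, LinearMap.zero_apply, map_zero] at this
    rw [LinearMap.sum_apply, LinearMap.sum_apply, LinearMap.zero_apply, LinearMap.zero_apply,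
      ← this, ← Equiv.sum_comp (Equiv.inv Fˣ)]
    exact Finset.sum_congr rfl fun t _ => by simp [← dS_inv]
  · ext φ v
    have := congr_arg φ (LinearMap.congr_fun h.five v)
    rw [LinearMap.sum_apply, map_sum, LinearMap.zero_apply, map_zero] at this
    rw [LinearMap.sum_apply, LinearMap.sum_apply, LinearMap.zero_apply, LinearMap.zero_apply,
      ← this]
    exact five_inv (x5 hF) (x5_pow_five hF) fun g => φ (ρ g v)

theorem Fpf.eq_zero_of_fixed {ρ : Rep F m V} (h : Fpf hF ρ) {v : V}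
    (hv : ∀ t, ρ (dS hF t) v = v) : v = 0 := by
  have := LinearMap.congr_fun h.tor v
  rw [LinearMap.sum_apply, Finset.sum_congr rfl fun t _ => hv t, Finset.sum_const,
    LinearMap.zero_apply, ← Nat.cast_smul_eq_nsmul F, Finset.card_univ, Fintype.card_units,
    Nat.cast_sub Fintype.card_pos, Nat.cast_card_eq_zero, zero_sub, Nat.cast_one, neg_smul,
    one_smul, neg_eq_zero] at this
  exact this

/-- Fixed by the root group and an eigenvector of the torus of exponent `e`. -/
structure IsHigh (hF : Fintype.card F = 2 ^ (2 * m + 1)) (ρ : Rep F m V) (e : ℕ) (v : V) : Prop where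
  fix : ∀ a b, ρ (uS hF a b) v = v
  tor : ∀ t, ρ (dS hF t) v = ((dl m t : F) ^ e) • v

variable (hF)
include hF

theorem exists_high [FiniteDimensional F V] (ρ : Rep F m V) (S : Submodule F V) (hS : Inv ρ S)
    (hne : S ≠ ⊥) : ∃ v ∈ S, v ≠ 0 ∧ ∃ e < Fintype.card F - 1, IsHigh hF ρ e v := by
  haveI := charTwo hF
  haveI : Finite V := Module.finite_of_finite F
  letI : MulAction (U hF) S :=
    { smul := fun u x => ⟨ρ (u : ↥(Cfsg.Sz F m)) (x : V), hS _ _ x.2⟩
      one_smul := fun x => Subtype.ext (show ρ 1 (x : V) = x by simp)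
      mul_smul := fun u u' x => Subtype.ext (rep_mul ρ u u' x) }
  obtain ⟨x, hx, hx0⟩ : ∃ x : V, x ∈ S ∧ x ≠ 0 := S.exists_mem_ne_zero_of_ne_bot hne
  have h2 : 2 ∣ Nat.card S := by
    have ho : addOrderOf (⟨x, hx⟩ : S) = 2 := by
      haveI : Fact (Nat.Prime 2) := ⟨Nat.prime_two⟩
      refine addOrderOf_eq_prime ?_ (fun h => hx0 (congr_arg Subtype.val h))
      rw [← Nat.cast_smul_eq_nsmul F, Nat.cast_ofNat, two_eq_zero hF, zero_smul]
    exact ho ▸ addOrderOf_dvd_natCard _
  haveI : Fact (Nat.Prime 2) := ⟨Nat.prime_two⟩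
  obtain ⟨y, hy, hy0⟩ := (U_isPGroup hF).exists_fixed_point_of_prime_dvd_card_of_fixed_point
    S h2 (a := 0) (fun u => Subtype.ext (show ρ (u : ↥(Cfsg.Sz F m)) (0 : V) = 0 from map_zero _))
  have hfix : ∀ a b, ρ (uS hF a b) (y : V) = y := fun a b =>
    congr_arg Subtype.val (hy ⟨uS hF a b, a, b, rfl⟩)
  let P : ℕ → V := fun e => ∑ t : Fˣ, (((dl m t⁻¹ : Fˣ) : F) ^ e) • ρ (dS hF t) (y : V)
  have hP : ∀ e, IsHigh hF ρ e (P e) := by
    intro e
    constructor
    · intro a b
      simp only [P, map_sum, map_smul]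
      refine Finset.sum_congr rfl fun t _ => ?_
      rw [← rep_mul]
      have hc : uS hF a b * dS hF t = dS hF t *
          uS hF (th m ((t⁻¹ : Fˣ) : F) * a) (th m ((t⁻¹ : Fˣ) : F) * ((t⁻¹ : Fˣ) : F) ^ 2 * b) := by
        rw [← dS_uS, dS_inv, inv_inv, ← mul_assoc, ← mul_assoc, dS_mul, mul_inv_cancel, dS_one,
          one_mul]
      rw [hc, rep_mul, hfix]
    · intro s
      simp only [P, map_sum, map_smul, Finset.smul_sum]
      rw [← Equiv.sum_comp (Equiv.mulLeft s) (fun t => (dl m s : F) ^ e •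
        (((dl m t⁻¹ : Fˣ) : F) ^ e) • ρ (dS hF t) (y : V))]
      refine Finset.sum_congr rfl fun t _ => ?_
      rw [Equiv.coe_mulLeft, ← dS_mul, rep_mul, smul_smul, ← mul_pow]
      congr 2
      rw [← Units.val_mul, _root_.mul_inv_rev, dl_mul, dl_inv s, mul_left_comm,
        mul_inv_cancel, mul_one]
  have hsum : ∑ e ∈ Finset.range (Fintype.card F - 1), P e = -(y : V) := by
    simp only [P]
    rw [Finset.sum_comm, Finset.sum_eq_single 1]
    · rw [← Finset.sum_smul, inv_one, dl_one, dS_one, map_one]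
      simp [Finset.sum_const, Finset.card_range, Nat.cast_sub Fintype.card_pos]
    · intro t _ ht
      rw [← Finset.sum_smul, geom_sum_eq, FiniteField.pow_card_sub_one_eq_one _ (Units.ne_zero _),
        sub_self, zero_div, zero_smul]
      intro h
      refine ht (inv_eq_one.1 ((dl_bijective hF).1 (Units.ext ?_)))
      rw [h, dl_one, Units.val_one]
    · simp
  obtain ⟨e, he, hne⟩ : ∃ e ∈ Finset.range (Fintype.card F - 1), P e ≠ 0 := by
    refine Finset.exists_ne_zero_of_sum_ne_zero ?_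
    rw [hsum, neg_ne_zero]
    exact fun h => hy0 (Subtype.ext h.symm)
  exact ⟨P e, Submodule.sum_mem _ fun t _ => Submodule.smul_mem _ _ (hS _ _ y.2), hne, e,
    Finset.mem_range.1 he, hP e⟩

omit hF in
theorem exists_bits : ∀ (n e : ℕ), e < 2 ^ n → ∃ I : Finset (Fin n), ∑ i ∈ I, 2 ^ (i : ℕ) = e := by
  intro n
  induction n with
  | zero => intro e he; exact ⟨∅, by simp at he; simp [he]⟩
  | succ n ih =>
    intro e he
    by_cases h : e < 2 ^ n
    · obtain ⟨I, hI⟩ := ih e h
      exact ⟨I.map Fin.castSuccEmb, by simpa [Finset.sum_map] using hI⟩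
    · obtain ⟨I, hI⟩ := ih (e - 2 ^ n) (by rw [pow_succ] at he; omega)
      refine ⟨insert (Fin.last n) (I.map Fin.castSuccEmb), ?_⟩
      rw [Finset.sum_insert (by simp [Fin.castSucc_ne_last])]
      simp [Finset.sum_map, hI]
      omega

/-- A functional invariant under the root group that does not kill the orbit. -/
structure IsTop (hF : Fintype.card F = 2 ^ (2 * m + 1)) (ρ : Rep F m V) (v : V) (η : Module.Dual F V) : Prop where
  fix : ∀ a b, ∀ x ∈ orbSpan ρ v, η (ρ (uS hF a b) x) = η x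
  ne : ∃ g, η (ρ g v) ≠ 0

/-- **The weight of a high vector is a power of two, with natural matrix coefficients.** -/
theorem coeff_formula (hm : 1 ≤ m) {ρ : Rep F m V} (hρ : Fpf hF ρ) {e : ℕ}
    (he : e < Fintype.card F - 1) {v : V} (hv : IsHigh hF ρ e v) {η : Module.Dual F V}
    (hη : IsTop hF ρ v η) :
    ∃ i : Fin (2 * m + 1), e = 2 ^ (i : ℕ) ∧ η (ρ (wS hF) v) ≠ 0 ∧
      ∀ g, η (ρ g v) = η (ρ (wS hF) v) * mat g 3 0 ^ 2 ^ (i : ℕ) := by
  haveI := charTwo hF
  obtain ⟨g₀, hg₀⟩ := hη.ne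
  have he0 : e ≠ 0 := by
    rintro rfl
    refine hg₀ ?_
    rw [hρ.eq_zero_of_fixed (v := v) fun t => by rw [hv.tor, pow_zero, one_smul]]
    simp
  set α := η v with hα
  set β := η (ρ (wS hF) v) with hβ
  have hform : ∀ g, η (ρ g v) = β * mat g 3 0 ^ e ∨
      (mat g 3 0 = 0 ∧ ∃ t : Fˣ, η (ρ g v) = (dl m t : F) ^ e * α) := by
    intro g
    rcases exists_closure_form hF hm g with ⟨a, b, t, rfl⟩ | ⟨a, b, c, d, t, rfl⟩
    · exact Or.inr ⟨entry_small hF a b t, t,
        by rw [rep_mul, hη.fix a b (ρ (dS hF t) v) (Submodule.subset_span ⟨_, rfl⟩), hv.tor, map_smul, smul_eq_mul]⟩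
    · refine Or.inl ?_
      rw [entry_big hF, rep_mul, rep_mul, rep_mul, hv.tor, map_smul, hv.fix, map_smul, map_smul,
        map_smul, hη.fix a b (ρ (wS hF) v) (Submodule.subset_span ⟨_, rfl⟩), smul_eq_mul, mul_comm]
  have hα0 : α = 0 := by
    have h5 := congr_arg η (LinearMap.congr_fun hρ.five v)
    rw [LinearMap.sum_apply, map_sum, LinearMap.zero_apply, map_zero] at h5
    have hk : ∀ k, 1 ≤ k → k ≤ 4 → η (ρ (x5 hF ^ k) v) = β := by
      intro k h1 h4
      rcases hform (x5 hF ^ k) with h | ⟨h, -⟩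
      · rw [h, x5_entry hF h1 h4, one_pow, mul_one]
      · rw [x5_entry hF h1 h4] at h; exact absurd h one_ne_zero
    simp only [Finset.sum_range_succ, Finset.sum_range_zero, zero_add, hk 1 le_rfl (by norm_num),
      hk 2 (by norm_num) (by norm_num), hk 3 (by norm_num) (by norm_num),
      hk 4 (by norm_num) le_rfl, pow_zero, map_one, Module.End.one_apply] at h5
    linear_combination h5 - 2 * β * two_eq_zero hF
  have hc : ∀ g, η (ρ g v) = β * mat g 3 0 ^ e := by
    intro g
    rcases hform g with h | ⟨h, t, h'⟩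
    · exact h
    · rw [h', h, hα0, zero_pow he0, mul_zero, mul_zero]
  have hβ0 : β ≠ 0 := fun h => hg₀ (by rw [hc, h, zero_mul])
  obtain ⟨I, hI⟩ := exists_bits (2 * m + 1) e (by rw [← hF]; omega)
  have hcard : I.card ≤ 1 := by
    refine card_bits_le_one hF (ZMod.castHom (dvd_refl 2) F) I fun p p' => ?_
    have h5 := congr_arg η (congr_arg (ρ (pr hF p))
      (LinearMap.congr_fun hρ.five (ρ (pc hF p') v)))
    rw [LinearMap.sum_apply, map_sum, map_sum, LinearMap.zero_apply, map_zero, map_zero] at h5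
    refine (mul_left_inj' hβ0).1 ?_
    rw [zero_mul, Finset.sum_mul, ← h5]
    refine Finset.sum_congr rfl fun k _ => ?_
    rw [← rep_mul, ← rep_mul, hc, Finset.prod_pow_eq_pow_sum, hI, mul_comm]
  rcases Nat.le_one_iff_eq_zero_or_eq_one.1 hcard with h | h
  · rw [Finset.card_eq_zero.1 h, Finset.sum_empty] at hI
    exact absurd hI.symm he0
  · obtain ⟨i, rfl⟩ := Finset.card_eq_one.1 h
    rw [Finset.sum_singleton] at hI
    exact ⟨i, hI.symm, hβ0, fun g => by rw [hc, hI]⟩

/-- A functional detecting the orbit of a nonzero vector, with a weight. -/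
theorem exists_top [FiniteDimensional F V] (ρ : Rep F m V) {v : V} (hv : v ≠ 0) :
    ∃ (η : Module.Dual F V) (e : ℕ), e < Fintype.card F - 1 ∧ IsTop hF ρ v η ∧
      (∀ t, ∀ x ∈ orbSpan ρ v, η (ρ (dS hF t) x) = (dl m t⁻¹ : F) ^ e * η x) ∧
      ∃ φ : Module.Dual F (orbSpan ρ v), φ ≠ 0 ∧
        IsHigh hF (dualRep (subRep ρ _ (orbSpan_inv ρ v))) e φ := by
  set σ := subRep ρ _ (orbSpan_inv ρ v) with hσ
  have hSd : (⊤ : Submodule F (Module.Dual F (orbSpan ρ v))) ≠ ⊥ := by
    intro h
    refine hv ?_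
    have h0 : (⟨v, self_mem_orbSpan ρ v⟩ : orbSpan ρ v) = 0 :=
      (Module.forall_dual_apply_eq_zero_iff F _).1 fun φ => by
        have : φ = 0 := by simpa [h] using (Submodule.mem_top : φ ∈ (⊤ : Submodule F _))
        rw [this]; rfl
    exact congr_arg Subtype.val h0
  obtain ⟨φ, -, hφ0, e, he, hφ⟩ :=
    exists_high hF (dualRep σ) ⊤ (fun _ _ _ => Submodule.mem_top) hSd
  obtain ⟨η, hη⟩ := φ.exists_extend
  have hηφ : ∀ x : orbSpan ρ v, η (x : V) = φ x := fun x => LinearMap.congr_fun hη x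
  refine ⟨η, e, he, ⟨fun a b x hx => ?_, ?_⟩, fun t x hx => ?_, φ, hφ0, hφ⟩
  · have := LinearMap.congr_fun (hφ.fix a (b + th m a * a)) ⟨x, hx⟩
    rw [dualRep_apply, ← uS_inv hF, inv_inv] at this
    rw [← hηφ, ← hηφ] at this
    exact this
  · by_contra hcon
    push Not at hcon
    refine hφ0 (LinearMap.ext fun x => ?_)
    rw [← hηφ, LinearMap.zero_apply]
    have hle : orbSpan ρ v ≤ LinearMap.ker η := Submodule.span_le.2 (by
      rintro _ ⟨g, rfl⟩; exact LinearMap.mem_ker.2 (hcon g))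
    exact LinearMap.mem_ker.1 (hle x.2)
  · have := LinearMap.congr_fun (hφ.tor t⁻¹) ⟨x, hx⟩
    rw [dualRep_apply, dS_inv, inv_inv, LinearMap.smul_apply, smul_eq_mul, ← hηφ, ← hηφ] at this
    exact this

end CfsgLib.CITExtSz
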