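import Cfsg.Agent.Lib.Suzuki.Structure

/-!
# Products of Galois twisted coordinates span all functions

For `q = 2^(2m+1)` the `q^2` products over `i < 2m+1` of one of the twisted coordinate functions
`1, a, b, f(a,b)` raised to the power `2^i` form a basis of the functions `F × F → F`.
This is the triangularity behind the tensor product theorem for the Suzuki groups.
-/

set_option autoImplicit false
set_option linter.unusedSectionVars false

namespace CfsgLib.CITExtSz

open CfsgLib.Suzuki
open scoped Classical

variable {F : Type*} [Field F] [Fintype F] {m : ℕ}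

/-- The coordinates of the point `(a, b)` of the ovoid. -/
def col (m : ℕ) (p : F × F) : Fin 4 → F := ![fp m p.1 p.2, p.2, p.1, 1]

/-- An atom: a coordinate raised to a power of two. -/
def atomFn (x : Bool × Fin (2 * m + 1)) : F × F → F :=
  fun p => (if x.1 then p.2 else p.1) ^ 2 ^ (x.2 : ℕ)

/-- A twisted `f`. -/
def fFn (i : Fin (2 * m + 1)) : F × F → F := fun p => fp m p.1 p.2 ^ 2 ^ (i : ℕ)

/-- The product attached to a choice of coordinate for each twist. -/
def basisFn (m : ℕ) (s : Fin (2 * m + 1) → Fin 4) : F × F → F :=
  fun p => ∏ i, col m p (s i) ^ 2 ^ (i : ℕ)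

/-- The index `k` modulo `2m+1`. -/
def modIdx (m k : ℕ) : Fin (2 * m + 1) := ⟨k % (2 * m + 1), Nat.mod_lt _ (by omega)⟩

variable (hF : Fintype.card F = 2 ^ (2 * m + 1))
include hF

theorem pow_two_mod (x : F) (k : ℕ) : x ^ 2 ^ (k % (2 * m + 1)) = x ^ 2 ^ k := by
  conv_rhs => rw [← Nat.mod_add_div k (2 * m + 1), pow_add, pow_mul, pow_mul 2 (2 * m + 1)]
  rw [← hF, FiniteField.pow_card_pow]

theorem atom_mod (c : Bool) (k : ℕ) (p : F × F) :
    atomFn (m := m) (c, modIdx m k) p = (if c then p.2 else p.1) ^ 2 ^ k :=
  pow_two_mod hF _ _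

theorem atom_sq (c : Bool) (i : Fin (2 * m + 1)) :
    atomFn (F := F) (c, i) * atomFn (c, i) = atomFn (c, modIdx m ((i : ℕ) + 1)) := by
  funext p
  rw [Pi.mul_apply, atom_mod hF, pow_succ 2 (i : ℕ), pow_mul, sq]
  rfl

theorem fFn_eq (i : Fin (2 * m + 1)) :
    (fFn i : F × F → F) = atomFn (false, i) * atomFn (true, i) +
      (atomFn (false, modIdx m ((i : ℕ) + m + 1)) * atomFn (false, modIdx m ((i : ℕ) + 1)) +
        atomFn (true, modIdx m ((i : ℕ) + m + 1))) := by
  haveI := charTwo hF
  funext p
  simp only [Pi.add_apply, Pi.mul_apply, atom_mod hF]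
  show fp m p.1 p.2 ^ 2 ^ (i : ℕ) = _
  rw [fp, add_pow_char_pow, add_pow_char_pow, th, th, mul_pow, mul_pow, ← pow_mul, ← pow_mul,
    ← pow_mul]
  simp only [atomFn, Bool.false_eq_true, if_false, if_true, add_assoc (i : ℕ) m 1]
  rw [← pow_succ' 2 (i : ℕ), pow_add 2 (i : ℕ) (m + 1), mul_comm (2 ^ (m + 1)) (2 ^ (i : ℕ)),
    add_assoc]

/-- The value of a multiset of atoms. -/
noncomputable def monoFn (A : Multiset (Bool × Fin (2 * m + 1))) : F × F → F := (A.map atomFn).prod

/-- The value of a multiset of twisted `f`s. -/
noncomputable def fProd (D : Multiset (Fin (2 * m + 1))) : F × F → F := (D.map fFn).prod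

/-- The span of the basis products. -/
noncomputable def WW (m : ℕ) : Submodule F (F × F → F) := Submodule.span F (Set.range (basisFn m))

omit hF

/-- Number of `b`-atoms. -/
def bcount (A : Multiset (Bool × Fin (2 * m + 1))) : ℕ := A.countP (fun x => x.1 = true)

theorem bcount_cons (x : Bool × Fin (2 * m + 1)) (A : Multiset (Bool × Fin (2 * m + 1))) :
    bcount (x ::ₘ A) = bcount A + if x.1 = true then 1 else 0 := by
  simp [bcount, Multiset.countP_cons]

/-- Lexicographically smaller. -/
def Lt2 (t r t' r' : ℕ) : Prop := t < t' ∨ (t = t' ∧ r < r')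

/-- All monomials of smaller measure lie in the span. -/
def Low (F : Type*) [Field F] [Fintype F] (m t r : ℕ) : Prop :=
  ∀ A : Multiset (Bool × Fin (2 * m + 1)), Lt2 (Multiset.card A) (bcount A) t r →
    (monoFn A : F × F → F) ∈ WW m

theorem monoFn_cons (x : Bool × Fin (2 * m + 1)) (A : Multiset (Bool × Fin (2 * m + 1))) :
    (monoFn (x ::ₘ A) : F × F → F) = atomFn x * monoFn A := by
  simp [monoFn]

include hF

theorem fProd_mem {t r : ℕ} (hlow : Low F m t r) (D : Multiset (Fin (2 * m + 1))) :
    ∀ A : Multiset (Bool × Fin (2 * m + 1)),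
      Lt2 (2 * Multiset.card D + Multiset.card A) (Multiset.card D + bcount A) t r →
      (fProd D * monoFn A : F × F → F) ∈ WW m := by
  induction D using Multiset.induction with
  | empty => intro A h; simpa [fProd] using hlow A (by simpa using h)
  | cons i D ih =>
    intro A h
    have e : (fProd (i ::ₘ D) * monoFn A : F × F → F) =
        fProd D * monoFn ((false, i) ::ₘ (true, i) ::ₘ A) +
        (fProd D * monoFn ((false, modIdx m ((i : ℕ) + m + 1)) ::ₘ
          (false, modIdx m ((i : ℕ) + 1)) ::ₘ A) +
        fProd D * monoFn ((true, modIdx m ((i : ℕ) + m + 1)) ::ₘ A)) := by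
      simp only [fProd, Multiset.map_cons, Multiset.prod_cons, fFn_eq hF, monoFn_cons]
      ring
    rw [e]
    refine add_mem (ih _ ?_) (add_mem (ih _ ?_) (ih _ ?_)) <;>
      simp only [Lt2, Multiset.card_cons, bcount_cons, Bool.false_eq_true, if_true, if_false,
        add_zero] at h ⊢ <;> omega

theorem fProd_sub_mem {t r : ℕ} (hlow : Low F m t r) (D : Multiset (Fin (2 * m + 1))) :
    ∀ A : Multiset (Bool × Fin (2 * m + 1)),
      2 * Multiset.card D + Multiset.card A = t → Multiset.card D + bcount A = r →
      (fProd D * monoFn A -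
        monoFn (D.map (Prod.mk false) + (D.map (Prod.mk true) + A)) : F × F → F) ∈ WW m := by
  induction D using Multiset.induction with
  | empty => intro A _ _; simp [fProd]
  | cons i D ih =>
    intro A ht hr
    have e : (fProd (i ::ₘ D) * monoFn A : F × F → F) =
        fProd D * monoFn ((false, i) ::ₘ (true, i) ::ₘ A) +
        (fProd D * monoFn ((false, modIdx m ((i : ℕ) + m + 1)) ::ₘ
          (false, modIdx m ((i : ℕ) + 1)) ::ₘ A) +
        fProd D * monoFn ((true, modIdx m ((i : ℕ) + m + 1)) ::ₘ A)) := by
      simp only [fProd, Multiset.map_cons, Multiset.prod_cons, fFn_eq hF, monoFn_cons]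
      ring
    rw [Multiset.card_cons] at ht hr
    have h1 := ih ((false, i) ::ₘ (true, i) ::ₘ A)
      (by simp only [Multiset.card_cons]; omega)
      (by simp only [bcount_cons, Bool.false_eq_true, if_true, if_false]; omega)
    have e2 : D.map (Prod.mk false) + (D.map (Prod.mk true) + ((false, i) ::ₘ (true, i) ::ₘ A)) =
        (i ::ₘ D).map (Prod.mk false) + ((i ::ₘ D).map (Prod.mk true) + A) := by
      simp only [Multiset.map_cons, Multiset.cons_add, Multiset.add_cons]
      exact Multiset.cons_swap _ _ _
    rw [e2] at h1
    have h2 : (fProd D * monoFn ((false, modIdx m ((i : ℕ) + m + 1)) ::ₘ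
        (false, modIdx m ((i : ℕ) + 1)) ::ₘ A) : F × F → F) ∈ WW m :=
      fProd_mem hF hlow D _ (by
        simp only [Lt2, Multiset.card_cons, bcount_cons, Bool.false_eq_true, if_false]; omega)
    have h3 : (fProd D * monoFn ((true, modIdx m ((i : ℕ) + m + 1)) ::ₘ A) : F × F → F) ∈ WW m :=
      fProd_mem hF hlow D _ (by
        simp only [Lt2, Multiset.card_cons, bcount_cons, if_true]; omega)
    have := add_mem h1 (add_mem h2 h3)
    rw [e]
    convert this using 1
    abel

theorem mono_mem : ∀ (t r : ℕ) (A : Multiset (Bool × Fin (2 * m + 1))),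
    Multiset.card A = t → bcount A = r → (monoFn A : F × F → F) ∈ WW m := by
  intro t
  induction t using Nat.strong_induction_on with
  | _ t iht =>
    intro r
    induction r using Nat.strong_induction_on with
    | _ r ihr =>
      intro A ht hr
      have hlow : Low F m t r := by
        rintro B (h | ⟨h, h'⟩)
        · exact iht _ h _ B rfl rfl
        · exact ihr _ h' B h rfl
      by_cases hnd : A.Nodup
      · -- a squarefree monomial
        let S : Finset (Bool × Fin (2 * m + 1)) := ⟨A, hnd⟩
        let D : Finset (Fin (2 * m + 1)) :=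
          Finset.univ.filter fun i => (false, i) ∈ A ∧ (true, i) ∈ A
        let R : Multiset (Bool × Fin (2 * m + 1)) :=
          (S.filter fun x => x.2 ∉ D).1
        have hA : D.1.map (Prod.mk false) + (D.1.map (Prod.mk true) + R) = A := by
          refine (Multiset.Nodup.ext ?_ hnd).2 fun x => ?_
          · rw [Multiset.nodup_add, Multiset.nodup_add]
            refine ⟨D.2.map (fun a b h => (Prod.mk.inj h).2), ⟨D.2.map (fun a b h => (Prod.mk.inj h).2),
              (S.filter _).2, ?_⟩, ?_⟩
            · rw [Multiset.disjoint_left]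
              intro x hx hx'
              obtain ⟨i, hi, rfl⟩ := Multiset.mem_map.1 hx
              exact (Finset.mem_filter.1 (show (true, i) ∈ S.filter fun x => x.2 ∉ D from hx')).2 hi
            · rw [Multiset.disjoint_left]
              intro x hx hx'
              obtain ⟨i, hi, rfl⟩ := Multiset.mem_map.1 hx
              rcases Multiset.mem_add.1 hx' with h | h
              · obtain ⟨j, _, hj⟩ := Multiset.mem_map.1 h
                simp at hj
              · exact (Finset.mem_filter.1 (show (false, i) ∈ S.filter fun x => x.2 ∉ D from h)).2 hi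
          · obtain ⟨c, i⟩ := x
            simp only [Multiset.mem_add, Multiset.mem_map, Prod.mk.injEq, exists_eq_right,
              exists_and_right, R, S, Finset.mem_filter, Finset.filter_val, Multiset.mem_filter]
            constructor
            · rintro (⟨j, hj, hc, rfl⟩ | ⟨j, hj, hc, rfl⟩ | ⟨h, -⟩)
              · subst hc; exact (Finset.mem_filter.1 (show j ∈ D from hj)).2.1
              · subst hc; exact (Finset.mem_filter.1 (show j ∈ D from hj)).2.2
              · exact h
            · intro h
              by_cases hi : i ∈ D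
              · cases c
                · exact Or.inl ⟨i, hi, rfl, rfl⟩
                · exact Or.inr (Or.inl ⟨i, hi, rfl, rfl⟩)
              · exact Or.inr (Or.inr ⟨h, hi⟩)
        have hcard : 2 * Multiset.card D.1 + Multiset.card R = t := by
          rw [← ht, ← hA]; simp; ring
        have hb : Multiset.card D.1 + bcount R = r := by
          rw [← hr, ← hA]
          simp [bcount, Multiset.countP_add, Multiset.countP_map, Function.comp_def]
        have hsub := fProd_sub_mem hF hlow D.1 R hcard hb
        rw [hA] at hsub
        have hbasis : (fProd D.1 * monoFn R : F × F → F) ∈ WW m := by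
          refine Submodule.subset_span ⟨fun i => if i ∈ D then 0 else
            if (true, i) ∈ A then 1 else if (false, i) ∈ A then 2 else 3, ?_⟩
          funext p
          have e1 : (fProd D.1 * monoFn R : F × F → F) p =
              (∏ i ∈ D, fp m p.1 p.2 ^ 2 ^ (i : ℕ)) *
                ∏ x ∈ S.filter (fun x => x.2 ∉ D), atomFn x p := by
            rw [Pi.mul_apply, fProd, monoFn, Pi.multiset_prod_apply, Pi.multiset_prod_apply,
              Multiset.map_map, Multiset.map_map]
            rfl
          rw [e1, basisFn, ← Finset.prod_mul_prod_compl D]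
          refine congr_arg₂ _ (Finset.prod_congr rfl fun i hi => by simp [hi, col]) ?_
          rw [← Finset.prod_fiberwise_of_maps_to (t := Dᶜ) (g := Prod.snd) (s := S.filter _)
            (fun x hx => Finset.mem_compl.2 (Finset.mem_filter.1 hx).2)]
          refine Finset.prod_congr rfl fun i hi => ?_
          rw [Finset.mem_compl] at hi
          have hnb : ¬ ((false, i) ∈ A ∧ (true, i) ∈ A) := fun h =>
            hi (Finset.mem_filter.2 ⟨Finset.mem_univ _, h⟩)
          have e3 : ((S.filter (fun x => x.2 ∉ D)).filter fun x => x.2 = i) =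
              ({(true, i), (false, i)} : Finset _).filter fun x => x ∈ A := by
            ext ⟨c, j⟩
            simp only [Finset.mem_filter, S, Finset.mem_mk, Finset.mem_insert, Finset.mem_singleton,
              Prod.mk.injEq]
            constructor
            · rintro ⟨⟨h, -⟩, rfl⟩
              refine ⟨?_, h⟩
              cases c <;> simp
            · rintro ⟨(⟨-, rfl⟩ | ⟨-, rfl⟩), h⟩ <;> exact ⟨⟨h, hi⟩, rfl⟩
          rw [e3]
          by_cases h1 : (true, i) ∈ A
          · have h2 : (false, i) ∉ A := fun h => hnb ⟨h, h1⟩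
            simp [hi, h1, h2, col, atomFn, Finset.filter_insert, Finset.filter_singleton]
          · by_cases h2 : (false, i) ∈ A
            · simp [hi, h1, h2, col, atomFn, Finset.filter_insert, Finset.filter_singleton]
            · simp [hi, h1, h2, col, atomFn, Finset.filter_insert, Finset.filter_singleton]
        simpa using sub_mem hbasis hsub
      · -- a repeated atom
        obtain ⟨x, hx⟩ : ∃ x, 2 ≤ A.count x := by
          by_contra hcon
          push Not at hcon
          exact hnd (Multiset.nodup_iff_count_le_one.2 fun x => by have := hcon x; omega)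
        obtain ⟨B, rfl⟩ := Multiset.le_iff_exists_add.1
          (show (x ::ₘ {x} : Multiset _) ≤ A from Multiset.le_iff_count.2 fun y => by
            by_cases hy : y = x
            · subst hy; simpa using hx
            · simp [hy])
        have e : (monoFn (x ::ₘ {x} + B) : F × F → F) =
            monoFn ((x.1, modIdx m ((x.2 : ℕ) + 1)) ::ₘ B) := by
          rw [Multiset.cons_add, Multiset.singleton_add, monoFn_cons, monoFn_cons, ← mul_assoc,
            monoFn_cons, ← atom_sq hF]
        rw [e]
        refine hlow _ (Or.inl ?_)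
        rw [← ht]; simp

theorem WW_eq_top : (WW m : Submodule F (F × F → F)) = ⊤ := by
  let A0 : Submonoid (F × F → F) :=
    { carrier := Set.range (monoFn (F := F) (m := m))
      one_mem' := ⟨0, by simp [monoFn]⟩
      mul_mem' := by rintro _ _ ⟨A, rfl⟩ ⟨B, rfl⟩; exact ⟨A + B, by simp [monoFn]⟩ }
  have hle : Submodule.span F (A0 : Set (F × F → F)) ≤ WW m :=
    Submodule.span_le.2 (by rintro _ ⟨A, rfl⟩; exact mono_mem hF _ _ A rfl rfl)
  have hmul : ∀ f g : F × F → F, f ∈ Submodule.span F (A0 : Set _) →
      g ∈ Submodule.span F (A0 : Set _) → f * g ∈ Submodule.span F (A0 : Set (F × F → F)) := by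
    intro f g hf hg
    have := Submodule.mul_mem_mul hf hg
    rw [Submodule.span_mul_span] at this
    refine Submodule.span_mono ?_ this
    rintro _ ⟨a, ha, b, hb, rfl⟩
    exact A0.mul_mem ha hb
  have hone : (1 : F × F → F) ∈ Submodule.span F (A0 : Set (F × F → F)) :=
    Submodule.subset_span A0.one_mem
  have hat : ∀ c : Bool, (fun p : F × F => if c then p.2 else p.1) ∈
      Submodule.span F (A0 : Set (F × F → F)) := fun c =>
    Submodule.subset_span ⟨{(c, 0)}, by funext p; simp [monoFn, atomFn]⟩
  have hpow : ∀ (f : F × F → F), f ∈ Submodule.span F (A0 : Set _) → ∀ k : ℕ,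
      f ^ k ∈ Submodule.span F (A0 : Set (F × F → F)) := by
    intro f hf k
    induction k with
    | zero => simpa using hone
    | succ k ih => rw [pow_succ]; exact hmul _ _ ih hf
  have hq : 0 < Fintype.card F - 1 := by
    have : 2 ≤ Fintype.card F := Fintype.one_lt_card
    omega
  rw [eq_top_iff]
  intro φ _
  have hφ : φ = ∑ p : F × F, φ p •
      ((1 - (((fun x : F × F => x.1) - p.1 • 1)) ^ (Fintype.card F - 1)) *
       (1 - (((fun x : F × F => x.2) - p.2 • 1)) ^ (Fintype.card F - 1))) := by
    funext x
    rw [Finset.sum_apply, Finset.sum_eq_single x]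
    · simp [zero_pow hq.ne']
    · intro p _ hp
      have h1 : ∀ y : F, y ≠ 0 → y ^ (Fintype.card F - 1) = 1 := fun y hy =>
        FiniteField.pow_card_sub_one_eq_one y hy
      by_cases h : p.1 = x.1
      · have : x.2 - p.2 ≠ 0 := fun h' => hp (Prod.ext h (sub_eq_zero.1 h').symm)
        simp [h1 _ this]
      · have : x.1 - p.1 ≠ 0 := fun h' => h (sub_eq_zero.1 h').symm
        simp [h1 _ this]
    · simp
  rw [hφ]
  refine Submodule.sum_mem _ fun p _ => Submodule.smul_mem _ _ (hle (hmul _ _ ?_ ?_))
  · exact sub_mem hone (hpow _ (sub_mem (by simpa using hat false)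
      (Submodule.smul_mem _ _ hone)) _)
  · exact sub_mem hone (hpow _ (sub_mem (by simpa using hat true)
      (Submodule.smul_mem _ _ hone)) _)

/-- **The products of twisted coordinates are linearly independent.** -/
theorem basisFn_linearIndependent : LinearIndependent F (basisFn (F := F) m) := by
  refine linearIndependent_of_top_le_span_of_card_eq_finrank (WW_eq_top hF).ge ?_
  rw [Module.finrank_fintype_fun_eq_card, Fintype.card_fun, Fintype.card_prod, hF,
    Fintype.card_fin, Fintype.card_fin, ← pow_add, show (4 : ℕ) = 2 ^ 2 from rfl, ← pow_mul,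
    two_mul (2 * m + 1)]

theorem coeff_eq_zero (c : (Fin (2 * m + 1) → Fin 4) → F)
    (h : ∀ p : F × F, ∑ s, c s * basisFn m s p = 0) : c = 0 := by
  have := Fintype.linearIndependent_iff.1 (basisFn_linearIndependent hF) c (by
    funext p; simpa [Finset.sum_apply] using h p)
  funext s; exact this s

/-- Two different twists of the coordinates have linearly independent products. -/
theorem pair_eq_zero {i j : Fin (2 * m + 1)} (hij : i ≠ j) (C : Fin 4 → Fin 4 → F)
    (h : ∀ p : F × F, ∑ k, ∑ l, C k l * (col m p k ^ 2 ^ (i : ℕ) * col m p l ^ 2 ^ (j : ℕ)) = 0) :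
    C = 0 := by
  let s : Fin 4 × Fin 4 → (Fin (2 * m + 1) → Fin 4) :=
    fun kl => Function.update (Function.update (fun _ => 3) i kl.1) j kl.2
  have hinj : Function.Injective s := by
    intro a b hab
    refine Prod.ext ?_ ?_
    · simpa [s, hij] using congr_fun hab i
    · simpa [s] using congr_fun hab j
  have hval : ∀ kl p, basisFn (F := F) m (s kl) p =
      col m p kl.1 ^ 2 ^ (i : ℕ) * col m p kl.2 ^ 2 ^ (j : ℕ) := by
    intro kl p
    rw [basisFn, ← Finset.prod_subset (Finset.subset_univ {i, j}), Finset.prod_pair hij]
    · simp [s, hij]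
    · intro x _ hx
      simp only [Finset.mem_insert, Finset.mem_singleton, not_or] at hx
      simp [s, hx.1, hx.2, col]
  have := Fintype.linearIndependent_iff.1 ((basisFn_linearIndependent hF).comp s hinj)
    (fun kl => C kl.1 kl.2) (by
      funext p
      rw [Finset.sum_apply, Fintype.sum_prod_type]
      simpa [hval] using h p)
  funext k l
  exact this (k, l)

/-- The twisted points of the ovoid span. -/
theorem single_eq_zero (i : Fin (2 * m + 1)) (C : Fin 4 → F)
    (h : ∀ p : F × F, ∑ k, C k * col m p k ^ 2 ^ (i : ℕ) = 0) : C = 0 := by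
  let s : Fin 4 → (Fin (2 * m + 1) → Fin 4) := fun k => Function.update (fun _ => 3) i k
  have hinj : Function.Injective s := fun a b hab => by simpa [s] using congr_fun hab i
  have hval : ∀ k p, basisFn (F := F) m (s k) p = col m p k ^ 2 ^ (i : ℕ) := by
    intro k p
    rw [basisFn, Finset.prod_eq_single i]
    · simp [s]
    · intro x _ hx; simp [s, hx, col]
    · simp
  have := Fintype.linearIndependent_iff.1 ((basisFn_linearIndependent hF).comp s hinj) C (by
    funext p
    rw [Finset.sum_apply]
    simpa [hval] using h p)
  funext k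
  exact this k

end CfsgLib.CITExtSz
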