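import Cfsg.Agent.Lib.Suzuki.Structure
import Cfsg.Agent.Lib.Suzuki.Lie
import Cfsg.Agent.Lib.Suzuki.LinMap
import Cfsg.Agent.Lib.Suzuki.Sylow

/-!
Products of Frobenius twists of the natural module of a Suzuki group: the translates of the lowest vector under the
unipotent group span, and the vectors fixed by the unipotent group form one line.
-/

set_option autoImplicit false
set_option linter.unusedSectionVars false
set_option linter.style.haveILetI false

namespace CfsgLib.CITExt.Sz

open Matrix CfsgLib.Suzuki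

universe v

/-- A two-group acting linearly on a non-trivial finite space of characteristic two fixes a non-zero vector. -/
theorem exists_fixed {P : Type*} [Group P] (hP : IsPGroup 2 P) {K : Type*} [Field K] [Finite K] [CharP K 2]
    {V : Type v} [AddCommGroup V] [Module K V] [Finite V] [Nontrivial V] (ρ : P →* Module.End K V) :
    ∃ x : V, x ≠ 0 ∧ ∀ p, ρ p x = x := by
  haveI : Fact (Nat.Prime 2) := ⟨Nat.prime_two⟩
  letI : MulAction P V :=
    { smul := fun p x => ρ p x
      one_smul := fun x => by show ρ 1 x = x; rw [map_one]; rfl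
      mul_smul := fun p q x => by show ρ (p * q) x = ρ p (ρ q x); rw [map_mul]; rfl }
  have h2 : 2 ∣ Nat.card V := by
    obtain ⟨x, hx⟩ := exists_ne (0 : V)
    have hxx : x + x = 0 := by
      rw [← two_smul K x, show (2 : K) = 0 from CharTwo.two_eq_zero, zero_smul]
    have := addOrderOf_dvd_natCard x
    rwa [addOrderOf_eq_prime (by rw [two_nsmul, hxx]) hx] at this
  obtain ⟨x, hx, hne⟩ := hP.exists_fixed_point_of_prime_dvd_card_of_fixed_point V h2
    (a := (0 : V)) (fun p => map_zero (ρ p))
  exact ⟨x, Ne.symm hne, hx⟩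

variable {F : Type} [Field F]

/-- The product of twists of a matrix. -/
def tens {ι : Type} [Fintype ι] (σ : ι → F →+* F) (A : Matrix (Fin 4) (Fin 4) F) :
    Matrix (ι → Fin 4) (ι → Fin 4) F := Matrix.of fun f f' => ∏ i, σ i (A (f i) (f' i))

section Tens

variable {ι : Type} [Fintype ι] [DecidableEq ι] (σ : ι → F →+* F)

theorem tens_apply (A : Matrix (Fin 4) (Fin 4) F) (f f' : ι → Fin 4) :
    tens σ A f f' = ∏ i, σ i (A (f i) (f' i)) := rfl

theorem tens_mul (A B : Matrix (Fin 4) (Fin 4) F) : tens σ (A * B) = tens σ A * tens σ B := by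
  ext f f'
  simp only [tens_apply, Matrix.mul_apply, map_sum, map_mul, Fintype.prod_sum, Finset.prod_mul_distrib]

theorem tens_one : tens σ (1 : Matrix (Fin 4) (Fin 4) F) = 1 := by
  ext f f'
  rw [tens_apply]
  by_cases h : f = f'
  · subst h; simp
  · obtain ⟨i, hi⟩ := Function.ne_iff.mp h
    rw [Matrix.one_apply_ne h]
    exact Finset.prod_eq_zero (Finset.mem_univ i) (by rw [Matrix.one_apply_ne hi, map_zero])

theorem tens_transpose (A : Matrix (Fin 4) (Fin 4) F) : tens σ Aᵀ = (tens σ A)ᵀ := rfl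

theorem mW_apply (i j : Fin 4) : (mW : Matrix (Fin 4) (Fin 4) F) i j = if i = Fin.rev j then 1 else 0 := by
  fin_cases i <;> fin_cases j <;> simp [mW, Fin.rev]

theorem tens_mW_single (f : ι → Fin 4) :
    tens σ (mW : Matrix (Fin 4) (Fin 4) F) *ᵥ Pi.single f 1 = Pi.single (fun i => Fin.rev (f i)) 1 := by
  funext g
  rw [Matrix.mulVec_single_one]
  show tens σ mW g f = _
  rw [tens_apply]
  by_cases h : g = fun i => Fin.rev (f i)
  · subst h; simp [mW_apply]
  · obtain ⟨i, hi⟩ := Function.ne_iff.mp h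
    rw [Pi.single_eq_of_ne h]
    exact Finset.prod_eq_zero (Finset.mem_univ i) (by rw [mW_apply, if_neg hi, map_zero])

end Tens

variable [Fintype F] {m : ℕ} (hF : Fintype.card F = 2 ^ (2 * m + 1))

/-- The Suzuki group. -/
abbrev SZ (F : Type) [Field F] (m : ℕ) : Type := ↥(Cfsg.Sz F m)

/-- The matrix of an element. -/
abbrev mat (g : SZ F m) : Matrix (Fin 4) (Fin 4) F := g.1.1

include hF in
theorem mat_form (hm : 1 ≤ m) (g : SZ F m) : (mat g)ᵀ * mW * mat g = mW :=
  formPres_of_mem hF hm g.2

section Twists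

variable {ι : Type} [Fintype ι] [DecidableEq ι]

/-- The twist of index `k`. -/
noncomputable def frob (k : ℕ) : F →+* F :=
  haveI := charTwo hF
  haveI : ExpChar F 2 := ExpChar.prime Nat.prime_two
  iterateFrobenius F 2 k

theorem frob_apply (k : ℕ) (x : F) : frob hF k x = x ^ 2 ^ k := rfl

/-- The twists attached to a family of indices. -/
noncomputable def twist (e : ι → ℕ) : ι → F →+* F := fun i => frob hF (e i + (m + 1))

/-- The representation on the product of twists. -/
noncomputable def tRep (e : ι → ℕ) : SZ F m →* Module.End F ((ι → Fin 4) → F) where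
  toFun g := Matrix.toLinAlgEquiv' (tens (twist hF e) (mat g))
  map_one' := by
    show Matrix.toLinAlgEquiv' (tens (twist hF e) (1 : Matrix (Fin 4) (Fin 4) F)) = 1
    rw [tens_one, map_one]
  map_mul' g h := by
    show Matrix.toLinAlgEquiv' (tens (twist hF e) (mat g * mat h)) = _
    rw [tens_mul, map_mul]

theorem tRep_apply (e : ι → ℕ) (g : SZ F m) (x : (ι → Fin 4) → F) :
    tRep hF e g x = tens (twist hF e) (mat g) *ᵥ x := rfl

/-- The highest vector. -/
def top : (ι → Fin 4) → F := Pi.single (fun _ => 0) 1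

/-- The lowest vector. -/
def bot : (ι → Fin 4) → F := Pi.single (fun _ => 3) 1

/-- The invariant form. -/
noncomputable def form (e : ι → ℕ) (x y : (ι → Fin 4) → F) : F :=
  x ⬝ᵥ (tens (twist hF e) mW *ᵥ y)

theorem form_invariant (hm : 1 ≤ m) (e : ι → ℕ) (g : SZ F m) (x y : (ι → Fin 4) → F) :
    form hF e (tRep hF e g x) (tRep hF e g y) = form hF e x y := by
  unfold form
  rw [tRep_apply, tRep_apply, Matrix.dotProduct_mulVec, Matrix.dotProduct_mulVec, Matrix.vecMul_mulVec,
    Matrix.vecMul_vecMul, ← tens_transpose, ← tens_mul, ← tens_mul, mat_form hF hm g, ← Matrix.dotProduct_mulVec]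

theorem form_single (e : ι → ℕ) (x : (ι → Fin 4) → F) (f : ι → Fin 4) :
    form hF e x (Pi.single f 1) = x fun i => Fin.rev (f i) := by
  unfold form
  rw [tens_mW_single, dotProduct_single, mul_one]

theorem form_bot (e : ι → ℕ) (x : (ι → Fin 4) → F) : form hF e x bot = x (fun _ => 0) :=
  form_single hF e x _

theorem tRep_uS_top (e : ι → ℕ) (a b : F) : tRep hF e (uS hF a b) top = top := by
  funext f
  rw [tRep_apply, top, Matrix.mulVec_single_one]
  show ∏ i, twist hF e i (mU m a b (f i) 0) = _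
  by_cases h : f = fun _ => 0
  · subst h; simp [mU]
  · obtain ⟨i, hi⟩ := Function.ne_iff.mp h
    rw [Pi.single_eq_of_ne h]
    refine Finset.prod_eq_zero (Finset.mem_univ i) ?_
    have : mU m a b (f i) 0 = 0 := by
      generalize f i = k at hi
      fin_cases k <;> simp_all [mU]
    rw [this, map_zero]

theorem tRep_dS_single (e : ι → ℕ) (t : Fˣ) (f : ι → Fin 4) :
    tRep hF e (dS hF t) (Pi.single f 1) =
      (∏ i, twist hF e i (![th m (t : F) * t, t, (t : F)⁻¹, (th m (t : F) * t)⁻¹] (f i))) • Pi.single f 1 := by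
  funext g
  rw [tRep_apply, Matrix.mulVec_single_one, Pi.smul_apply, smul_eq_mul]
  show ∏ i, twist hF e i (mD m (t : F) (g i) (f i)) = _
  by_cases h : g = f
  · subst h; simp [mD]
  · obtain ⟨i, hi⟩ := Function.ne_iff.mp h
    rw [Pi.single_eq_of_ne h, mul_zero]
    exact Finset.prod_eq_zero (Finset.mem_univ i) (by rw [mD, Matrix.diagonal_apply_ne _ hi, map_zero])

theorem tRep_wS_single (e : ι → ℕ) (f : ι → Fin 4) :
    tRep hF e (wS hF) (Pi.single f 1) = Pi.single (fun i => Fin.rev (f i)) 1 :=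
  tens_mW_single _ f

end Twists

section Span

/-- The two parameters of an element of the unipotent group. -/
noncomputable def uEquiv : F × F ≃ ↥(U hF) :=
  Equiv.ofBijective (fun p => ⟨uS hF p.1 p.2, (mem_U hF).mpr ⟨p.1, p.2, rfl⟩⟩) ⟨fun p q h => by
    obtain ⟨h1, h2⟩ := uS_inj hF (congrArg Subtype.val h)
    exact Prod.ext h1 h2, fun ⟨g, hg⟩ => by
    obtain ⟨a, b, rfl⟩ := (mem_U hF).mp hg
    exact ⟨(a, b), rfl⟩⟩

theorem uEquiv_apply (p : F × F) : (uEquiv hF p : SZ F m) = uS hF p.1 p.2 := rfl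

theorem twist_full [DecidableEq F] (x : F) :
    ∏ j : Fin (2 * m + 1), twist hF (fun j : Fin (2 * m + 1) => j.val) j x = if x = 0 then 0 else 1 := by
  have h : ∏ j : Fin (2 * m + 1), twist hF (fun j : Fin (2 * m + 1) => j.val) j x =
      (x ^ 2 ^ (m + 1)) ^ (2 ^ (2 * m + 1) - 1) := by
    simp only [twist, frob_apply]
    rw [Finset.prod_pow_eq_pow_sum, ← pow_mul, Fin.sum_univ_eq_sum_range (fun j => 2 ^ (j + (m + 1)))]
    congr 1
    rw [show 2 ^ (2 * m + 1) - 1 = ∑ j ∈ Finset.range (2 * m + 1), 2 ^ j by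
      rw [Nat.geomSum_eq le_rfl, Nat.div_one], Finset.mul_sum]
    exact Finset.sum_congr rfl fun j _ => by rw [pow_add, mul_comm]
  rw [h]
  split_ifs with hx
  · subst hx
    rw [zero_pow (by positivity), zero_pow]
    have : 2 ≤ 2 ^ (2 * m + 1) := by
      calc 2 = 2 ^ 1 := rfl
        _ ≤ _ := Nat.pow_le_pow_right (by norm_num) (by omega)
    omega
  · rw [← hF]
    exact FiniteField.pow_card_sub_one_eq_one _ (pow_ne_zero _ hx)

theorem sum_fp : ∑ p : F × F, ∏ j : Fin (2 * m + 1), twist hF (fun j : Fin (2 * m + 1) => j.val) j (fp m p.1 p.2) =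
    1 := by
  classical
  haveI := charTwo hF
  simp only [twist_full]
  have h : (Finset.univ.filter fun p : F × F => ¬ fp m p.1 p.2 = 0) = Finset.univ.erase (0, 0) := by
    ext p
    simp only [Finset.mem_filter, Finset.mem_univ, true_and, Finset.mem_erase, and_true]
    rw [fp_eq_zero_iff hF, ne_eq, Prod.ext_iff]
  rw [Finset.sum_ite, Finset.sum_const_zero, zero_add, Finset.sum_const, h, Finset.card_erase_of_mem (Finset.mem_univ _),
    Finset.card_univ, Fintype.card_prod, hF, nsmul_one]
  obtain ⟨k, hk⟩ : ∃ k, 2 ^ (2 * m + 1) * 2 ^ (2 * m + 1) = 2 * (k + 1) := by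
    refine ⟨2 ^ (2 * m) * 2 ^ (2 * m + 1) - 1, ?_⟩
    have : 1 ≤ 2 ^ (2 * m) * 2 ^ (2 * m + 1) := Nat.one_le_iff_ne_zero.mpr (by positivity)
    rw [Nat.sub_add_cancel this, pow_succ]
    ring
  rw [hk, show 2 * (k + 1) - 1 = 2 * k + 1 by omega]
  push_cast
  rw [show (2 : F) = 0 from CharTwo.two_eq_zero, zero_mul, zero_add]

/-- The translates of the lowest vector of the full product are independent. -/
theorem full_injective [Fintype ↥(U hF)] :
    Function.Injective fun c : ↥(U hF) → F =>
      ∑ p : ↥(U hF), c p • tRep hF (fun j : Fin (2 * m + 1) => j.val) (p : SZ F m) bot := by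
  classical
  haveI := charTwo hF
  set e : Fin (2 * m + 1) → ℕ := fun j => j.val
  let L : (↥(U hF) → F) →ₗ[F] ((Fin (2 * m + 1) → Fin 4) → F) :=
    ∑ p : ↥(U hF), (LinearMap.proj (R := F) (φ := fun _ : ↥(U hF) => F) p).smulRight (tRep hF e (p : SZ F m) bot)
  have hL : ∀ c, L c = ∑ p : ↥(U hF), c p • tRep hF e (p : SZ F m) bot := fun c => by simp [L]
  suffices Function.Injective L from fun a b h => this (by rw [hL, hL]; exact h)
  rw [← LinearMap.ker_eq_bot]
  by_contra hne
  let ρ : ↥(U hF) →* Module.End F (↥(U hF) → F) :=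
    { toFun := fun u => LinearMap.funLeft F F fun p => u⁻¹ * p
      map_one' := LinearMap.ext fun c => by funext p; simp
      map_mul' := fun u v => LinearMap.ext fun c => by funext p; simp [mul_assoc] }
  have hρ : ∀ u, ∀ c ∈ L.ker, ρ u c ∈ L.ker := by
    intro u c hc
    rw [LinearMap.mem_ker] at hc ⊢
    have key : L (ρ u c) = tRep hF e (u : SZ F m) (L c) := by
      rw [hL, hL, map_sum, ← Equiv.sum_comp (Equiv.mulLeft u)]
      refine Finset.sum_congr rfl fun p _ => ?_
      rw [map_smul, Equiv.coe_mulLeft, Subgroup.coe_mul, map_mul, Module.End.mul_apply]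
      show c (u⁻¹ * (u * p)) • _ = _
      rw [inv_mul_cancel_left]
    rw [key, hc, map_zero]
  let ρ' : ↥(U hF) →* Module.End F L.ker :=
    { toFun := fun u => (ρ u).restrict (hρ u)
      map_one' := LinearMap.ext fun c => Subtype.ext (by simp)
      map_mul' := fun u v => LinearMap.ext fun c => Subtype.ext (by simp) }
  haveI : Nontrivial L.ker := Submodule.nontrivial_iff_ne_bot.mpr hne
  obtain ⟨⟨c, hc⟩, hc0, hcfix⟩ := exists_fixed (U_isPGroup hF) ρ'
  have hconst : ∀ p, c p = c 1 := fun p => by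
    have h := congrFun (congrArg Subtype.val (hcfix p)) p
    change c (p⁻¹ * p) = c p at h
    rw [inv_mul_cancel] at h
    exact h.symm
  rw [LinearMap.mem_ker, hL] at hc
  have h0 := congrFun hc (fun _ => 0)
  simp only [Finset.sum_apply, Pi.smul_apply, smul_eq_mul, Pi.zero_apply] at h0
  simp only [hconst, ← Finset.mul_sum] at h0
  have hsum : ∑ p : ↥(U hF), tRep hF e (p : SZ F m) bot (fun _ => 0) = 1 := by
    rw [← (uEquiv hF).sum_comp, ← sum_fp hF]
    refine Finset.sum_congr rfl fun p _ => ?_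
    rw [uEquiv_apply, tRep_apply, bot, Matrix.mulVec_single_one]
    show ∏ j, twist hF e j (mU m p.1 p.2 0 3) = _
    simp [mU, e]
  rw [hsum, mul_one] at h0
  refine hc0 (Subtype.ext ?_)
  funext p
  show c p = 0
  rw [hconst p, h0]

/-- The translates of the lowest vector span. -/
theorem exists_comb [Fintype ↥(U hF)] {ι : Type} [Fintype ι] [DecidableEq ι] (e : ι → Fin (2 * m + 1)) (he : Function.Injective e)
    (v : (ι → Fin 4) → F) :
    ∃ c : ↥(U hF) → F, ∑ p : ↥(U hF), c p • tRep hF (fun i => (e i).val) (p : SZ F m) bot = v := by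
  classical
  set E : Fin (2 * m + 1) → ℕ := fun j => j.val
  let L : (↥(U hF) → F) →ₗ[F] ((Fin (2 * m + 1) → Fin 4) → F) :=
    ∑ p : ↥(U hF), (LinearMap.proj (R := F) (φ := fun _ : ↥(U hF) => F) p).smulRight (tRep hF E (p : SZ F m) bot)
  have hL : ∀ c, L c = ∑ p : ↥(U hF), c p • tRep hF E (p : SZ F m) bot := fun c => by simp [L]
  have hinj : Function.Injective L := fun a b h => full_injective hF (by
    show ∑ p, _ = ∑ p, _
    rw [← hL, ← hL]; exact h)
  have hsurj : Function.Surjective L := by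
    refine (LinearMap.injective_iff_surjective_of_finrank_eq_finrank ?_).mp hinj
    rw [Module.finrank_fintype_fun_eq_card, Module.finrank_fintype_fun_eq_card, Fintype.card_fun, Fintype.card_fin,
      Fintype.card_fin, ← Nat.card_eq_fintype_card, card_U, ← pow_mul, show 4 = 2 ^ 2 by norm_num, ← pow_mul]
    ring_nf
  let ext : (ι → Fin 4) → (Fin (2 * m + 1) → Fin 4) := fun f => Function.extend e f fun _ => 3
  have hext : Function.Injective ext := fun f g h => funext fun i => by
    have : Function.extend e f (fun _ => 3) (e i) = Function.extend e g (fun _ => 3) (e i) := congrFun h (e i)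
    rwa [he.extend_apply, he.extend_apply] at this
  obtain ⟨c, hc⟩ := hsurj (Function.extend ext v 0)
  refine ⟨c, funext fun f => ?_⟩
  have h := congrFun hc (ext f)
  rw [hext.extend_apply, hL] at h
  rw [← h]
  simp only [Finset.sum_apply, Pi.smul_apply]
  refine Finset.sum_congr rfl fun p _ => congrArg (c p • ·) ?_
  rw [tRep_apply, tRep_apply, bot, bot, Matrix.mulVec_single_one, Matrix.mulVec_single_one]
  show ∏ i, twist hF (fun i => (e i).val) i (mat (p : SZ F m) (f i) 3) = ∏ j, twist hF E j (mat (p : SZ F m) (ext f j) 3)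
  obtain ⟨a, b, hab⟩ := (mem_U hF).mp p.2
  rw [hab]
  show ∏ i, twist hF (fun i => (e i).val) i (mU m a b (f i) 3) = ∏ j, twist hF E j (mU m a b (ext f j) 3)
  refine Finset.prod_bij_ne_one (fun i _ _ => e i) (fun _ _ _ => Finset.mem_univ _)
    (fun _ _ _ _ _ _ h => he h) (fun j _ hj => ?_) fun i _ _ => by
      simp only [ext, he.extend_apply, twist, frob_apply, E]
  by_cases hjr : ∃ i, e i = j
  · obtain ⟨i, rfl⟩ := hjr
    refine ⟨i, Finset.mem_univ i, ?_, rfl⟩
    simpa only [ext, he.extend_apply, twist, frob_apply, E] using hj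
  · exact absurd (by simp [ext, Function.extend_apply' _ _ _ hjr, mU]) hj

/-- The vectors fixed by the unipotent group are multiples of the highest one. -/
theorem fixed_eq_smul_top (hm : 1 ≤ m) {ι : Type} [Fintype ι] [DecidableEq ι] (e : ι → Fin (2 * m + 1))
    (he : Function.Injective e) (x : (ι → Fin 4) → F)
    (hx : ∀ a b : F, tRep hF (fun i => (e i).val) (uS hF a b) x = x) :
    x = x (fun _ => 0) • top := by
  classical
  haveI : Fintype ↥(U hF) := Fintype.ofFinite _
  set E : ι → ℕ := fun i => (e i).val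
  set y : (ι → Fin 4) → F := x - x (fun _ => 0) • top
  have hy0 : y (fun _ => 0) = 0 := by simp [y, top]
  have hy : ∀ a b : F, tRep hF E (uS hF a b) y = y := fun a b => by
    simp only [y, map_sub, map_smul, hx, tRep_uS_top]
  suffices y = 0 from sub_eq_zero.mp this
  funext f
  obtain ⟨c, hc⟩ := exists_comb hF e he (Pi.single (fun i => Fin.rev (f i)) 1)
  have h1 : y f = form hF E y (Pi.single (fun i => Fin.rev (f i)) 1) := by
    rw [form_single]; simp
  rw [h1, ← hc, Pi.zero_apply]
  unfold form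
  rw [Matrix.mulVec_sum, dotProduct_sum]
  refine Finset.sum_eq_zero fun p _ => ?_
  obtain ⟨a, b, hab⟩ := (mem_U hF).mp p.2
  rw [Matrix.mulVec_smul, dotProduct_smul, hab, ← hy a b]
  show c p • form hF E (tRep hF E (uS hF a b) y) (tRep hF E (uS hF a b) bot) = 0
  rw [form_invariant hF hm, form_bot, hy0, smul_zero]

end Span

end CfsgLib.CITExt.Sz
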