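import Cfsg.Agent.Lib.CITExt.Sz.Entries
import Mathlib.RingTheory.WittVector.Truncated
import Mathlib.RingTheory.WittVector.Teichmuller
import Mathlib.RingTheory.WittVector.Identities
import Mathlib.Algebra.Module.Injective
import Mathlib.Algebra.Module.ZMod

/-!
# Witt vectors of length 2 over a finite field of characteristic 2
-/

set_option autoImplicit false
set_option linter.unusedSectionVars false
set_option linter.style.haveILetI false

namespace CfsgLib.CITExtSz

open scoped Classical

variable (F : Type*) [Field F] [Fintype F] [CharP F 2]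

/-- Witt vectors of length 2. -/
abbrev W2 := TruncatedWittVector 2 2 F

variable {F}

local instance : Fact (Nat.Prime 2) := ⟨Nat.prime_two⟩

theorem truncate_surj (w : W2 F) : ∃ x : WittVector 2 F, WittVector.truncate 2 x = w :=
  WittVector.truncate_surjective 2 2 F w

theorem coeff_trunc (x : WittVector 2 F) (i : Fin 2) :
    TruncatedWittVector.coeff i (WittVector.truncate 2 x) = x.coeff i :=
  WittVector.coeff_truncate x i

/-- The residue. -/
noncomputable def res : W2 F →+* F where
  toFun w := TruncatedWittVector.coeff (0 : Fin 2) w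
  map_one' := by
    rw [← map_one (WittVector.truncate (p := 2) (R := F) 2), coeff_trunc]
    exact WittVector.one_coeff_zero 2 F
  map_mul' a b := by
    obtain ⟨x, rfl⟩ := truncate_surj a
    obtain ⟨y, rfl⟩ := truncate_surj b
    rw [← map_mul, coeff_trunc, coeff_trunc, coeff_trunc]
    exact WittVector.mul_coeff_zero x y
  map_zero' := by
    rw [← map_zero (WittVector.truncate (p := 2) (R := F) 2), coeff_trunc]
    exact WittVector.zero_coeff 2 F 0
  map_add' a b := by
    obtain ⟨x, rfl⟩ := truncate_surj a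
    obtain ⟨y, rfl⟩ := truncate_surj b
    rw [← map_add, coeff_trunc, coeff_trunc, coeff_trunc]
    exact WittVector.add_coeff_zero x y

theorem res_trunc (x : WittVector 2 F) : res (WittVector.truncate 2 x) = x.coeff 0 := coeff_trunc x 0

/-- The multiplicative lift. -/
noncomputable def tc : F →* W2 F :=
  (WittVector.truncate (p := 2) (R := F) 2).toMonoidHom.comp (WittVector.teichmuller 2)

@[simp] theorem res_tc (a : F) : res (tc a) = a := by
  show res (WittVector.truncate 2 (WittVector.teichmuller 2 a)) = a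
  rw [res_trunc, WittVector.teichmuller_coeff_zero]

@[simp] theorem tc_zero : tc (0 : F) = 0 := by
  show WittVector.truncate 2 (WittVector.teichmuller 2 (0 : F)) = 0
  rw [WittVector.teichmuller_zero, map_zero]

theorem coeff_mul_two (x : WittVector 2 F) :
    (x * 2).coeff 0 = 0 ∧ (x * 2).coeff 1 = x.coeff 0 ^ 2 := by
  have e : (2 : WittVector 2 F) = ((2 : ℕ) : WittVector 2 F) := by norm_num
  rw [e]
  exact ⟨WittVector.mul_charP_coeff_zero x, WittVector.mul_charP_coeff_succ x 0⟩

theorem four_mul_eq_zero (w : W2 F) : w * 2 * 2 = 0 := by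
  obtain ⟨x, rfl⟩ := truncate_surj w
  have e : (WittVector.truncate 2 x : W2 F) * 2 * 2 = WittVector.truncate 2 (x * 2 * 2) := by
    simp [map_mul, map_ofNat]
  rw [e]
  refine TruncatedWittVector.ext fun i => ?_
  rw [coeff_trunc, TruncatedWittVector.coeff_zero]
  obtain ⟨h0, h1⟩ := coeff_mul_two (x * 2)
  fin_cases i
  · exact h0
  · show (x * 2 * 2).coeff 1 = 0
    rw [h1, (coeff_mul_two x).1, zero_pow (two_ne_zero)]

theorem eq_two_mul_of_res {w : W2 F} (hw : res w = 0) : ∃ u, w = 2 * u := by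
  obtain ⟨x, rfl⟩ := truncate_surj w
  rw [res_trunc] at hw
  obtain ⟨r, hr⟩ := (PerfectRing.bijective_frobenius (R := F) (p := 2)).2 (x.coeff 1)
  refine ⟨WittVector.truncate 2 (WittVector.teichmuller 2 r), ?_⟩
  have e : (2 : W2 F) * WittVector.truncate 2 (WittVector.teichmuller 2 r) =
      WittVector.truncate 2 (WittVector.teichmuller 2 r * 2) := by
    simp [map_mul, map_ofNat, mul_comm]
  rw [e]
  refine TruncatedWittVector.ext fun i => ?_
  rw [coeff_trunc, coeff_trunc]
  obtain ⟨h0, h1⟩ := coeff_mul_two (WittVector.teichmuller 2 r)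
  fin_cases i
  · show x.coeff 0 = _
    rw [hw]; exact h0.symm
  · show x.coeff 1 = (WittVector.teichmuller 2 r * 2).coeff 1
    rw [h1, WittVector.teichmuller_coeff_zero]
    exact hr.symm

theorem res_two : res (2 : W2 F) = 0 := by
  rw [map_ofNat]; exact CharTwo.two_eq_zero

theorem two_mul_eq_zero_iff {w : W2 F} : 2 * w = 0 ↔ res w = 0 := by
  constructor
  · intro h
    obtain ⟨x, rfl⟩ := truncate_surj w
    have e : (2 : W2 F) * WittVector.truncate 2 x = WittVector.truncate 2 (x * 2) := by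
      simp [map_mul, map_ofNat, mul_comm]
    rw [e] at h
    have h1 := congr_arg (TruncatedWittVector.coeff (1 : Fin 2)) h
    rw [coeff_trunc, TruncatedWittVector.coeff_zero] at h1
    rw [res_trunc]
    exact eq_zero_of_pow_eq_zero ((coeff_mul_two x).2.symm.trans h1)
  · intro h
    obtain ⟨u, rfl⟩ := eq_two_mul_of_res h
    linear_combination four_mul_eq_zero u

theorem two_mul_congr {u v : W2 F} (h : res u = res v) : 2 * u = 2 * v := by
  rw [← sub_eq_zero, ← mul_sub, two_mul_eq_zero_iff, map_sub, h, sub_self]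

/-- The isomorphism of `F` with the elements killed by 2. -/
noncomputable def iot : F →+ W2 F where
  toFun a := 2 * tc a
  map_zero' := by simp
  map_add' a b := by
    rw [← mul_add]; exact two_mul_congr (by simp)

theorem iot_inj {a : F} (h : iot a = 0) : a = 0 := by
  simpa using two_mul_eq_zero_iff.1 (show 2 * tc a = 0 from h)

theorem iot_mul (w : W2 F) (a : F) : w * iot a = iot (res w * a) := by
  show w * (2 * tc a) = 2 * tc (res w * a)
  rw [mul_left_comm]
  exact two_mul_congr (by simp)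

/-- The sum formula for multiplicative lifts. -/
theorem tc_add {a b r : F} (hr : r ^ 2 = a * b) : tc (a + b) = tc a + tc b + 2 * tc r := by
  obtain ⟨s, hs⟩ := (PerfectRing.bijective_frobenius (R := F) (p := 2)).2 a
  obtain ⟨t, ht⟩ := (PerfectRing.bijective_frobenius (R := F) (p := 2)).2 b
  simp only at hs ht
  have hst : s * t = r :=
    (PerfectRing.bijective_frobenius (R := F) (p := 2)).1 (by
      show (s * t) ^ 2 = r ^ 2
      rw [mul_pow, hs, ht, hr])
  obtain ⟨u, hu⟩ := eq_two_mul_of_res (w := tc (s + t) - (tc s + tc t)) (by simp)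
  subst hst hs ht
  have e : tc (s ^ 2 + t ^ 2) = tc (s + t) ^ 2 := by rw [← map_pow, CharTwo.add_sq]
  rw [e, map_pow, map_pow, map_mul]
  linear_combination (tc (s + t) + tc s + tc t) * hu + (tc s + tc t) * four_mul_eq_zero u +
    u * four_mul_eq_zero u - u * hu * 0 + (2 * u) * hu

theorem four_eq_zero : (4 : W2 F) = 0 := by
  linear_combination four_mul_eq_zero (1 : W2 F)

theorem isUnit_of_res {w : W2 F} (hw : res w ≠ 0) : IsUnit w := by
  obtain ⟨u, hu⟩ := eq_two_mul_of_res (w := w * tc (res w)⁻¹ - 1)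
    (by simp [mul_inv_cancel₀ hw])
  refine IsUnit.of_mul_eq_one (tc (res w)⁻¹ * (w * tc (res w)⁻¹)) ?_
  linear_combination (w * tc (res w)⁻¹ + 1 + 2 * u) * hu + (u + u ^ 2) * four_eq_zero (F := F)

/-- Sums of lifted nontrivial powers vanish. -/
theorem sum_tc_pow {k : ℕ} (hk : k ≠ 0) {c : F} (hc0 : c ≠ 0) (hc : c ^ k ≠ 1) :
    ∑ b : F, tc (b ^ k) = 0 := by
  have h : tc (c ^ k) * ∑ b : F, tc (b ^ k) = ∑ b : F, tc (b ^ k) := by
    rw [Finset.mul_sum, ← Equiv.sum_comp (Equiv.mulLeft₀ c hc0) (fun b => tc (b ^ k))]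
    simp [mul_pow]
  refine (IsUnit.mul_right_eq_zero (isUnit_of_res (w := tc (c ^ k) - 1) ?_)).1 ?_
  · simpa [sub_eq_zero] using hc
  · rw [sub_mul, h, one_mul, sub_self]

/-- The key sum is twice a unit. -/
theorem key_sum (n : ℕ) {c : F} (hc0 : c ≠ 0) (hc : c ≠ 1) :
    ∑ z : F, tc ((z * (z + 1))⁻¹ ^ 2 ^ n) = -2 := by
  have hinj : ∀ x y : F, x ^ 2 ^ n = y ^ 2 ^ n → x = y := fun x y h =>
    (iterateFrobenius_inj F 2 n) (by simpa [iterateFrobenius_def] using h)
  have hn : 2 ^ n ≠ 0 := by positivity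
  have h0 : ∑ z : F, tc (z⁻¹ ^ 2 ^ n) = 0 := by
    rw [← sum_tc_pow hn hc0 (fun h => hc (hinj _ _ (h.trans (one_pow _).symm))),
      ← Equiv.sum_comp (Equiv.inv F) (fun z => tc (z ^ 2 ^ n))]
    rfl
  have h1 : ∑ z : F, tc ((z + 1)⁻¹ ^ 2 ^ n) = 0 := by
    rw [← h0]
    exact Equiv.sum_comp (Equiv.addRight (1 : F)) (fun z => tc (z⁻¹ ^ 2 ^ n))
  choose r hr using fun z : F =>
    (PerfectRing.bijective_frobenius (R := F) (p := 2)).2 (z⁻¹ ^ 2 ^ n * (z + 1)⁻¹ ^ 2 ^ n)
  have hr2 : res (∑ z : F, tc (r z)) = 0 := by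
    rw [map_sum]
    simp only [res_tc]
    refine Finset.sum_involution (fun z _ => z + 1) (fun z _ => ?_) (fun z _ _ => ?_)
      (fun z _ => Finset.mem_univ _) (fun z _ => ?_)
    · have : r (z + 1) = r z := (PerfectRing.bijective_frobenius (R := F) (p := 2)).1 (by
        rw [hr, hr, add_assoc, CharTwo.add_self_eq_zero, add_zero, mul_comm])
      rw [this, CharTwo.add_self_eq_zero]
    · simp
    · rw [add_assoc, CharTwo.add_self_eq_zero, add_zero]
  have key : ∀ z : F, tc (z⁻¹ ^ 2 ^ n) + tc ((z + 1)⁻¹ ^ 2 ^ n) + 2 * tc (r z) =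
      tc ((z * (z + 1))⁻¹ ^ 2 ^ n) + if z = 0 ∨ z = 1 then 1 else 0 := by
    intro z
    rw [← tc_add (hr z), ← add_pow_char_pow]
    split_ifs with h
    · rcases h with rfl | rfl <;> simp [CharTwo.add_self_eq_zero]
    · push Not at h
      have : z + 1 ≠ 0 := fun e => h.2 (by
        rw [← CharTwo.add_eq_zero]; exact e)
      rw [add_zero]
      congr 2
      refine eq_inv_of_mul_eq_one_left ?_
      rw [add_mul, inv_mul_cancel_left₀ h.1, mul_comm z, inv_mul_cancel_left₀ this,
        add_right_comm, CharTwo.add_self_eq_zero, zero_add]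
  have := Finset.sum_congr rfl fun z (_ : z ∈ (Finset.univ : Finset F)) => key z
  rw [Finset.sum_add_distrib, Finset.sum_add_distrib, Finset.sum_add_distrib, h0, h1,
    ← Finset.mul_sum, two_mul_eq_zero_iff.2 hr2, Finset.sum_ite, Finset.sum_const_zero] at this
  have hcard : ({z : F | z = 0 ∨ z = 1} : Finset F) = {0, 1} := by ext; simp
  rw [Finset.sum_const, hcard, Finset.card_pair zero_ne_one] at this
  simp only [add_zero, nsmul_eq_mul, Nat.cast_ofNat, mul_one] at this
  linear_combination -this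

/-- `W2 F` is injective among groups of exponent 4. -/
theorem exists_extend_hom {Q : Type*} [AddCommGroup Q] (h4 : ∀ x : Q, 4 • x = 0) (K : AddSubgroup Q)
    (f : K →+ W2 F) : ∃ g : Q →+ W2 F, ∀ x : K, g x = f x := by
  letI : Module (ZMod 4) Q := AddCommGroup.zmodModule h4
  letI : Module (ZMod 4) (W2 F) := AddCommGroup.zmodModule (fun x => by
    rw [nsmul_eq_mul, Nat.cast_ofNat, four_eq_zero, zero_mul])
  have hB : Module.Baer (ZMod 4) (W2 F) := by
    intro I g
    by_cases h1 : (1 : ZMod 4) ∈ I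
    · refine ⟨LinearMap.toSpanSingleton _ _ (g ⟨1, h1⟩), fun x hx => ?_⟩
      rw [LinearMap.toSpanSingleton_apply, ← map_smul]
      congr 1
      exact Subtype.ext (mul_one x)
    · have h3 : (3 : ZMod 4) ∉ I := fun h => h1 (by
        have := I.mul_mem_left 3 h
        rwa [show (3 : ZMod 4) * 3 = 1 from by decide] at this)
      by_cases h2 : (2 : ZMod 4) ∈ I
      · have hk : 2 * g ⟨2, h2⟩ = 0 := by
          rw [two_mul, ← map_add, show (⟨2, h2⟩ + ⟨2, h2⟩ : I) = 0 from Subtype.ext (show (2 : ZMod 4) + 2 = 0 by decide),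
            map_zero]
        obtain ⟨u, hu⟩ := eq_two_mul_of_res (two_mul_eq_zero_iff.1 hk)
        refine ⟨LinearMap.toSpanSingleton _ _ u, fun x hx => ?_⟩
        rw [LinearMap.toSpanSingleton_apply]
        rcases (show ∀ y : ZMod 4, y = 0 ∨ y = 1 ∨ y = 2 ∨ y = 3 by decide) x with
          rfl | rfl | rfl | rfl
        · rw [zero_smul, show (⟨0, hx⟩ : I) = 0 from rfl, map_zero]
        · exact absurd hx h1
        · rw [hu, show (2 : ZMod 4) = 1 + 1 from by decide, add_smul, one_smul, two_mul]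
        · exact absurd hx h3
      · refine ⟨0, fun x hx => ?_⟩
        rcases (show ∀ y : ZMod 4, y = 0 ∨ y = 1 ∨ y = 2 ∨ y = 3 by decide) x with
          rfl | rfl | rfl | rfl
        · rw [show (⟨0, hx⟩ : I) = 0 from rfl, map_zero, map_zero]
        · exact absurd hx h1
        · exact absurd hx h2
        · exact absurd hx h3
  let K' : Submodule (ZMod 4) Q := AddSubgroup.toZModSubmodule 4 K
  let f' : K' →ₗ[ZMod 4] W2 F := (AddMonoidHom.mk' (fun x : K' => f ⟨x.1, x.2⟩)
    (fun a b => by rw [← map_add]; rfl)).toZModLinearMap 4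
  obtain ⟨g, hg⟩ := hB.extension_property K'.subtype K'.injective_subtype f'
  exact ⟨g.toAddMonoidHom, fun x => LinearMap.congr_fun hg ⟨x.1, x.2⟩⟩

end CfsgLib.CITExtSz
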